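import Mathlib
import Cfsg.Agent.OddCyclic.COneXL_m3
import Cfsg.Agent.OddCyclic.Eq.Prim
import Cfsg.Agent.OddCyclic.FFSl2
import Cfsg.Agent.OddCyclic.FFThree_m3
import Cfsg.Agent.OddCyclic.FFRed
import Cfsg.Agent.OddCyclic.RedFFDefs_m3
import Cfsg.Agent.OddCyclic.GamFar_m3
import Cfsg.Agent.OddCyclic.ClaimC.Sz
import Cfsg.Agent.OddCyclic.AOneSit_m3
import Cfsg.Agent.FastGrp
import Cfsg.Agent.Prune
set_option linter.all false

section
prune_inst 0x7ffcfcfbaff88ddedfff7e7ffedddffc38d4dfffffdff90bfff8e9ffafdf230229e5fb8d8de058ff0ef6629430b87813f9ffce7feb6bdc7ffffd5ff45ffbee1fe5f7bd8851d688340fbc0fff03f07fce7f3fffffffffffffffffffffffffffbeffffffffffff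

-- part: OddCyclic/EmpC/LemN
section
prune_inst 0x200000000002000000001200003c4282000000002f0000402005020c80cd6100022720b8100700180020844038000001080049000000000000020001180080802350021334ad0436000f801800000000000000000000000000000000000000000000000
set_option linter.all false
open scoped Cfsg.Agent.FastGrp

-- part: OddCyclic/EmpC/Fit
section
/-!
# CLAIM C, section 3: `E` centralises the Fitting subgroup
-/

set_option autoImplicit false
set_option linter.unusedSectionVars false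

namespace Cfsg.Agent.OddCyclic.EmpC

open Subgroup Cfsg.Agent.OddCyclic.T1Module Cfsg.Agent.OddCyclic.FFBasic Cfsg.Agent.OddCyclic.FFRed
open Cfsg.Agent.OddCyclic.T1Defs Cfsg.Agent.OddCyclic.CompBasic Cfsg.Agent.OddCyclic.FFStruct
open Cfsg.Agent.OddCyclic.PumpMain (KZero)
open Cfsg.Agent.SignalizersComponents.Components

variable {H : Type*} [Group H] {V : Type*} [CommGroup V]

section coprime

variable {ρ : H →* MulAut V} {y : H}

theorem range_inf_fx (hV : ∀ v : V, v * v = 1) (hy : Odd (orderOf y)) : (cm ρ y).range ⊓ fx ρ y = ⊥ := by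
  rw [eq_bot_iff]
  rintro w ⟨hw, hw'⟩
  exact Subgroup.mem_bot.2 (eq_one_of_fix hV hy hw hw')

theorem range_sup_fx [Finite V] (hV : ∀ v : V, v * v = 1) (hy : Odd (orderOf y)) :
    (cm ρ y).range ⊔ fx ρ y = ⊤ := by
  have h1 : (fx ρ y).relIndex ((cm ρ y).range ⊔ fx ρ y) = (fx ρ y).index := by
    rw [Subgroup.relIndex_sup_right, ← Subgroup.inf_relIndex_right, inf_comm, range_inf_fx hV hy,
      Subgroup.relIndex_bot_left, card_range_cm]
  have h2 : Nat.card (fx ρ y) * (fx ρ y).relIndex ((cm ρ y).range ⊔ fx ρ y) =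
      Nat.card ((cm ρ y).range ⊔ fx ρ y : Subgroup V) := card_mul_relIndex le_sup_right
  rw [h1, (fx ρ y).card_mul_index] at h2
  exact Subgroup.eq_top_of_card_eq _ h2.symm

/-- elements normalising `⟨y⟩` act on `C_V(y)` -/
theorem apply_mem_fx {z : H} (h : z⁻¹ * y * z ∈ zpowers y) {v : V} (hv : v ∈ fx ρ y) : ρ z v ∈ fx ρ y := by
  obtain ⟨k, hk⟩ := h
  have hk' : y ^ k = z⁻¹ * y * z := hk
  rw [mem_fx]
  have h1 : ρ y (ρ z v) = ρ z (ρ (y ^ k) v) := by
    rw [← MulAut.mul_apply, ← MulAut.mul_apply, ← map_mul, ← map_mul, hk']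
    congr 2
    group
  rw [h1]
  have h2 : ρ (y ^ k) v = v := by
    obtain ⟨m, rfl | rfl⟩ := k.eq_nat_or_neg
    · rw [zpow_natCast]; exact fx_pow ρ hv m
    · rw [_root_.zpow_neg, zpow_natCast]; exact fx_inv ρ (fx_pow ρ hv m)
  rw [h2]

end coprime

variable [Finite H] [Finite V] {ρ : H →* MulAut V} {E : Subgroup H} {R D : Subgroup V} {c d : ℕ}

/-- the situation: `a ∈ E` inverts `x`, of odd prime order, `⟨x⟩` normal -/
structure InvX (ρ : H →* MulAut V) (E : Subgroup H) (a x : H) (r : ℕ) : Prop where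
  memE : a ∈ E
  prime : r.Prime
  ne_two : r ≠ 2
  ord : orderOf x = r
  nor : (zpowers x).Normal
  inv : a * x * a⁻¹ = x⁻¹

namespace InvX

variable {a x : H} {r : ℕ}

theorem odd (s : InvX ρ E a x r) : Odd (orderOf x) := by rw [s.ord]; exact s.prime.odd_of_ne_two s.ne_two

theorem ne_one (s : InvX ρ E a x r) : x ≠ 1 := by
  intro h
  have := s.ord
  rw [h, orderOf_one] at this
  exact s.prime.one_lt.ne this

theorem conj_mem (s : InvX ρ E a x r) (g : H) : g * x * g⁻¹ ∈ zpowers x := s.nor.conj_mem x (mem_zpowers x) g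

theorem conj_mem' (s : InvX ρ E a x r) (g : H) : g⁻¹ * x * g ∈ zpowers x := by
  have := s.conj_mem g⁻¹
  rwa [inv_inv] at this

/-- the centraliser of `x` in `E` -/
def E1 (E : Subgroup H) (x : H) : Subgroup H := E ⊓ centralizer {x}

theorem mem_E1 {e : H} : e ∈ E1 E x ↔ e ∈ E ∧ e * x = x * e := by
  rw [E1, Subgroup.mem_inf, mem_centralizer_singleton_iff]

theorem E1_le : E1 E x ≤ E := inf_le_left

variable (h : Cfg ρ E R D c d) (hV : ∀ v : V, v * v = 1) (hN : NFF ρ) (hρ : Function.Injective ρ)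

include h hV hN hρ

theorem nontriv {y : H} (hy : y ≠ 1) : ∃ v, ρ y v ≠ v := by
  by_contra hcon
  push Not at hcon
  apply hy
  apply hρ
  rw [map_one]
  ext v
  exact hcon v

theorem eq_or (s : InvX ρ E a x r) {e : H} (he : e ∈ E) : e * x = x * e ∨ e * x * e⁻¹ = x⁻¹ :=
  eq_or_inv s.prime s.ord (h.sq e he) (s.conj_mem e)

theorem not_both (s : InvX ρ E a x r) {e : H} (h1 : e * x = x * e) (h2 : e * x * e⁻¹ = x⁻¹) : False := by
  have h3 : x = x⁻¹ := by
    rw [← h2, h1]; group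
  have h4 : x ^ 2 = 1 := by
    rw [pow_two]
    nth_rewrite 2 [h3]
    rw [mul_inv_cancel]
  have h5 := orderOf_dvd_of_pow_eq_one h4
  rw [s.ord, Nat.dvd_prime Nat.prime_two] at h5
  rcases h5 with h5 | h5
  · exact s.prime.one_lt.ne' h5
  · exact s.ne_two h5

theorem a_ne_one (s : InvX ρ E a x r) : a ≠ 1 := by
  intro h1
  refine not_both h hV hN hρ s (e := a) ?_ s.inv
  rw [h1, one_mul, mul_one]

/-- `C_V(x) ≤ C_V(E)` -/
theorem fx_le (s : InvX ρ E a x r) : fx ρ x ≤ CS ρ E := by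
  have h1 : ∀ b ∈ E, ∀ w ∈ (cm ρ x).range, ρ b w ∈ (cm ρ x).range := by
    intro b hb w hw
    rcases eq_or h hV hN hρ s hb with h2 | h2
    · exact apply_mem_range ρ h2 hw
    · exact apply_mem_range_of_inv ρ h2 hw
  have h2 : ∀ b ∈ E, ∀ w ∈ fx ρ x, ρ b w ∈ fx ρ x := fun b _ w hw => apply_mem_fx (s.conj_mem' b) hw
  rcases h.trivial_or hV hN h1 h2 (range_inf_fx hV s.odd) (range_sup_fx hV s.odd) with h3 | h3
  · exfalso
    obtain ⟨v, hv⟩ := nontriv h hV hN hρ s.ne_one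
    apply hv
    have h4 : ∀ w ∈ (cm ρ x).range, ρ x w = w := by
      intro w hw
      apply fx_of_sq ρ s.odd
      have hxw : ρ x w ∈ (cm ρ x).range := apply_mem_range ρ rfl hw
      have h5 : ρ a (ρ x w) = ρ x w := h3 hxw a s.memE
      have h6 : ρ a w = w := h3 hw a s.memE
      have h7 : ρ (a * x) w = ρ (x⁻¹ * a) w := by
        have : a * x = x⁻¹ * a := by rw [← s.inv]; group
        rw [this]
      rw [map_mul, map_mul, MulAut.mul_apply, MulAut.mul_apply, h5, h6] at h7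
      rw [mem_fx, map_mul, MulAut.mul_apply, h7, ← MulAut.mul_apply, ← map_mul, mul_inv_cancel, map_one]
      rfl
    have h5 := eq_one_of_fix hV s.odd (ρ := ρ) ⟨v, rfl⟩ (h4 _ ⟨v, rfl⟩)
    rwa [cm_apply, mul_inv_eq_one] at h5
  · exact h3

theorem fx_le_D (s : InvX ρ E a x r) : fx ρ x ≤ D := (fx_le h hV hN hρ s).trans h.CSE_le

/-- the image of `D` under `x` -/
def Dx (ρ : H →* MulAut V) (D : Subgroup V) (x : H) : Subgroup V := D.map (ρ x : V →* V)

omit [Finite H] [Finite V] h hV hN hρ in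
theorem mem_Dx {v : V} : v ∈ Dx ρ D x ↔ ∃ w ∈ D, ρ x w = v := Iff.rfl

/-- `D D^x = V` -/
theorem sup_Dx (s : InvX ρ E a x r) : D ⊔ Dx ρ D x = ⊤ := by
  rw [eq_top_iff, ← range_sup_fx (ρ := ρ) hV s.odd]
  refine sup_le ?_ ((fx_le_D h hV hN hρ s).trans le_sup_left)
  -- `x⁻²` is a product of two conjugates of `a`
  have h1 : ∀ v, ρ (x⁻¹ * x⁻¹) v * v⁻¹ ∈ D ⊔ Dx ρ D x := by
    intro v
    have e1 : x⁻¹ * x⁻¹ = a * (x * a * x⁻¹) := by
      have : a * x = x⁻¹ * a := by rw [← s.inv]; group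
      calc x⁻¹ * x⁻¹ = x⁻¹ * (a * a) * x⁻¹ := by rw [h.sq a s.memE, mul_one]
        _ = (x⁻¹ * a) * a * x⁻¹ := by group
        _ = (a * x) * a * x⁻¹ := by rw [this]
        _ = _ := by group
    set a' := x * a * x⁻¹ with ha'
    have e2 : ρ (x⁻¹ * x⁻¹) v * v⁻¹ = (ρ a (ρ a' v) * (ρ a' v)⁻¹) * (ρ a' v * v⁻¹) := by
      rw [e1, map_mul, MulAut.mul_apply]; group
    rw [e2]
    refine mul_mem (Subgroup.mem_sup_left (h.comm_mem _ s.memE)) (Subgroup.mem_sup_right ?_)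
    refine ⟨ρ a (ρ x⁻¹ v) * (ρ x⁻¹ v)⁻¹, h.comm_mem _ s.memE, ?_⟩
    show ρ x (ρ a (ρ x⁻¹ v) * (ρ x⁻¹ v)⁻¹) = _
    have e3 : ρ x (ρ a (ρ x⁻¹ v)) = ρ a' v := by
      rw [← MulAut.mul_apply, ← MulAut.mul_apply, ← map_mul ρ, ← map_mul ρ, ha', mul_assoc]
    have e4 : ρ x (ρ x⁻¹ v) = v := by
      rw [← MulAut.mul_apply, ← map_mul ρ, mul_inv_cancel, map_one]; rfl
    rw [map_mul (ρ x), map_inv (ρ x), e3, e4]
  -- `x` is a power of `x⁻²`
  have h2 : ∀ n : ℕ, ∀ v, ρ ((x⁻¹ * x⁻¹) ^ n) v * v⁻¹ ∈ D ⊔ Dx ρ D x := by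
    intro n
    induction n with
    | zero => intro v; rw [pow_zero, map_one, MulAut.one_apply, mul_inv_cancel]; exact one_mem _
    | succ n ih =>
      intro v
      have e2 : ρ ((x⁻¹ * x⁻¹) ^ (n + 1)) v * v⁻¹ = (ρ ((x⁻¹ * x⁻¹) ^ n) (ρ (x⁻¹ * x⁻¹) v) * (ρ (x⁻¹ * x⁻¹) v)⁻¹) *
          (ρ (x⁻¹ * x⁻¹) v * v⁻¹) := by
        rw [pow_succ, map_mul, MulAut.mul_apply]; group
      rw [e2]
      exact mul_mem (ih _) (h1 v)
  obtain ⟨k, hk⟩ := s.odd
  have h3 : (x⁻¹ * x⁻¹) ^ k = x := by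
    rw [← pow_two, ← pow_mul, inv_pow, inv_eq_iff_mul_eq_one, ← pow_succ, ← hk, pow_orderOf_eq_one]
  rintro _ ⟨v, rfl⟩
  rw [cm_apply]
  have := h2 k v
  rwa [h3] at this

/-- `[V, E₁, E₁] = 1` -/
theorem quad (s : InvX ρ E a x r) {e e' : H} (he : e ∈ E1 E x) (he' : e' ∈ E1 E x) (v : V) :
    ρ e' (ρ e v * v⁻¹) = ρ e v * v⁻¹ := by
  rw [mem_E1] at he he'
  have hv : v ∈ D ⊔ Dx ρ D x := by rw [sup_Dx h hV hN hρ s]; trivial
  obtain ⟨u, hu, w, hw, rfl⟩ := Subgroup.mem_sup.1 hv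
  obtain ⟨w, hwD, rfl⟩ := mem_Dx.1 hw
  have h1 : ρ e (u * ρ x w) * (u * ρ x w)⁻¹ = (ρ e u * u⁻¹) * ρ x (ρ e w * w⁻¹) := by
    have h2 : ρ e (ρ x w) = ρ x (ρ e w) := by
      rw [← MulAut.mul_apply, ← MulAut.mul_apply, ← map_mul, ← map_mul, he.2]
    rw [map_mul, h2, mul_inv, mul_mul_mul_comm, map_mul (ρ x), map_inv]
  rw [h1, map_mul, h.fix_apply (h.dcomm u hu e he.1) he'.1]
  congr 1
  have h3 := h.fix_apply (h.dcomm w hwD e he.1) he'.1
  rw [← MulAut.mul_apply, ← map_mul ρ, he'.2, map_mul ρ, MulAut.mul_apply, h3]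

theorem mem_E1_of (s : InvX ρ E a x r) {e : H} (he : e ∈ E) (hne : e ∉ E1 E x) : a * e ∈ E1 E x := by
  rw [mem_E1] at hne ⊢
  refine ⟨mul_mem s.memE he, ?_⟩
  rcases eq_or h hV hN hρ s he with h1 | h1
  · exact absurd ⟨he, h1⟩ hne
  · have h2 : e * x = x⁻¹ * e := by rw [← h1]; group
    have h3 : a * x⁻¹ = x * a := by
      have := s.inv
      have h4 : a * x⁻¹ * a⁻¹ = x := by rw [← inv_inj, mul_inv_rev, mul_inv_rev, inv_inv, inv_inv, ← mul_assoc, this]
      calc a * x⁻¹ = a * x⁻¹ * a⁻¹ * a := by group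
        _ = x * a := by rw [h4]
    rw [mul_assoc, h2, ← mul_assoc, h3, mul_assoc]

theorem card_E_le (s : InvX ρ E a x r) : Nat.card E ≤ 2 * Nat.card (E1 E x) := by
  classical
  have h1 : Nat.card E ≤ Nat.card (Bool × E1 E x) := by
    refine Nat.card_le_card_of_injective (fun e : E => if he : (e : H) ∈ E1 E x then (true, ⟨(e : H), he⟩) else
      (false, ⟨a * e, mem_E1_of h hV hN hρ s e.2 he⟩)) ?_
    intro e e' hee
    dsimp only at hee
    split_ifs at hee with h1 h2 h2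
    · rw [Prod.mk.injEq, Subtype.mk.injEq] at hee
      exact Subtype.ext hee.2
    · rw [Prod.mk.injEq] at hee
      exact absurd hee.1 (by simp)
    · rw [Prod.mk.injEq] at hee
      exact absurd hee.1 (by simp)
    · rw [Prod.mk.injEq, Subtype.mk.injEq] at hee
      exact Subtype.ext (mul_left_cancel hee.2)
  rwa [Nat.card_prod, Nat.card_eq_fintype_card (α := Bool), Fintype.card_bool] at h1

theorem E1_ne_bot (s : InvX ρ E a x r) : E1 E x ≠ ⊥ := by
  intro h1
  have h2 := card_E_le h hV hN hρ s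
  rw [h1, Subgroup.card_bot, h.card] at h2
  have h3 : 2 ^ 2 ≤ 2 ^ c := Nat.pow_le_pow_right (by norm_num) h.two
  omega

/-- `|D| ≤ 2 |C_V(E₁)|` -/
theorem card_D_le (s : InvX ρ E a x r) : Nat.card D ≤ 2 * Nat.card (CS ρ (E1 E x)) := by
  obtain ⟨v, hv⟩ := h.exists_notMem
  have h1 : Nat.card (E1 E x × R) ≤ Nat.card (CS ρ (E1 E x)) := by
    refine Nat.card_le_card_of_injective (fun p : E1 E x × R => (⟨ρ p.1 v * v⁻¹ * p.2, ?_⟩ : CS ρ (E1 E x))) ?_
    · refine mul_mem ?_ ?_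
      · intro e he
        exact quad h hV hN hρ s p.1.2 he v
      · exact fun e he => h.fix p.2.2 e (E1_le he)
    · rintro ⟨e, u⟩ ⟨e', u'⟩ hee
      have h2 : ρ (e : H) v * v⁻¹ * u = ρ (e' : H) v * v⁻¹ * u' := congrArg Subtype.val hee
      have heE := E1_le e.2
      have heE' := E1_le e'.2
      have h3 : (ρ (e : H) v * v⁻¹) * (ρ (e' : H) v * v⁻¹) ∈ R := by
        have h4 : (ρ (e : H) v * v⁻¹) = (ρ (e' : H) v * v⁻¹) * (u' * u) := by
          have : (ρ (e : H) v * v⁻¹ * u) * u = (ρ (e' : H) v * v⁻¹ * u') * u := by rw [h2]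
          rwa [mul_assoc, hV, mul_one, mul_assoc] at this
        rw [h4, mul_comm (ρ (e' : H) v * v⁻¹) _, mul_assoc, hV, mul_one]
        exact mul_mem u'.2 u.2
      have h5 := mul_mem (h.comm_mul v heE heE') h3
      rw [inv_mul_cancel_right] at h5
      have h6 := h.inj v hv _ (mul_mem heE heE') h5
      have h7 : (e : H) = e' := by
        rw [mul_eq_one_iff_eq_inv.1 h6]
        exact inv_eq_of_mul_eq_one_left (h.sq _ heE')
      have h8 : e = e' := Subtype.ext h7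
      subst h8
      have h9 : (u : V) = u' := mul_left_cancel h2
      rw [Subtype.ext h9]
  rw [Nat.card_prod] at h1
  rw [h.card_D hV]
  calc Nat.card E * Nat.card R ≤ 2 * Nat.card (E1 E x) * Nat.card R := Nat.mul_le_mul_right _ (card_E_le h hV hN hρ s)
    _ ≤ 2 * Nat.card (CS ρ (E1 E x)) := by rw [mul_assoc]; exact Nat.mul_le_mul_left _ h1

/-- the numerical outcome -/
theorem numbers (s : InvX ρ E a x r) : Nat.card E = 4 ∧ Nat.card (E1 E x) = 2 ∧ D.index = 2 ∧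
    (CS ρ (E1 E x)).index = 4 := by
  set C := CS ρ (E1 E x) with hC
  have hCD : C ≤ D := h.CS_le E1_le (E1_ne_bot h hV hN hρ s)
  have hCDx : C ≤ Dx ρ D x := by
    intro w hw
    refine ⟨ρ x⁻¹ w, hCD ?_, ?_⟩
    · intro e he
      have he' := mem_E1.1 he
      have h1 : ρ e (ρ x⁻¹ w) = ρ x⁻¹ (ρ e w) := by
        rw [← MulAut.mul_apply, ← MulAut.mul_apply, ← map_mul, ← map_mul]
        congr 2
        have h2 := he'.2
        calc e * x⁻¹ = x⁻¹ * (x * e) * x⁻¹ := by group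
          _ = x⁻¹ * (e * x) * x⁻¹ := by rw [h2]
          _ = x⁻¹ * e := by group
      rw [h1, hw e he]
    · show ρ x (ρ x⁻¹ w) = w
      rw [← MulAut.mul_apply, ← map_mul, mul_inv_cancel, map_one]; rfl
  -- `|V : D| = |D^x : D ∩ D^x| ≤ |D^x : C| = |D : C| ≤ 2`
  have hcardx : Nat.card (Dx ρ D x) = Nat.card D :=
    Subgroup.card_map_of_injective (K := D) (f := (ρ x : V →* V)) (ρ x).injective
  have h1 : D.index = D.relIndex (Dx ρ D x) := by
    rw [← Subgroup.relIndex_top_right, ← sup_Dx h hV hN hρ s, sup_comm, Subgroup.relIndex_sup_right]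
  have h2 : Nat.card (D ⊓ Dx ρ D x : Subgroup V) * D.relIndex (Dx ρ D x) = Nat.card D := by
    rw [← hcardx, ← Subgroup.inf_relIndex_right]
    exact card_mul_relIndex inf_le_right
  have h3 : Nat.card C ≤ Nat.card (D ⊓ Dx ρ D x : Subgroup V) := Subgroup.card_le_of_le (le_inf hCD hCDx)
  have h4 := card_D_le h hV hN hρ s
  rw [← hC] at h4
  have hpos : 0 < Nat.card C := Nat.card_pos
  have h5 : D.index ≤ 2 := by
    rw [h1]
    by_contra hcon
    push Not at hcon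
    have h6 : Nat.card C * 3 ≤ Nat.card D := by
      rw [← h2]
      exact Nat.mul_le_mul h3 hcon
    omega
  have h6 : D.index = 2 := by
    have h7 := h.index
    have h8 : 2 ^ 1 ≤ 2 ^ d := Nat.pow_le_pow_right (by norm_num) h.pos
    omega
  have h7 : Nat.card C * C.index = Nat.card D * 2 := by
    rw [C.card_mul_index, ← h6, D.card_mul_index]
  have h8 : C.index ≤ 4 := by
    by_contra hcon
    push Not at hcon
    have : Nat.card C * 5 ≤ Nat.card C * C.index := Nat.mul_le_mul_left _ hcon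
    omega
  have h9 := hN (E1 E x) (fun e he => h.sq e (E1_le he)) (E1_ne_bot h hV hN hρ s)
  rw [← hC] at h9
  have h10 := card_E_le h hV hN hρ s
  have h11 : 2 ^ 2 ≤ 2 ^ c := Nat.pow_le_pow_right (by norm_num) h.two
  have h12 := h.card
  have h13 : Nat.card (E1 E x) ∣ Nat.card E := Subgroup.card_dvd_of_le E1_le
  obtain ⟨m, hm⟩ := index_pow hV C
  have h14 : Nat.card (E1 E x) ≤ 3 := by omega
  have h15 : ¬ 3 ∣ Nat.card E := by
    rw [h12]
    intro h16
    have := Nat.Prime.dvd_of_dvd_pow Nat.prime_three h16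
    omega
  have h16 : Nat.card (E1 E x) = 2 := by
    have h17 : Nat.card (E1 E x) ≠ 3 := fun h18 => h15 (h18 ▸ h13)
    omega
  have h17 : c = 2 := by
    have h18 : 2 ^ c ≤ 2 ^ 2 := by omega
    have := (Nat.pow_le_pow_iff_right (by norm_num : 1 < 2)).1 h18
    have := h.two
    omega
  have h18 : C.index = 4 := by
    have h19 : 2 < C.index := by omega
    rw [hm] at h19 h8 ⊢
    have h20 : m ≤ 2 := (Nat.pow_le_pow_iff_right (by norm_num : 1 < 2)).1 (by omega : 2 ^ m ≤ 2 ^ 2)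
    interval_cases m <;> omega
  exact ⟨by rw [h12, h17]; norm_num, h16, h6, h18⟩

/-- `x` is nontrivial on `[V, e]` for `e ∈ C_E(x)`, `e ≠ 1` -/
theorem nontriv_range (s : InvX ρ E a x r) {e : H} (he : e ∈ E1 E x) (he1 : e ≠ 1) :
    ∃ w ∈ (cm ρ e).range, ρ x w ≠ w := by
  by_contra hcon
  push Not at hcon
  obtain ⟨heE, hex⟩ := mem_E1.1 he
  obtain ⟨v, hv⟩ := nontriv h hV hN hρ he1
  apply hv
  have h1 : v ∈ (cm ρ x).range ⊔ fx ρ x := by rw [range_sup_fx hV s.odd]; trivial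
  obtain ⟨u, hu, w, hw, rfl⟩ := Subgroup.mem_sup.1 h1
  have h2 : ρ e w = w := fx_le h hV hN hρ s hw e heE
  have h3 : ρ e u * u⁻¹ ∈ (cm ρ x).range := mul_mem (apply_mem_range ρ hex hu) (inv_mem hu)
  have h4 := eq_one_of_fix hV s.odd h3 (hcon _ ⟨u, rfl⟩)
  rw [mul_inv_eq_one] at h4
  rw [map_mul, h2, h4]

/-- an element of odd prime order acting nontrivially on `[V, e]` has order 3 -/
theorem eq_three (h4 : Nat.card E = 4) {e z : H} (he : e ∈ E) (he1 : e ≠ 1) {l : ℕ} (hl : l.Prime) (hl2 : l ≠ 2)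
    (hz : orderOf z = l) (hze : z * e = e * z) (hne : ∃ w ∈ (cm ρ e).range, ρ z w ≠ w) : l = 3 := by
  have hst : ∀ n ∈ zpowers z, ∀ w ∈ (cm ρ e).range, ρ n w ∈ (cm ρ e).range := by
    rintro _ ⟨k, rfl⟩ w hw
    exact apply_mem_range ρ ((show Commute z e from hze).zpow_left k) hw
  let z' : zpowers z := ⟨z, mem_zpowers z⟩
  have hz' : orderOf z' = l := by rw [← Subgroup.orderOf_coe]; exact hz
  obtain ⟨k, hk, h5, h6⟩ := prim (ρ := res ρ (zpowers z) (cm ρ e).range hst)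
    (fun v => Subtype.ext (hV v)) hl hl2 hz' (by
      obtain ⟨w, hw, hw'⟩ := hne
      exact ⟨⟨w, hw⟩, fun h7 => hw' (congrArg Subtype.val h7)⟩)
  have h7 : 2 ^ k ≤ 4 := by
    rw [← h5]
    have h8 : (fx (res ρ (zpowers z) (cm ρ e).range hst) z').index ≤ Nat.card (cm ρ e).range :=
      Nat.le_of_dvd Nat.card_pos (Subgroup.index_dvd_card _)
    refine h8.trans ?_
    rw [card_range_cm, ← h4]
    exact h.width hV he he1
  have h8 : k ≤ 2 := (Nat.pow_le_pow_iff_right (by norm_num : 1 < 2)).1 (by omega : 2 ^ k ≤ 2 ^ 2)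
  have h9 : k = 1 ∨ k = 2 := by omega
  rcases h9 with rfl | rfl
  · exfalso
    have := Nat.le_of_dvd (by norm_num) h6
    have := hl.two_le
    omega
  · exact (Nat.prime_dvd_prime_iff_eq hl Nat.prime_three).1 h6

theorem r_eq_three (s : InvX ρ E a x r) : r = 3 := by
  obtain ⟨h4, h5, -, -⟩ := numbers h hV hN hρ s
  obtain ⟨⟨e, he⟩, he1⟩ := Subgroup.ne_bot_iff_exists_ne_one.1 (E1_ne_bot h hV hN hρ s)
  have he1' : e ≠ 1 := fun h => he1 (Subtype.ext h)
  exact eq_three h hV hN hρ h4 (mem_E1.1 he).1 he1' s.prime s.ne_two s.ord (mem_E1.1 he).2.symm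
    (nontriv_range h hV hN hρ s he he1')

end InvX

open InvX in
/-- **section 3** : `E` centralises the Fitting subgroup of `H` -/
theorem fitting (h : Cfg ρ E R D c d) (hV : ∀ v : V, v * v = 1) (hN : NFF ρ) (hρ : Function.Injective ρ)
    (hc : OddCyc H) (hk : ∀ J : Subgroup H, IsSimpleGroup J → (∃ x y : J, x * y ≠ y * x) → KZero J)
    (h2 : pCore 2 H = ⊥) : ∀ a ∈ E, ∀ x ∈ fittingSubgroup H, a * x = x * a := by
  by_contra hcon
  push Not at hcon
  obtain ⟨a, ha, x, hx, hax⟩ := hcon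
  obtain ⟨r, y, hr, hr2, hyF, hyo, hyn, hay, hay'⟩ := exists_inverted hc h2 (h.sq a ha) hx hax
  have s : InvX ρ E a y r := ⟨ha, hr, hr2, hyo, hyn, hay⟩
  obtain rfl := r_eq_three h hV hN hρ s
  obtain ⟨h4, h5, -, -⟩ := numbers h hV hN hρ s
  obtain ⟨⟨e, he⟩, he1'⟩ := Subgroup.ne_bot_iff_exists_ne_one.1 (E1_ne_bot h hV hN hρ s)
  have he1 : e ≠ 1 := fun h => he1' (Subtype.ext h)
  obtain ⟨heE, hey⟩ := mem_E1.1 he
  -- `e` centralises the Fitting subgroup
  have heF : ∀ x ∈ fittingSubgroup H, e * x = x * e := by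
    intro x hx
    by_contra hex
    obtain ⟨r', y', hr', hr2', hyF', hyo', hyn', hay1, hay''⟩ := exists_inverted hc h2 (h.sq e heE) hx hex
    have s' : InvX ρ E e y' r' := ⟨heE, hr', hr2', hyo', hyn', hay1⟩
    obtain rfl := r_eq_three h hV hN hρ s'
    have hcyc := isCyclic_fitting hc h2
    have h7 : orderOf (⟨y', hyF'⟩ : fittingSubgroup H) = orderOf (⟨y, hyF⟩ : fittingSubgroup H) := by
      rw [Subgroup.orderOf_mk, Subgroup.orderOf_mk, hyo, hyo']
    have h8 := zpowers_eq_of_cyclic h7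
    have h9 : (⟨y', hyF'⟩ : fittingSubgroup H) ∈ zpowers (⟨y, hyF⟩ : fittingSubgroup H) := by
      rw [← h8]; exact mem_zpowers _
    obtain ⟨k, hk'⟩ := h9
    have h10 : y ^ k = y' := congrArg Subtype.val hk'
    apply hay''
    rw [← h10]
    exact (Commute.zpow_right (show Commute e y from hey) k).eq
  -- a component
  obtain ⟨K, hK, heK⟩ : ∃ K : Subgroup H, IsComponent K ∧ e ∉ centralizer (K : Set H) := by
    by_contra hcon
    push Not at hcon
    exact he1 (eq_one_of_centralizes h2 (h.sq e heE) heF hcon)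
  have hn := component_normal hc hK
  have hs := simple_component hc h2 hK
  have hyK : ∀ k ∈ K, k * y = y * k := by
    intro k hk'
    have h := layer_le_centralizer_fitting (component_le_layer hK hk')
    exact ((mem_centralizer_iff.mp h) y hyF).symm
  have hkz : KZero K := by
    refine hk K hs ?_
    by_contra hcon
    push Not at hcon
    exact quasisimple_not_isMulCommutative hK.2 ⟨⟨hcon⟩⟩
  have hsz : Cfsg.Lie.IsoSuzuki K := by
    by_contra hn'
    have h8 := mem_of_orderOf hc Nat.prime_three (by norm_num) hn (three_dvd_of_kZero hkz hn') hyo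
    have h9 : y ∈ centralizer (K : Set H) := by
      rw [mem_centralizer_iff]
      exact fun k hk' => hyK k hk'
    exact s.ne_one (inter_centralizer hc h2 hK y h8 h9)
  -- `K` is trivial on `C_V(y)`
  have hKfx : ∀ k ∈ K, fx ρ y ≤ fx ρ k := by
    have hinvfx : ∀ k ∈ K, ∀ v ∈ fx ρ y, ρ k v ∈ fx ρ y := by
      intro k hk' v hv
      refine apply_mem_fx ?_ hv
      rw [mul_assoc, ← hyK k hk', ← mul_assoc, inv_mul_cancel, one_mul]
      exact mem_zpowers y
    let N : Subgroup K :=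
      { carrier := {k | ∀ v ∈ fx ρ y, ρ (k : H) v = v}
        mul_mem' := fun {k l} hk' hl v hv => by
          show ρ ((k : H) * l) v = v
          rw [map_mul, MulAut.mul_apply, hl v hv, hk' v hv]
        one_mem' := fun v _ => by
          show ρ 1 v = v
          rw [map_one]; rfl
        inv_mem' := fun {k} hk' v hv => by
          show ρ ((k : H)⁻¹) v = v
          exact fx_inv ρ (hk' v hv) }
    have hNn : N.Normal := by
      refine ⟨fun n hn' g v hv => ?_⟩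
      show ρ ((g : H) * n * (g : H)⁻¹) v = v
      rw [map_mul, map_mul, MulAut.mul_apply, MulAut.mul_apply, hn' _ (hinvfx _ (inv_mem g.2) v hv),
        ← MulAut.mul_apply, ← map_mul, mul_inv_cancel, map_one]
      rfl
    rcases hs.eq_bot_or_eq_top_of_normal N hNn with h6 | h6
    · exfalso
      apply heK
      rw [mem_centralizer_iff]
      intro k hk'
      have h7 : k * (e * k⁻¹ * e⁻¹) ∈ K := mul_mem hk' (hn.conj_mem _ (inv_mem hk') e)
      have h8 : (⟨k * (e * k⁻¹ * e⁻¹), h7⟩ : K) ∈ N := by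
        intro v hv
        show ρ (k * (e * k⁻¹ * e⁻¹)) v = v
        have h9 : ∀ w ∈ fx ρ y, ρ e w = w := fun w hw => InvX.fx_le h hV hN hρ s hw e heE
        have h10 : ρ e⁻¹ v = v := fx_inv ρ (h9 v hv)
        rw [map_mul, map_mul, map_mul, MulAut.mul_apply, MulAut.mul_apply, MulAut.mul_apply, h10,
          h9 _ (hinvfx _ (inv_mem hk') v hv), ← MulAut.mul_apply, ← map_mul, mul_inv_cancel, map_one]
        rfl
      rw [h6, Subgroup.mem_bot] at h8
      have h9 : k * (e * k⁻¹ * e⁻¹) = 1 := congrArg Subtype.val h8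
      have h10 : k * e = (k * (e * k⁻¹ * e⁻¹)) * (e * k) := by group
      rw [h9, one_mul] at h10
      exact h10
    · intro k hk' v hv
      have h7 : (⟨k, hk'⟩ : K) ∈ N := by rw [h6]; trivial
      exact h7 v hv
  -- a real element
  obtain ⟨F, iF, iF', m, hm, hF, ⟨Rl⟩⟩ := Cfsg.Agent.ThreePrime.SzRel.exists_rel hsz
  have hρK : ∃ (g : K) (v : V), (ρ.comp K.subtype) g v ≠ v := by
    have := hs.toNontrivial
    obtain ⟨k, hk1⟩ := exists_ne (1 : K)
    obtain ⟨v, hv⟩ := nontriv h hV hN hρ (y := (k : H)) (fun h => hk1 (Subtype.ext h))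
    exact ⟨k, v, hv⟩
  obtain ⟨z, -, -, -, hz⟩ := FFSz.exists_real hsz hV (ρ.comp K.subtype) hρK Rl hm hF
  have h6 : (fx (ρ.comp K.subtype) z).index ≤ 16 := by
    have h7 : fx ρ y ≤ fx (ρ.comp K.subtype) z := hKfx z z.2
    have h8 : (fx (ρ.comp K.subtype) z).index ≤ (fx ρ y).index :=
      Nat.le_of_dvd (Nat.pos_of_ne_zero Subgroup.index_ne_zero_of_finite) (Subgroup.index_dvd_of_le h7)
    have h9 := half' ρ s.odd s.inv
    have h10 := h.width hV ha (a_ne_one h hV hN hρ s)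
    rw [h4] at h10
    exact h8.trans (h9.trans (Nat.pow_le_pow_left h10 2))
  have h7 : 8 ≤ Fintype.card F := by
    rw [hF]
    calc 8 = 2 ^ 3 := by norm_num
      _ ≤ 2 ^ (2 * m + 1) := Nat.pow_le_pow_right (by norm_num) (by omega)
  have h8 : 8 ^ 2 ≤ Fintype.card F ^ 2 := Nat.pow_le_pow_left h7 2
  omega

end Cfsg.Agent.OddCyclic.EmpC
end

-- part: OddCyclic/ClaimC/Defs
section
/-!
# CLAIM C: the hypotheses

Two noncommuting conjugates of `V` with maximal intersection `R` give an elementary abelian group `E ≤ H = Aut_G(V)`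
and a subgroup `R ≤ D < V` such that for `v ∉ D` the map `a ↦ [v, a] R` is a bijection `E → D / R`
(`blueprints/S0342-ClaimC-helper168.md`).  `V` is written multiplicatively.
-/

set_option autoImplicit false

namespace Cfsg.Agent.OddCyclic.ClaimC.Defs

open Cfsg.Agent.OddCyclic.T1Module Cfsg.Agent.OddCyclic.FFBasic Cfsg.Agent.OddCyclic.T1Defs
open Cfsg.Agent.OddCyclic.PumpMain (KZero)

variable {H : Type*} [Group H] {V : Type*} [CommGroup V]

structure Cl (ρ : H →* MulAut V) (S : Sylow 2 H) (E : Subgroup H) (R D : Subgroup V) : Prop where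
  sqV : ∀ v : V, v * v = 1
  inj : Function.Injective ρ
  oc : OddCyc H
  kz : ∀ J : Subgroup H, IsSimpleGroup J → (∃ x y : J, x * y ≠ y * x) → KZero J
  o2 : ∀ Q : Subgroup H, Q.Normal → IsPGroup 2 Q → Q = ⊥
  sq : ∀ a ∈ E, a * a = 1
  ne : E ≠ ⊥
  le : R ≤ D
  lt : D ≠ ⊤
  mem : ∀ a ∈ E, ∀ v, cm ρ a v ∈ D
  out : ∀ v, v ∉ D → ∀ a ∈ E, a ≠ 1 → cm ρ a v ∉ R
  sur : ∀ v, v ∉ D → ∀ u ∈ D, ∃ a ∈ E, ∃ r ∈ R, u = cm ρ a v * r
  comm : ∀ a ∈ E, ∀ u ∈ D, cm ρ a u ∈ R
  cent : ∀ a ∈ E, ∀ r ∈ R, ρ a r = r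
  bad : ∀ W ≤ R, (∀ g, ∀ w ∈ W, ρ g w ∈ W) → W = ⊥
  gen : ∀ W : Subgroup V, (∀ g, ∀ w ∈ W, ρ g w ∈ W) → CS ρ (S : Subgroup H) ≤ W → W = ⊤
  irr : ∀ K : Subgroup H, K.Normal → K ≠ ⊥ → CS ρ K ≠ ⊥ → ∀ W : Subgroup V,
    (∀ k ∈ K, ∀ w ∈ W, ρ k w ∈ W) → CS ρ (S : Subgroup H) ≤ W → ∃ k ∈ K, ∃ v, cm ρ k v ∉ W
  nff : ∀ A : Subgroup H, (∀ a ∈ A, a * a = 1) → A ≠ ⊥ → Nat.card A < (CS ρ A).index

end Cfsg.Agent.OddCyclic.ClaimC.Defs
end

-- part: OddCyclic/ClaimC/Basic
section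
/-!
# CLAIM C: first consequences
-/

set_option autoImplicit false
set_option linter.unusedSectionVars false

namespace Cfsg.Agent.OddCyclic.ClaimC.Basic

open Cfsg.Agent.OddCyclic.T1Module Cfsg.Agent.OddCyclic.FFBasic Cfsg.Agent.OddCyclic.T1Defs
  Cfsg.Agent.OddCyclic.FFRed Cfsg.Agent.OddCyclic.FFSl2 Cfsg.Agent.OddCyclic.ClaimC.Defs
open Cfsg.Agent.OddCyclic.PumpMain (KZero)

section gen

variable {H : Type*} [Group H] {V : Type*} [CommGroup V] (ρ : H →* MulAut V)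

theorem apply_eq (a : H) (v : V) : ρ a v = cm ρ a v * v := by rw [cm_apply, inv_mul_cancel_right]

theorem cm_mul (a b : H) (v : V) : cm ρ (a * b) v = cm ρ a (cm ρ b v) * cm ρ a v * cm ρ b v := by
  have h1 : ρ a (ρ b v) = cm ρ a (cm ρ b v) * cm ρ b v * (cm ρ a v * v) := by
    rw [apply_eq ρ b v, map_mul, apply_eq ρ a (cm ρ b v), apply_eq ρ a v]
  rw [cm_apply ρ (a * b), map_mul, MulAut.mul_apply, h1]
  have h2 : ∀ x y z w : V, x * y * (z * w) * w⁻¹ = x * z * y := by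
    intro x y z w
    calc x * y * (z * w) * w⁻¹ = x * (y * z) := by group
      _ = x * z * y := by rw [mul_comm y z, mul_assoc]
  exact h2 _ _ _ _

theorem cm_one (v : V) : cm ρ 1 v = 1 := by rw [cm_apply, map_one]; exact mul_inv_cancel v

end gen

variable {H : Type*} [Group H] [Finite H] {V : Type*} [CommGroup V] [Finite V] {ρ : H →* MulAut V}
  {S : Sylow 2 H} {E : Subgroup H} {R D : Subgroup V}

namespace Cl

variable (h : Cl ρ S E R D)
include h

end Cl

end Cfsg.Agent.OddCyclic.ClaimC.Basic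
end

-- part: OddCyclic/EmptyY/Loc
section
/-!
# The local offender theorem with a normal simple group: precise outcomes

`loc`: `Fr ρ L A` (best offender `A` faithful on the simple normal subgroup `L`, a `KZero` group): one of
* `L ≅ SL₂(F)`, `A` a Sylow 2-subgroup of `L`, `V/C_V(L)` natural;
* `|V : C_V(A)| = |A|` and some `a ∈ A#` is a transvection;
* `A ≤ L ≅ L₃(2)`.
-/

set_option autoImplicit false
set_option linter.unusedSectionVars false

namespace Cfsg.Agent.OddCyclic.EmptyY.Loc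

open Cfsg.Agent.OddCyclic.T1Module Cfsg.Agent.OddCyclic.FFBasic Cfsg.Agent.OddCyclic.FFRed
  Cfsg.Agent.OddCyclic.FFSl2 Cfsg.Agent.OddCyclic.T1Defs Cfsg.Agent.OddCyclic.PumpMain
  Cfsg.Agent.OddCyclic.FFOuter Matrix

variable {H : Type*} [Group H] [Finite H] {V : Type*} [CommGroup V] [Finite V] {ρ : H →* MulAut V}

/-- the linear outcome -/
def Lin (ρ : H →* MulAut V) (L A : Subgroup H) : Prop :=
  ∃ (F : Type) (_ : Field F) (_ : Fintype F) (_ : CharP F 2) (e : SpecialLinearGroup (Fin 2) F ≃* L),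
    4 ≤ Fintype.card F ∧ IsNat (rr ρ e) ∧ ∃ U : Sylow 2 (SpecialLinearGroup (Fin 2) F),
      A = (U : Subgroup (SpecialLinearGroup (Fin 2) F)).map (L.subtype.comp e.toMonoidHom)

theorem Lin.card_eq {L A : Subgroup H} (h : Lin ρ L A) : (CS ρ A).index = Nat.card A := by
  obtain ⟨F, _, _, _, e, h4, hN, U, rfl⟩ := h
  have h1 := hN.index U
  rw [rr, FFLoc.CS_comp] at h1
  have hinj : Function.Injective (L.subtype.comp e.toMonoidHom) := L.subtype_injective.comp e.injective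
  rw [h1, Subgroup.card_map_of_injective hinj]
  exact (T1Sl2.card_sylow U).symm

end Cfsg.Agent.OddCyclic.EmptyY.Loc
end

-- part: OddCyclic/EmptyY/Blk
section
/-!
# Modules generated by the conjugates of a subgroup with large centraliser

`Blk ρ K B l`: `Γ = K B` acts on `V`, `K` simple normal, `B` a 2-group centralising `l ≤ V`, a Sylow 2-subgroup of `K`
centralises `l`, `V = ⟨l^K⟩`.

* `Blk.ker_eq` : the kernel is `C_Γ(K)`;
* `Blk.fr` : for faithful `ρ`, a best offender `A ≤ Γ` gives the frame `Fr ρ K A`.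
-/

set_option autoImplicit false
set_option linter.unusedSectionVars false
set_option linter.dupNamespace false

namespace Cfsg.Agent.OddCyclic.EmptyY.Blk

open Subgroup Cfsg.Agent.OddCyclic.T1Module Cfsg.Agent.OddCyclic.FFBasic Cfsg.Agent.OddCyclic.FFRed
  Cfsg.Agent.OddCyclic.T1Defs

variable {Γ : Type*} [Group Γ] {V : Type*} [CommGroup V]

structure Blk (ρ : Γ →* MulAut V) (K B : Subgroup Γ) (l : Subgroup V) : Prop where
  normal : K.Normal
  simple : IsSimpleGroup K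
  nonab : ∃ a ∈ K, ∃ b ∈ K, a * b ≠ b * a
  sup : K ⊔ B = ⊤
  two : IsPGroup 2 B
  Bfix : ∀ b ∈ B, ∀ v ∈ l, ρ b v = v
  syl : ∃ P : Subgroup Γ, P ≤ K ∧ ¬ 2 ∣ P.relIndex K ∧ ∀ p ∈ P, ∀ v ∈ l, ρ p v = v
  gen : ∀ U : Subgroup V, (∀ g ∈ K, ∀ v ∈ l, ρ g v ∈ U) → U = ⊤
  nt : ∃ g ∈ K, ∃ v, ρ g v ≠ v

variable {ρ : Γ →* MulAut V} {K B : Subgroup Γ} {l : Subgroup V}

namespace Blk

theorem mem_ker {g : Γ} : g ∈ ρ.ker ↔ ∀ v, ρ g v = v := by
  rw [MonoidHom.mem_ker]
  constructor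
  · intro h v
    rw [h]; rfl
  · intro h
    ext v
    exact h v

end Blk

end Cfsg.Agent.OddCyclic.EmptyY.Blk
end

-- part: OddCyclic/ClaimC/LemN
section
/-!
# CLAIM C: the transfer argument and Lemma N
-/

set_option autoImplicit false
set_option linter.unusedSectionVars false

namespace Cfsg.Agent.OddCyclic.ClaimC.LemN

open Cfsg.Agent.OddCyclic.T1Module Cfsg.Agent.OddCyclic.FFBasic Cfsg.Agent.OddCyclic.T1Defs
  Cfsg.Agent.OddCyclic.FFRed Cfsg.Agent.OddCyclic.FFSl2 Cfsg.Agent.OddCyclic.ClaimC.Defs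
  Cfsg.Agent.OddCyclic.ClaimC.Basic
open Cfsg.Agent.OddCyclic.PumpMain (KZero)

section general

variable {H : Type*} [Group H] {V : Type*} [CommGroup V] {ρ : H →* MulAut V}

/-- transfer: a fixed vector of a subgroup of odd index -/
theorem exists_fixed [Finite H] {K P : Subgroup H} (hodd : ¬ 2 ∣ P.relIndex K) (hV : ∀ v : V, v * v = 1)
    {w : V} (hw : w ∈ CS ρ P) {W : Subgroup V} (hW : ∀ k ∈ K, cm ρ k w ∈ W) : ∃ u ∈ CS ρ K, u * w ∈ W := by
  classical
  have : Fintype (K ⧸ P.subgroupOf K) := Fintype.ofFinite _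
  let f : K ⧸ P.subgroupOf K → V := Quotient.lift (fun k : K => ρ (k : H) w) (by
    intro k l hkl
    have h1 : k⁻¹ * l ∈ P.subgroupOf K := QuotientGroup.leftRel_apply.1 hkl
    rw [Subgroup.mem_subgroupOf] at h1
    have h2 := hw _ h1
    have h3 : (l : H) = (k : H) * ((k⁻¹ * l : K) : H) := by
      rw [Subgroup.coe_mul, Subgroup.coe_inv, mul_inv_cancel_left]
    change ρ (k : H) w = ρ (l : H) w
    rw [h3, map_mul, MulAut.mul_apply, h2])
  have hf : ∀ k : K, f (QuotientGroup.mk k) = ρ (k : H) w := fun k => rfl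
  have hfs : ∀ (g : K) (q : K ⧸ P.subgroupOf K), f (g • q) = ρ (g : H) (f q) := by
    intro g q
    refine QuotientGroup.induction_on q fun k => ?_
    have h1 : g • (QuotientGroup.mk k : K ⧸ P.subgroupOf K) = QuotientGroup.mk (g * k) := rfl
    rw [h1, hf, hf, Subgroup.coe_mul, map_mul, MulAut.mul_apply]
  refine ⟨∏ q, f q, ?_, ?_⟩
  · intro g hg
    rw [map_prod]
    have h1 : ∀ q, ρ g (f q) = f ((⟨g, hg⟩ : K) • q) := fun q => (hfs ⟨g, hg⟩ q).symm
    rw [Finset.prod_congr rfl fun q _ => h1 q]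
    exact Fintype.prod_equiv (MulAction.toPerm (⟨g, hg⟩ : K)) _ _ fun q => rfl
  · have h1 : ∀ q, f q * w ∈ W := by
      intro q
      refine QuotientGroup.induction_on q fun k => ?_
      have h2 := hW k k.2
      have h3 : w⁻¹ = w := inv_eq_of_mul_eq_one_left (hV w)
      rw [cm_apply, h3] at h2
      exact h2
    have h2 : ∏ q, (f q * w) ∈ W := Subgroup.prod_mem _ fun q _ => h1 q
    rw [Finset.prod_mul_distrib, Finset.prod_const, Finset.card_univ] at h2
    have h3 : Odd (Fintype.card (K ⧸ P.subgroupOf K)) := by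
      rw [← Nat.not_even_iff_odd, even_iff_two_dvd, ← Nat.card_eq_fintype_card]
      exact hodd
    obtain ⟨k, hk⟩ := h3
    rw [hk, pow_succ, pow_mul, pow_two w, hV, one_pow, one_mul] at h2
    exact h2

theorem cm_conj (n a : H) (b : V) : cm ρ (n * a * n⁻¹) b = ρ n (cm ρ a (ρ n⁻¹ b)) := by
  have h1 : ρ n (ρ n⁻¹ b) = b := by
    rw [← MulAut.mul_apply, ← map_mul, mul_inv_cancel, map_one]; rfl
  rw [cm_apply, cm_apply, map_mul, map_mul, MulAut.mul_apply, MulAut.mul_apply, map_mul (ρ n), map_inv (ρ n), h1]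

theorem cm_inv' (a : H) (b : V) : cm ρ a⁻¹ b = (ρ a⁻¹ (cm ρ a b))⁻¹ := by
  have h1 : ρ a⁻¹ (ρ a b) = b := by
    rw [← MulAut.mul_apply, ← map_mul, inv_mul_cancel, map_one]; rfl
  rw [cm_apply, cm_apply, map_mul (ρ a⁻¹), h1, map_inv (ρ a⁻¹) b, mul_inv, inv_inv, mul_comm]

theorem cm_mul' (a b : H) (v : V) : cm ρ (a * b) v = cm ρ a (ρ b v) * cm ρ b v := by
  rw [cm_apply, cm_apply, cm_apply, map_mul, MulAut.mul_apply, mul_assoc, inv_mul_cancel_left]

theorem cancel (a : H) (u : V) : ρ a (ρ a⁻¹ u) = u := by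
  rw [← MulAut.mul_apply, ← map_mul, mul_inv_cancel, map_one]; rfl

theorem cancel' (a : H) (u : V) : ρ a⁻¹ (ρ a u) = u := by
  rw [← MulAut.mul_apply, ← map_mul, inv_mul_cancel, map_one]; rfl

/-- the elements acting trivially on `B / A` -/
def TR (ρ : H →* MulAut V) (A B : Subgroup V) : Subgroup H where
  carrier := {g | (∀ u, ρ g u ∈ A ↔ u ∈ A) ∧ (∀ u, ρ g u ∈ B ↔ u ∈ B) ∧ ∀ b ∈ B, cm ρ g b ∈ A}
  mul_mem' := by
    rintro a b ⟨a1, a2, a3⟩ ⟨b1, b2, b3⟩
    refine ⟨fun u => ?_, fun u => ?_, fun v hv => ?_⟩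
    · rw [map_mul, MulAut.mul_apply, a1, b1]
    · rw [map_mul, MulAut.mul_apply, a2, b2]
    · rw [cm_mul']
      exact mul_mem (a3 _ ((b2 v).2 hv)) (b3 v hv)
  one_mem' := ⟨fun u => by rw [map_one]; rfl, fun u => by rw [map_one]; rfl, fun b _ => by
    rw [cm_one]; exact one_mem A⟩
  inv_mem' := by
    rintro a ⟨a1, a2, a3⟩
    refine ⟨fun u => ?_, fun u => ?_, fun v hv => ?_⟩
    · rw [← a1, cancel]
    · rw [← a2, cancel]
    · rw [cm_inv']
      apply inv_mem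
      rw [← a1, cancel]
      exact a3 v hv

theorem mem_TR {A B : Subgroup V} {g : H} : g ∈ TR ρ A B ↔
    (∀ u, ρ g u ∈ A ↔ u ∈ A) ∧ (∀ u, ρ g u ∈ B ↔ u ∈ B) ∧ ∀ b ∈ B, cm ρ g b ∈ A := Iff.rfl

/-- a subgroup stable under a subgroup -/
def Inv (ρ : H →* MulAut V) (N : Subgroup H) (A : Subgroup V) : Prop := ∀ n ∈ N, ∀ u ∈ A, ρ n u ∈ A

theorem Inv.iff {N : Subgroup H} {A : Subgroup V} (h : Inv ρ N A) {n : H} (hn : n ∈ N) (u : V) :
    ρ n u ∈ A ↔ u ∈ A := by
  refine ⟨fun h1 => ?_, h n hn u⟩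
  have := h _ (inv_mem hn) _ h1
  rwa [cancel'] at this

theorem Inv.cm {N : Subgroup H} {A : Subgroup V} (h : Inv ρ N A) {n : H} (hn : n ∈ N) {u : V} (hu : u ∈ A) :
    cm ρ n u ∈ A := by
  rw [cm_apply]; exact mul_mem (h n hn u hu) (inv_mem hu)

theorem inv_of_cm {N : Subgroup H} {A : Subgroup V} (h : ∀ n ∈ N, ∀ u ∈ A, FFBasic.cm ρ n u ∈ A) : Inv ρ N A := by
  intro n hn u hu
  rw [apply_eq]
  exact mul_mem (h n hn u hu) hu

/-- `N = [N, E]` and `N` is generated by squares -/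
structure Nice (N E : Subgroup H) : Prop where
  com : N ≤ ⁅E, N⁆
  sqs : N ≤ Subgroup.closure {g | ∃ n ∈ N, g = n * n}

theorem triv {N E : Subgroup H} (hN : Nice N E) {A B : Subgroup V} (hA : Inv ρ N A) (hB : Inv ρ N B)
    (hAE : Inv ρ E A) (hBE : Inv ρ E B) (ht : ∀ a ∈ E, ∀ b ∈ B, cm ρ a b ∈ A) : ∀ n ∈ N, ∀ b ∈ B, cm ρ n b ∈ A := by
  have h1 : ⁅E, N⁆ ≤ TR ρ A B := by
    rw [Subgroup.commutator_le]
    intro a ha n hn
    rw [commutatorElement_def]
    have h2 : a * n * a⁻¹ * n⁻¹ = a * (n * a⁻¹ * n⁻¹) := by group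
    rw [h2]
    have haM : a ∈ TR ρ A B := ⟨fun u => hAE.iff ha u, fun u => hBE.iff ha u, ht a ha⟩
    refine mul_mem haM ?_
    have ha' := inv_mem haM
    refine ⟨fun u => ?_, fun u => ?_, fun v hv => ?_⟩
    · rw [map_mul, map_mul, MulAut.mul_apply, MulAut.mul_apply, hA.iff hn, ha'.1, hA.iff (inv_mem hn)]
    · rw [map_mul, map_mul, MulAut.mul_apply, MulAut.mul_apply, hB.iff hn, ha'.2.1, hB.iff (inv_mem hn)]
    · rw [cm_conj]
      exact hA n hn _ (ha'.2.2 _ (hB _ (inv_mem hn) v hv))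
  intro n hn b hb
  exact (h1 (hN.com hn)).2.2 b hb

theorem sq_triv (hV : ∀ v : V, v * v = 1) {N E : Subgroup H} (hN : Nice N E) {A B C : Subgroup V}
    (hA : Inv ρ N A) (hC : Inv ρ N C) (h1 : ∀ n ∈ N, ∀ c ∈ C, cm ρ n c ∈ B)
    (h2 : ∀ n ∈ N, ∀ b ∈ B, cm ρ n b ∈ A) : ∀ n ∈ N, ∀ c ∈ C, cm ρ n c ∈ A := by
  have h3 : Subgroup.closure {g | ∃ n ∈ N, g = n * n} ≤ TR ρ A C := by
    rw [Subgroup.closure_le]
    rintro _ ⟨n, hn, rfl⟩
    refine ⟨fun u => hA.iff (mul_mem hn hn) u, fun u => hC.iff (mul_mem hn hn) u, fun v hv => ?_⟩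
    rw [cm_mul, mul_assoc, hV, mul_one]
    exact h2 n hn _ (h1 n hn v hv)
  intro n hn c hc
  exact (h3 (hN.sqs hn)).2.2 c hc

/-- the largest `N`-invariant subgroup of `D` -/
def cr (ρ : H →* MulAut V) (N : Subgroup H) (D : Subgroup V) : Subgroup V where
  carrier := {v | ∀ n ∈ N, ρ n v ∈ D}
  mul_mem' := fun {u v} hu hv n hn => by rw [map_mul]; exact mul_mem (hu n hn) (hv n hn)
  one_mem' := fun n _ => by rw [map_one]; exact one_mem D
  inv_mem' := fun {u} hu n hn => by rw [map_inv]; exact inv_mem (hu n hn)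

theorem mem_cr {N : Subgroup H} {D : Subgroup V} {v : V} : v ∈ cr ρ N D ↔ ∀ n ∈ N, ρ n v ∈ D := Iff.rfl

theorem cr_le {N : Subgroup H} {D : Subgroup V} : cr ρ N D ≤ D := by
  intro v hv
  have := hv 1 (one_mem N)
  rwa [map_one] at this

theorem cr_inv {N : Subgroup H} {D : Subgroup V} : Inv ρ N (cr ρ N D) := by
  intro n hn u hu m hm
  rw [← MulAut.mul_apply, ← map_mul]
  exact hu _ (mul_mem hm hn)

theorem le_cr {N : Subgroup H} {D A : Subgroup V} (hA : Inv ρ N A) (h : A ≤ D) : A ≤ cr ρ N D :=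
  fun u hu n hn => h (hA n hn u hu)

theorem CS_inv {N : Subgroup H} [N.Normal] : ∀ g, ∀ u ∈ CS ρ N, ρ g u ∈ CS ρ N := by
  intro g u hu
  refine CS_stable ?_ hu
  rw [Subgroup.normalizer_eq_top]; trivial

end general

variable {H : Type*} [Group H] [Finite H] {V : Type*} [CommGroup V] [Finite V] {ρ : H →* MulAut V}
  {S : Sylow 2 H} {E : Subgroup H} {R D : Subgroup V}

namespace Cl

variable (h : Cl ρ S E R D)
include h

section

variable {N : Subgroup H} [N.Normal]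

variable {e : H} (he : e ∈ E) (hc : ∀ n ∈ N, n * e = e * n)
include he hc

end

end Cl

end Cfsg.Agent.OddCyclic.ClaimC.LemN
end

-- part: OddCyclic/EmpC/LemN
section
/-!
# CLAIM C, section 2: LEMMA N (helper168's text) for simple normal subgroups `K`, in the structures `Cfg`, `Bad`

* `nice` : a simple nonabelian normal subgroup not centralised by `E` satisfies `K = [K,E]`, and is generated by squares;
* `not_triv` : `K` is nontrivial on `V / D₁`, `D₁ = cr ρ K D` the largest `K`-invariant subgroup of `D`;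
* `relIndex_cr` : `|D/D₁| ≤ |E/C_E(K)|`.
-/

set_option autoImplicit false
set_option linter.unusedSectionVars false

namespace Cfsg.Agent.OddCyclic.EmpC

open Subgroup Cfsg.Agent.OddCyclic.T1Module Cfsg.Agent.OddCyclic.FFBasic Cfsg.Agent.OddCyclic.FFRed
open Cfsg.Agent.OddCyclic.T1Defs Cfsg.Agent.OddCyclic.CompBasic Cfsg.Agent.OddCyclic.FFStruct
open Cfsg.Agent.OddCyclic.PumpMain (KZero)
open Cfsg.Agent.SignalizersComponents.Components
open Cfsg.Agent.OddCyclic.ClaimC.LemN (Nice TR mem_TR cr mem_cr cr_le cr_inv le_cr triv sq_triv)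

open scoped commutatorElement

variable {H : Type*} [Group H] {V : Type*} [CommGroup V]

/-- a simple group with an element of odd order `> 1` is generated by its elements of odd order -/
theorem le_closure_odd [Finite H] {K : Subgroup H} (hs : IsSimpleGroup K) {y : H} (hy : y ∈ K) (hy1 : y ≠ 1)
    (hodd : Odd (orderOf y)) : K ≤ Subgroup.closure {k | k ∈ K ∧ Odd (orderOf k)} := by
  set S : Subgroup H := Subgroup.closure {k | k ∈ K ∧ Odd (orderOf k)} with hS
  have hn : (S.subgroupOf K).Normal := by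
    refine ⟨fun n hn g => ?_⟩
    rw [Subgroup.mem_subgroupOf] at hn ⊢
    have h1 : S ≤ S.comap (MulAut.conj (g : H)).toMonoidHom := by
      conv_lhs => rw [hS]
      rw [Subgroup.closure_le]
      rintro k ⟨hk, hko⟩
      refine Subgroup.subset_closure ⟨?_, ?_⟩
      · show (g : H) * k * (g : H)⁻¹ ∈ K
        exact mul_mem (mul_mem g.2 hk) (inv_mem g.2)
      · show Odd (orderOf ((g : H) * k * (g : H)⁻¹))
        rw [show orderOf ((g : H) * k * (g : H)⁻¹) = orderOf k from MulEquiv.orderOf_eq (MulAut.conj (g : H)) k]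
        exact hko
    exact h1 hn
  rcases hs.eq_bot_or_eq_top_of_normal _ hn with h1 | h1
  · exfalso
    apply hy1
    have h2 : (⟨y, hy⟩ : K) ∈ S.subgroupOf K := by
      rw [Subgroup.mem_subgroupOf]
      exact Subgroup.subset_closure ⟨hy, hodd⟩
    rw [h1, Subgroup.mem_bot] at h2
    exact congrArg Subtype.val h2
  · intro k hk
    have h2 : (⟨k, hk⟩ : K) ∈ S.subgroupOf K := by rw [h1]; trivial
    exact h2

/-- a simple normal subgroup not centralised by `E` -/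
theorem nice [Finite H] {K E : Subgroup H} (hn : K.Normal) (hs : IsSimpleGroup K) {y : H} (hy : y ∈ K) (hy1 : y ≠ 1)
    (hodd : Odd (orderOf y)) (hE : ¬ E ≤ centralizer (K : Set H)) : Nice K E := by
  have hO := le_closure_odd hs hy hy1 hodd
  refine ⟨?_, ?_⟩
  · -- `[E, K] ∩ K` is normal in `K`
    have h1 : ⁅E, K⁆ ≤ K := by
      rw [Subgroup.commutator_le]
      intro a _ k hk
      rw [commutatorElement_def]
      exact mul_mem (hn.conj_mem k hk a) (inv_mem hk)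
    have h2 : (⁅E, K⁆.subgroupOf K).Normal := by
      refine ⟨fun n hn' g => ?_⟩
      rw [Subgroup.mem_subgroupOf] at hn' ⊢
      -- `K` normalises `[E, K]`
      have h3 : K ≤ normalizer ((⁅E, K⁆ : Subgroup H) : Set H) := Subgroup.normalizer_commutator_ge_right E K
      exact (Subgroup.mem_normalizer_iff.1 (h3 g.2) _).1 hn'
    rcases hs.eq_bot_or_eq_top_of_normal _ h2 with h3 | h3
    · exfalso
      apply hE
      intro a ha
      rw [mem_centralizer_iff]
      intro k hk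
      have h4 : ⁅a, k⁆ ∈ ⁅E, K⁆ := Subgroup.commutator_mem_commutator ha hk
      have h5 : (⟨⁅a, k⁆, h1 h4⟩ : K) ∈ ⁅E, K⁆.subgroupOf K := h4
      rw [h3, Subgroup.mem_bot] at h5
      have h6 : ⁅a, k⁆ = 1 := congrArg Subtype.val h5
      exact (commutatorElement_eq_one_iff_mul_comm.1 h6).symm
    · intro k hk
      have h4 : (⟨k, hk⟩ : K) ∈ ⁅E, K⁆.subgroupOf K := by rw [h3]; trivial
      exact h4
  · refine hO.trans ?_
    rw [Subgroup.closure_le]
    rintro k ⟨hk, m, hm⟩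
    have h1 : k = k ^ (m + 1) * k ^ (m + 1) := by
      rw [← pow_add]
      have : m + 1 + (m + 1) = orderOf k + 1 := by omega
      rw [this, pow_succ, pow_orderOf_eq_one, one_mul]
    exact Subgroup.subset_closure ⟨k ^ (m + 1), pow_mem hk _, h1⟩

/-- the stabiliser of a subgroup -/
def stS (ρ : H →* MulAut V) (W : Subgroup V) : Subgroup H where
  carrier := {g | ∀ u, ρ g u ∈ W ↔ u ∈ W}
  mul_mem' := fun {a b} ha hb u => by rw [map_mul, MulAut.mul_apply, ha, hb]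
  one_mem' := fun u => by rw [map_one]; rfl
  inv_mem' := fun {a} ha u => by
    rw [← ha (ρ a⁻¹ u), ← MulAut.mul_apply, ← map_mul, mul_inv_cancel, map_one]; rfl

theorem stS_inv (ρ : H →* MulAut V) (W : Subgroup V) : Inv (ρ.comp (stS ρ W).subtype) W :=
  fun g w hw => (g.2 w).2 hw

section lemN

variable [Finite H] [Finite V] {ρ : H →* MulAut V} {T : Sylow 2 H} {E : Subgroup H} {R D : Subgroup V} {c d : ℕ}
  (h : Cfg ρ E R D c d) (hB : Bad ρ T) (hV : ∀ v : V, v * v = 1) (hρ : Function.Injective ρ)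

include h

theorem D_inv : ClaimC.LemN.Inv ρ E D := by
  intro a ha u hu
  have h1 := mul_mem (h.le (h.dcomm u hu a ha)) hu
  rwa [inv_mul_cancel_right] at h1

include hB hV hρ

/-- **LEMMA N** : `[V, K]` is not contained in `D` -/
theorem not_triv {K : Subgroup H} [K.Normal] (hN : Nice K E) (hK1 : K ≠ ⊥) : ¬ CM ρ K ≤ D := by
  intro hcm
  have hDN : ClaimC.LemN.Inv ρ K D := ClaimC.LemN.inv_of_cm fun n hn u _ => hcm (mem_CM hn u)
  have hCS : ¬ CS ρ K ≤ D := by
    intro h1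
    apply h.ne_top
    rw [eq_top_iff, ← hB.sup_eq_top hV K]
    exact sup_le hcm h1
  have hCi : ∀ g, ∀ u ∈ CS ρ K, ρ g u ∈ CS ρ K := CS_inv ρ K
  have h1 := triv hN (A := CS ρ K) (B := D) (fun n _ u hu => hCi n u hu) hDN (fun n _ u hu => hCi n u hu)
    (D_inv h) (fun b hb w hw => h.comm_le (fun a _ u hu => hCi a u hu) hCS hw hb)
  have hbot : ClaimC.LemN.Inv ρ K (⊥ : Subgroup V) := fun n _ u hu => by
    rw [Subgroup.mem_bot] at hu ⊢
    rw [hu, map_one]
  have htop : ClaimC.LemN.Inv ρ K (⊤ : Subgroup V) := fun _ _ _ _ => trivial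
  have h2 := sq_triv hV hN hbot hDN h1 (fun n hn b hb => by
    rw [Subgroup.mem_bot, cm_apply, hb n hn, mul_inv_cancel])
  have h3 := sq_triv hV hN hbot htop (B := D) (fun n hn c _ => hcm (mem_CM hn c)) h2
  apply hK1
  rw [Subgroup.eq_bot_iff_forall]
  intro n hn
  apply hρ
  rw [map_one]
  ext v
  have h4 := Subgroup.mem_bot.1 (h3 n hn v trivial)
  rw [cm_apply, mul_inv_eq_one] at h4
  exact h4

omit hB hρ in
/-- `|D/D₁| ≤ |E/C_E(K)|` -/
theorem relIndex_cr {K : Subgroup H} [K.Normal] (hE : E ⊓ centralizer (K : Set H) ≠ ⊥) :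
    (cr ρ K D).relIndex D ≤ (centralizer (K : Set H)).relIndex E := by
  obtain ⟨⟨e, he⟩, he1⟩ := Subgroup.ne_bot_iff_exists_ne_one.1 hE
  have he1' : e ≠ 1 := fun h => he1 (Subtype.ext h)
  have hcr : ∀ a ∈ E, a ∈ centralizer (K : Set H) → ∀ v, ρ a v * v⁻¹ ∈ cr ρ K D := by
    intro a ha hac v n hn
    have h1 : ρ n (ρ a v * v⁻¹) = ρ a (ρ n v) * (ρ n v)⁻¹ := by
      rw [map_mul, map_inv, ← MulAut.mul_apply, ← MulAut.mul_apply, ← map_mul, ← map_mul,
        (mem_centralizer_iff.1 hac) n hn]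
    rw [h1]
    exact h.comm_mem _ ha
  have hR : R ≤ cr ρ K D := by
    have h1 : R ≤ fx ρ e := fun r hr => h.fix_apply hr he.1
    refine h1.trans (le_cr ?_ (h.fx_le he.1 he1'))
    intro n hn u hu
    rw [mem_fx] at hu ⊢
    rw [← MulAut.mul_apply, ← map_mul, ← (mem_centralizer_iff.1 he.2) n hn, map_mul, MulAut.mul_apply, hu]
  obtain ⟨v, hv⟩ := h.exists_notMem
  let C := centralizer (K : Set H)
  have key : ∀ a ∈ E, ∀ b ∈ E, a⁻¹ * b ∈ C → (ρ a v * v⁻¹)⁻¹ * (ρ b v * v⁻¹) ∈ cr ρ K D := by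
    intro a ha b hb hab
    have h2 := hR (h.comm_mul v ha (mul_mem (inv_mem ha) hb))
    rw [mul_inv_cancel_left] at h2
    have h3 := hcr (a⁻¹ * b) (mul_mem (inv_mem ha) hb) hab v
    have h4 := mul_mem h2 h3
    rw [mul_inv_rev] at h4
    have h5 : ρ b v * v⁻¹ * ((ρ (a⁻¹ * b) v * v⁻¹)⁻¹ * (ρ a v * v⁻¹)⁻¹) * (ρ (a⁻¹ * b) v * v⁻¹) =
        (ρ a v * v⁻¹)⁻¹ * (ρ b v * v⁻¹) := by
      have aux : ∀ x y z : V, x * (y⁻¹ * z) * y = z * x := by
        intro x y z
        calc x * (y⁻¹ * z) * y = x * z * (y⁻¹ * y) := by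
              rw [mul_comm y⁻¹ z, ← mul_assoc, mul_assoc (x * z)]
          _ = z * x := by rw [inv_mul_cancel, mul_one, mul_comm]
      exact aux _ _ _
    rwa [h5] at h4
  let f : E ⧸ C.subgroupOf E → D ⧸ (cr ρ K D).subgroupOf D := Quotient.lift
    (fun a : E => (QuotientGroup.mk ⟨ρ (a : H) v * v⁻¹, h.comm v hv a a.2⟩ : D ⧸ (cr ρ K D).subgroupOf D)) (by
    intro a b hab
    have h1 : a⁻¹ * b ∈ C.subgroupOf E := QuotientGroup.leftRel_apply.1 hab
    apply QuotientGroup.eq.2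
    exact key a a.2 b b.2 h1)
  have hf : Function.Surjective f := by
    intro x
    obtain ⟨u, rfl⟩ := QuotientGroup.mk_surjective x
    obtain ⟨a, ha, r, hr, hu⟩ := h.surj v hv u u.2
    refine ⟨QuotientGroup.mk ⟨a, ha⟩, ?_⟩
    apply QuotientGroup.eq.2
    rw [Subgroup.mem_subgroupOf]
    change (ρ a v * v⁻¹)⁻¹ * (u : V) ∈ cr ρ K D
    rw [hu, inv_mul_cancel_left]
    exact hR hr
  exact Nat.card_le_card_of_surjective f hf

end lemN

end Cfsg.Agent.OddCyclic.EmpC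
end

private theorem dce_75773bd33014 : _root_.True := by
  try have : _root_.True := by simp only [_root_.Cfsg.Agent.OddCyclic.FFOuter.rr.eq_1]
  try have : _root_.True := by simp only [_root_.Cfsg.Agent.OddCyclic.EmpC.InvX.E1.eq_1]
  exact _root_.True.intro
end

-- part: OddCyclic/EmpC/L32
section
prune_inst 0x200000040010000000001200003c42a200000000280000402001000480cd6000022120a00005001802a0040030002002080040000000000000000001180080000012021140a000200006800000000000000000000000000000000000000000000000000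
set_option linter.all false
open scoped Cfsg.Agent.FastGrp

-- part: OddCyclic/EmpC/Sz
section
/-!
# CLAIM C, section 4: `E` centralises the Suzuki components

`RSz J q` : elementary abelian 2-subgroups of `J` have order at most `q`, and every involution inverts an element of
prime order `r` with `q^4 ≤ 2^d` whenever `r ∣ 2^d - 1`.
-/

set_option autoImplicit false
set_option linter.unusedSectionVars false

namespace Cfsg.Agent.OddCyclic.EmpC

open Subgroup Cfsg.Agent.OddCyclic.T1Module Cfsg.Agent.OddCyclic.FFBasic Cfsg.Agent.OddCyclic.FFRed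
open Cfsg.Agent.OddCyclic.T1Defs Cfsg.Agent.OddCyclic.CompBasic Cfsg.Agent.OddCyclic.FFStruct
open Cfsg.Agent.OddCyclic.ClaimC.LemN (Nice TR mem_TR cr mem_cr cr_le cr_inv le_cr triv sq_triv)

/-- (R2) -/
structure RSz (J : Type*) [Group J] (q : ℕ) : Prop where
  two : 2 ≤ q
  el : ∀ A : Subgroup J, (∀ a ∈ A, a * a = 1) → Nat.card A ≤ q
  real : ∀ k : J, k * k = 1 → k ≠ 1 → ∃ (y : J) (r : ℕ), r.Prime ∧ r ≠ 2 ∧ orderOf y = r ∧ k * y * k⁻¹ = y⁻¹ ∧
    ∀ d : ℕ, 0 < d → r ∣ 2 ^ d - 1 → q ^ 4 ≤ 2 ^ d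

variable {H : Type*} [Group H] {V : Type*} [CommGroup V]

/-- the elements of `K` inducing the same automorphisms of `K` as the elements of `E` -/
def prj (K E : Subgroup H) : Subgroup K where
  carrier := {j | ∃ a ∈ E, ∀ k ∈ K, a * k * a⁻¹ = (j : H) * k * (j : H)⁻¹}
  mul_mem' := by
    rintro j j' ⟨a, ha, h⟩ ⟨a', ha', h'⟩
    refine ⟨a * a', mul_mem ha ha', fun k hk => ?_⟩
    rw [Subgroup.coe_mul]
    have h1 : (j' : H) * k * (j' : H)⁻¹ ∈ K := mul_mem (mul_mem j'.2 hk) (inv_mem j'.2)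
    calc a * a' * k * (a * a')⁻¹ = a * (a' * k * a'⁻¹) * a⁻¹ := by group
      _ = (j : H) * ((j' : H) * k * (j' : H)⁻¹) * (j : H)⁻¹ := by rw [h' k hk, h _ h1]
      _ = _ := by group
  one_mem' := ⟨1, one_mem E, fun k _ => by simp⟩
  inv_mem' := by
    rintro j ⟨a, ha, h⟩
    refine ⟨a⁻¹, inv_mem ha, fun k hk => ?_⟩
    rw [Subgroup.coe_inv]
    have h1 : (j : H)⁻¹ * k * (j : H) ∈ K := mul_mem (mul_mem (inv_mem j.2) hk) j.2
    have h2 := h _ h1
    have h3 : (j : H) * ((j : H)⁻¹ * k * (j : H)) * (j : H)⁻¹ = k := by group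
    rw [h3] at h2
    calc a⁻¹ * k * a⁻¹⁻¹ = a⁻¹ * (a * ((j : H)⁻¹ * k * (j : H)) * a⁻¹) * a := by rw [h2]; group
      _ = _ := by group

theorem relIndex_cent_le [Finite H] {K E : Subgroup H}
    (hin : ∀ a ∈ E, ∃ j ∈ K, ∀ k ∈ K, a * k * a⁻¹ = j * k * j⁻¹) :
    (centralizer (K : Set H)).relIndex E ≤ Nat.card (prj K E) := by
  classical
  let C := centralizer (K : Set H)
  have hj : ∀ a : E, ∃ j : K, ∀ k ∈ K, (a : H) * k * (a : H)⁻¹ = (j : H) * k * (j : H)⁻¹ := by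
    intro a
    obtain ⟨j, hj, hj'⟩ := hin a a.2
    exact ⟨⟨j, hj⟩, hj'⟩
  choose j hj using hj
  let f : E ⧸ C.subgroupOf E → prj K E := fun q => ⟨j q.out, (q.out : E), (q.out : E).2, hj q.out⟩
  have hf : Function.Injective f := by
    intro q q' h
    have h1 : j q.out = j q'.out := congrArg Subtype.val h
    have h2 : ((q.out : E) : H)⁻¹ * ((q'.out : E) : H) ∈ C := by
      rw [mem_centralizer_iff]
      intro k hk
      have h3 := hj q.out k hk
      have h4 := hj q'.out k hk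
      rw [← h1, ← h3] at h4
      have h5 : ((q'.out : E) : H) * k = ((q.out : E) : H) * k * ((q.out : E) : H)⁻¹ * ((q'.out : E) : H) := by
        rw [← h4]; group
      rw [mul_assoc, h5]; group
    have h3 : (q.out : E)⁻¹ * q'.out ∈ C.subgroupOf E := h2
    rw [← q.out_eq', ← q'.out_eq']
    exact QuotientGroup.eq.2 h3
  exact Nat.card_le_card_of_injective f hf

variable [Finite H] [Finite V] {ρ : H →* MulAut V} {T : Sylow 2 H} {E : Subgroup H} {R D : Subgroup V} {c d : ℕ}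

/-- **section 4** -/
theorem no_suzuki (h : Cfg ρ E R D c d) (hB : Bad ρ T) (hV : ∀ v : V, v * v = 1) (hρ : Function.Injective ρ)
    {K : Subgroup H} [hn : K.Normal] (hs : IsSimpleGroup K) (hZ : ∀ z ∈ K, z ∈ centralizer (K : Set H) → z = 1)
    (hin : ∀ a ∈ E, ∃ j ∈ K, ∀ k ∈ K, a * k * a⁻¹ = j * k * j⁻¹) {q : ℕ} (hq : RSz K q) :
    E ≤ centralizer (K : Set H) := by
  by_contra hE
  obtain ⟨e, he, heC⟩ := Set.not_subset.1 hE
  obtain ⟨j, hj, hjk⟩ := hin e he
  have hj2 : j * j = 1 := by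
    apply hZ _ (mul_mem hj hj)
    rw [mem_centralizer_iff]
    intro k hk
    have h1 : j * k * j⁻¹ ∈ K := mul_mem (mul_mem hj hk) (inv_mem hj)
    have h2 : e * (e * k * e⁻¹) * e⁻¹ = k := by
      have : e * (e * k * e⁻¹) * e⁻¹ = (e * e) * k * (e * e)⁻¹ := by group
      rw [this, h.sq e he]; simp
    rw [hjk k hk, hjk _ h1] at h2
    have h3 : j * (j * k * j⁻¹) * j⁻¹ = (j * j) * k * (j * j)⁻¹ := by group
    rw [h3] at h2
    nth_rewrite 1 [← h2]
    group
  have hj1 : j ≠ 1 := by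
    rintro rfl
    apply heC
    show e ∈ centralizer (K : Set H)
    rw [mem_centralizer_iff]
    intro k hk
    have h1 := hjk k hk
    rw [one_mul, inv_one, mul_one] at h1
    rw [mul_inv_eq_iff_eq_mul] at h1
    exact h1.symm
  obtain ⟨y, r, hr, hr2, hyo, hky, hd⟩ := hq.real ⟨j, hj⟩ (Subtype.ext hj2) (fun h => hj1 (congrArg Subtype.val h))
  have hyo' : orderOf (y : H) = r := by rw [Subgroup.orderOf_coe]; exact hyo
  have hodd : Odd (orderOf (y : H)) := by rw [hyo']; exact hr.odd_of_ne_two hr2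
  have hy1 : (y : H) ≠ 1 := by
    intro h1
    rw [h1, orderOf_one] at hyo'
    exact hr.one_lt.ne hyo'
  have hey : e * y * e⁻¹ = (y : H)⁻¹ := by
    rw [hjk y y.2]
    exact congrArg Subtype.val hky
  have hnt : ∀ z : H, z ≠ 1 → ∃ v, ρ z v ≠ v := by
    intro z hz
    by_contra hcon
    push Not at hcon
    exact hz (hρ (by rw [map_one]; ext v; exact hcon v))
  have hel : Nat.card (prj K E) ≤ q := by
    apply hq.el
    rintro x ⟨a, ha, hax⟩
    apply Subtype.ext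
    apply hZ _ (mul_mem x.2 x.2)
    rw [mem_centralizer_iff]
    intro k hk
    have h1 : (x : H) * k * (x : H)⁻¹ ∈ K := mul_mem (mul_mem x.2 hk) (inv_mem x.2)
    have h2 : a * (a * k * a⁻¹) * a⁻¹ = k := by
      have : a * (a * k * a⁻¹) * a⁻¹ = (a * a) * k * (a * a)⁻¹ := by group
      rw [this, h.sq a ha]; simp
    rw [hax k hk, hax _ h1] at h2
    have h3 : (x : H) * ((x : H) * k * (x : H)⁻¹) * (x : H)⁻¹ = ((x : H) * x) * k * ((x : H) * x)⁻¹ := by group
    rw [h3] at h2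
    show k * ((x : H) * x) = ((x : H) * x) * k
    nth_rewrite 1 [← h2]
    group
  have hrel := (relIndex_cent_le hin).trans hel
  have hq4 : ¬ q ^ 4 ≤ q ^ 2 := by
    intro h1
    have := (Nat.pow_le_pow_iff_right (by have := hq.two; omega : 1 < q)).1 h1
    omega
  by_cases hbot : E ⊓ centralizer (K : Set H) = ⊥
  · -- `E` is faithful on `K`
    have h1 : Nat.card E ≤ q := by
      rw [← Subgroup.inf_relIndex_left] at hrel
      rwa [hbot, Subgroup.relIndex_bot_left] at hrel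
    have he1 : e ≠ 1 := fun h => heC (h ▸ one_mem _)
    have h2 := (h.width hV he he1).trans h1
    have h3 := half' ρ hodd hey
    obtain ⟨k, hk, h4, h5⟩ := prim (ρ := ρ) hV hr hr2 hyo' (hnt _ hy1)
    have h6 := hd k hk h5
    rw [← h4] at h6
    exact hq4 (h6.trans (h3.trans (Nat.pow_le_pow_left h2 2)))
  · -- the action on `V / D₁`
    set W := cr ρ K D with hW
    have hKM : K ≤ stS ρ W := fun k hk u => (cr_inv (N := K) (D := D)).iff hk u
    have hEM : ∀ a ∈ E, ∀ u ∈ W, ρ a u ∈ W := by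
      intro a ha u hu n hn'
      have h1 : n * a = a * (a⁻¹ * n * a) := by group
      rw [← MulAut.mul_apply, ← map_mul, h1, map_mul, MulAut.mul_apply]
      apply D_inv h a ha
      apply hu
      have := hn.conj_mem n hn' a⁻¹
      rwa [inv_inv] at this
    have hEM' : E ≤ stS ρ W := by
      intro a ha u
      refine ⟨fun h1 => ?_, hEM a ha u⟩
      have h2 := hEM a⁻¹ (inv_mem ha) _ h1
      rwa [← MulAut.mul_apply, ← map_mul, inv_mul_cancel, map_one] at h2
    let σ := quo (ρ.comp (stS ρ W).subtype) W (stS_inv ρ W)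
    let y' : stS ρ W := ⟨y, hKM y.2⟩
    let e' : stS ρ W := ⟨e, hEM' he⟩
    have hyo'' : orderOf y' = r := by rw [← Subgroup.orderOf_coe]; exact hyo'
    have hey' : e' * y' * e'⁻¹ = y'⁻¹ := Subtype.ext hey
    have hV' : ∀ v : V ⧸ W, v * v = 1 := quo_sq hV
    have hne : ∃ v, σ y' v ≠ v := by
      by_contra hcon
      push Not at hcon
      -- the kernel
      let N : Subgroup K :=
        { carrier := {k | ∀ v : V, ρ (k : H) v * v⁻¹ ∈ W}
          mul_mem' := fun {k l} hk hl v => by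
            show ρ ((k : H) * l) v * v⁻¹ ∈ W
            have h1 : ρ ((k : H) * l) v * v⁻¹ = (ρ (k : H) (ρ (l : H) v) * (ρ (l : H) v)⁻¹) * (ρ (l : H) v * v⁻¹) := by
              rw [map_mul, MulAut.mul_apply]; group
            rw [h1]
            exact mul_mem (hk _) (hl v)
          one_mem' := fun v => by
            show ρ 1 v * v⁻¹ ∈ W
            rw [map_one, MulAut.one_apply, mul_inv_cancel]
            exact one_mem _
          inv_mem' := fun {k} hk v => by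
            show ρ ((k : H)⁻¹) v * v⁻¹ ∈ W
            have h1 := inv_mem (hk (ρ ((k : H)⁻¹) v))
            rw [← MulAut.mul_apply, ← map_mul, mul_inv_cancel, map_one, MulAut.one_apply, mul_inv, inv_inv,
              mul_comm] at h1
            exact h1 }
      have hNn : N.Normal := by
        refine ⟨fun n hn' g v => ?_⟩
        show ρ ((g : H) * n * (g : H)⁻¹) v * v⁻¹ ∈ W
        have h1 : ρ ((g : H) * n * (g : H)⁻¹) v * v⁻¹ =
            ρ (g : H) (ρ (n : H) (ρ (g : H)⁻¹ v) * (ρ (g : H)⁻¹ v)⁻¹) := by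
          have e1 : ρ (g : H) (ρ (g : H)⁻¹ v) = v := by
            rw [← MulAut.mul_apply, ← map_mul, mul_inv_cancel, map_one]; rfl
          rw [map_mul (ρ (g : H)), map_inv (ρ (g : H)), e1, map_mul ρ, map_mul ρ]
          rfl
        rw [h1]
        exact (hKM g.2 _).2 (hn' _)
      have hyN : y ∈ N := by
        intro v
        have h1 := hcon (v : V ⧸ W)
        have h2 : ((ρ (y : H) v : V) : V ⧸ W) = v := h1
        have h3 := QuotientGroup.eq.1 h2.symm
        rwa [mul_comm] at h3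
      rcases hs.eq_bot_or_eq_top_of_normal N hNn with h1 | h1
      · rw [h1, Subgroup.mem_bot] at hyN
        exact hy1 (congrArg Subtype.val hyN)
      · have hK1 : K ≠ ⊥ := by
          rintro rfl
          exact hy1 (Subgroup.mem_bot.1 y.2)
        refine not_triv h hB hV hρ (nice hn hs y.2 hy1 hodd hE) hK1 ?_
        apply CM_le
        intro k hk v
        have h2 : (⟨k, hk⟩ : K) ∈ N := by rw [h1]; trivial
        exact cr_le (h2 v)
    obtain ⟨k, hk, h4, h5⟩ := prim (ρ := σ) hV' hr hr2 hyo'' hne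
    have h6 := hd k hk h5
    rw [← h4] at h6
    have h7 := half' σ (a := e') (y := y') (by rw [hyo'']; exact hr.odd_of_ne_two hr2) hey'
    have h8 : (fx σ e').index ≤ W.relIndex D := by
      rw [← card_range_cm]
      have h9 : (cm σ e').range ≤ D.map (QuotientGroup.mk' W) := by
        rintro _ ⟨v, rfl⟩
        obtain ⟨v, rfl⟩ := QuotientGroup.mk_surjective v
        exact ⟨ρ e v * v⁻¹, h.comm_mem v he, rfl⟩
      refine (Subgroup.card_le_of_le h9).trans ?_
      rw [← Subgroup.relIndex_ker, QuotientGroup.ker_mk']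
    have h9 := (h8.trans (relIndex_cr h hV hbot)).trans hrel
    exact hq4 (h6.trans (h7.trans (Nat.pow_le_pow_left h9 2)))

end Cfsg.Agent.OddCyclic.EmpC
end

-- part: OddCyclic/ClaimC/WDefs
section
/-!
# Elementary abelian groups with few commutators (weak form of best offenders)

`A` elementary abelian, faithful on the normal simple subgroup `L`, `|V : C_V(a)| ≤ |A|` for all `a ∈ A`.
-/

set_option autoImplicit false
set_option linter.unusedSectionVars false

namespace Cfsg.Agent.OddCyclic.ClaimC.WDefs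

open Cfsg.Agent.OddCyclic.FFBasic Cfsg.Agent.OddCyclic.FFRed

structure Fw {H : Type*} [Group H] {V : Type*} [CommGroup V] (ρ : H →* MulAut V) (L A : Subgroup H) : Prop where
  sq : ∀ a ∈ A, a * a = 1
  ne : A ≠ ⊥
  idx : ∀ a ∈ A, (fx ρ a).index ≤ Nat.card A
  faithA : ∀ a ∈ A, (∀ l ∈ L, a * l = l * a) → a = 1
  inn : ∀ a ∈ A, ∀ g ∈ L, (∀ l ∈ L, a * l * a⁻¹ = g * l * g⁻¹) → a ∈ L
  faithL : ∀ y ∈ L, y ≠ 1 → ∃ v, ρ y v ≠ v

end Cfsg.Agent.OddCyclic.ClaimC.WDefs
end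

-- part: OddCyclic/ClaimC/WPsl
section
/-!
# Weak offenders: `PSL₂(p)`
-/

set_option autoImplicit false
set_option linter.unusedSectionVars false

namespace Cfsg.Agent.OddCyclic.ClaimC.WPsl

open Matrix Cfsg.Agent.Lib.SL2Mat Cfsg.Agent.OddCyclic.T1Module Cfsg.Agent.OddCyclic.FFBasic
  Cfsg.Agent.OddCyclic.FFRed Cfsg.Agent.OddCyclic.FFSl2 Cfsg.Agent.OddCyclic.FFPslMat Cfsg.Agent.OddCyclic.PGLTorus
  Cfsg.Agent.OddCyclic.T1Defs Cfsg.Agent.OddCyclic.FFPsl Cfsg.Agent.OddCyclic.ClaimC.WDefs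

section psl

variable {H : Type*} [Group H] [Finite H] {V : Type*} [CommGroup V] [Finite V] {ρ : H →* MulAut V}
variable {L A : Subgroup H} [L.Normal] {F : Type*} [Field F] [Finite F] (R : Cfsg.Agent.GH.L2Aut.Rep F L)

local notation "ψ" => (MulAut.conjNormal (H := L))

theorem psi_ne (h : Fw ρ L A) {a : H} (ha : a ∈ A) (ha1 : a ≠ 1) : ψ a ≠ 1 := by
  intro h1
  apply ha1
  apply h.faithA a ha
  intro l hl
  have h2 := congrArg (fun α : MulAut L => ((α ⟨l, hl⟩ : L) : H)) h1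
  simp only [MulAut.conjNormal_apply, MulAut.one_apply] at h2
  exact mul_inv_eq_iff_eq_mul.1 h2

theorem psi_sq (h : Fw ρ L A) {a : H} (ha : a ∈ A) : ψ a * ψ a = 1 := by
  rw [← map_mul, h.sq a ha, map_one]

/-- the matrix of `a ∈ A` -/
theorem exists_mat (h : Fw ρ L A) (hF : (Nat.card F).Prime) {a : H} (ha : a ∈ A) (ha1 : a ≠ 1) :
    ∃ γ : GL (Fin 2) F, γ.1.trace = 0 ∧ R.gl γ = ψ a := by
  obtain ⟨γ, hγ⟩ := R.mem_PGL.1 (mem_PGL_of_prime R hF (ψ a))
  refine ⟨γ, ?_, hγ.symm⟩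
  apply trace_of_sq R
  · rw [← hγ]; exact psi_ne h ha ha1
  · rw [← hγ]; exact psi_sq h ha

/-- the matrices of two different elements are orthogonal -/
theorem orth (h : Fw ρ L A) {a b : H} (ha : a ∈ A) (hb : b ∈ A) (hab : a * b ≠ 1) {γ δ : GL (Fin 2) F}
    (hγ : R.gl γ = ψ a) (hδ : R.gl δ = ψ b) : (γ.1 * δ.1).trace = 0 := by
  have h1 : R.gl (γ * δ) = ψ (a * b) := by rw [map_mul, map_mul, hγ, hδ]
  have h2 := trace_of_sq R (g := γ * δ) (by rw [h1]; exact psi_ne h (mul_mem ha hb) hab)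
    (by rw [h1]; exact psi_sq h (mul_mem ha hb))
  exact h2

include R in
theorem card_le_four (h : Fw ρ L A) (hF : (Nat.card F).Prime) : Nat.card A ≤ 4 := by
  by_contra hcon
  push Not at hcon
  obtain ⟨a, ha, ha1, -, -, -⟩ := JInner.exists_notin A hcon 1 1 1 1
  obtain ⟨b, hb, hb1, hba, -, -⟩ := JInner.exists_notin A hcon 1 a 1 1
  obtain ⟨c, hc, hc1, hca, hcb, hcab⟩ := JInner.exists_notin A hcon 1 a b (a * b)
  have hinv : ∀ x ∈ A, x⁻¹ = x := fun x hx => inv_eq_of_mul_eq_one_left (h.sq x hx)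
  have hne : ∀ x ∈ A, ∀ y ∈ A, x ≠ y → x * y ≠ 1 := by
    intro x hx y hy hxy h1
    apply hxy
    rw [← hinv x hx]
    exact (eq_inv_of_mul_eq_one_right h1).symm ▸ rfl
  obtain ⟨γ, hγ0, hγ⟩ := exists_mat R h hF ha ha1
  obtain ⟨δ, hδ0, hδ⟩ := exists_mat R h hF hb hb1
  obtain ⟨ε, hε0, hε⟩ := exists_mat R h hF hc hc1
  have h1 := orth R h ha hb (hne a ha b hb hba.symm) hγ hδ
  have h2 := orth R h ha hc (hne a ha c hc hca.symm) hγ hε
  have h3 := orth R h hb hc (hne b hb c hc hcb.symm) hδ hε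
  have h4 := orth R h (mul_mem ha hb) hc (hne (a * b) (mul_mem ha hb) c hc hcab.symm)
    (γ := γ * δ) (δ := ε) (by rw [map_mul, map_mul, hγ, hδ]) hε
  exact no_three hγ0 hδ0 hε0 h1 h2 h3 h4 R.two

theorem mem_of_isSquare (h : Fw ρ L A) {a : H} (ha : a ∈ A) {γ : GL (Fin 2) F} (hγ : R.gl γ = ψ a)
    (hs : IsSquare γ.1.det) : a ∈ L := by
  obtain ⟨y, hy⟩ := R.gl_mem_inn.2 hs
  apply h.inn a ha y y.2
  intro l hl
  rw [hγ] at hy
  have h1 := congrArg (fun α : MulAut L => ((α ⟨l, hl⟩ : L) : H)) hy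
  simp only [MulAut.conjNormal_apply, MulAut.conj_apply] at h1
  exact h1.symm

/-- no split involution -/
theorem not_split (h : Fw ρ L A) (hV : ∀ v : V, v * v = 1) (hF : (Nat.card F).Prime) (h7 : 7 ≤ Nat.card F) {a : H}
    (ha : a ∈ A) {γ : GL (Fin 2) F} (hγ0 : γ.1.trace = 0) (hγ : R.gl γ = ψ a) (hi : (fx ρ a).index ≤ 4) :
    ¬ IsSquare (-γ.1.det) := by
  rintro ⟨s, hs⟩
  obtain ⟨u, hu1, hup, hui⟩ := split_inv R hγ0 hs.symm
  have hch := _root_.Cfsg.Agent.OddCyclic.FFPsl.charP hF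
  have hfact : Fact (Nat.card F).Prime := ⟨hF⟩
  have h1 := hup (Nat.card F) (CharP.cast_eq_zero F (Nat.card F))
  have h2 : orderOf ((R.π u : L) : H) = Nat.card F := by
    rw [Subgroup.orderOf_coe]
    exact orderOf_eq_prime (by rw [← map_pow, h1, map_one]) hu1
  rw [hγ] at hui
  have h3 := conj_of_psi hui
  have h4 : ((R.π u : L) : H) ≠ 1 := fun h => hu1 (Subtype.ext h)
  rcases (small hV (h.sq a ha) hF (by omega) h2 (h.faithL _ (R.π u).2 h4) h3 hi).1 with h5 | h5 <;> omega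

theorem index_le_four (h : Fw ρ L A) (R : Cfsg.Agent.GH.L2Aut.Rep F L) (hF : (Nat.card F).Prime) {a : H} (ha : a ∈ A) :
    (fx ρ a).index ≤ 4 :=
  (h.idx a ha).trans (card_le_four R h hF)

include R in
/-- `A ≤ L` -/
theorem le_L (h : Fw ρ L A) (hV : ∀ v : V, v * v = 1) (hc : OddCyc H) (hF : (Nat.card F).Prime)
    (h7 : 7 ≤ Nat.card F) : A ≤ L := by
  intro a ha
  by_contra haL
  have ha1 : a ≠ 1 := fun h1 => haL (h1 ▸ one_mem L)
  have h3F : (3 : F) ≠ 0 := three_ne hF h7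
  have h2F := R.two
  have hsplit : ∀ b ∈ A, ∀ γ : GL (Fin 2) F, γ.1.trace = 0 → R.gl γ = ψ b → ¬ IsSquare (-γ.1.det) :=
    fun b hb γ h0 h1 => not_split R h hV hF h7 hb h0 h1 (index_le_four h R hF hb)
  obtain ⟨γ, hγ0, hγ⟩ := exists_mat R h hF ha ha1
  have hns := hsplit a ha γ hγ0 hγ
  have hnd : ¬ IsSquare γ.1.det := fun hs => haL (mem_of_isSquare R h ha hγ hs)
  have hm1 : IsSquare (-1 : F) := by
    obtain ⟨s, hs⟩ := Cfsg.Agent.GH.L2Aut.isSquare_mul_of_not hns hnd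
    refine ⟨s / γ.1.det, ?_⟩
    have hd := det_ne γ
    field_simp
    linear_combination hs
  have hneg : ∀ x : F, IsSquare (-x) ↔ IsSquare x := by
    obtain ⟨i, hi⟩ := hm1
    intro x
    constructor
    · rintro ⟨s, hs⟩
      exact ⟨i * s, by linear_combination -hs + s * s * hi⟩
    · rintro ⟨s, hs⟩
      exact ⟨i * s, by linear_combination -hs + s * s * hi⟩
  have hA2 : ∀ b ∈ A, b = 1 ∨ b = a := by
    intro b hb
    by_contra hcon
    push Not at hcon
    obtain ⟨δ, hδ0, hδ⟩ := exists_mat R h hF hb hcon.1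
    have h1 := hsplit b hb δ hδ0 hδ
    have hab : a * b ≠ 1 := by
      intro h2
      apply hcon.2
      have h3 := eq_inv_of_mul_eq_one_right h2
      rw [h3]
      exact inv_eq_of_mul_eq_one_left (h.sq a ha)
    have h2 := hsplit (a * b) (mul_mem ha hb) (γ * δ) (orth R h ha hb hab hγ hδ)
      (by rw [map_mul, map_mul, hγ, hδ])
    rw [hneg] at h1 h2
    apply h2
    have h3 : (γ * δ).1.det = γ.1.det * δ.1.det := by rw [Units.val_mul, Matrix.det_mul]
    rw [h3]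
    exact Cfsg.Agent.GH.L2Aut.isSquare_mul_of_not hnd h1
  have hi2 : (fx ρ a).index ≤ 2 :=
    (h.idx a ha).trans (card_le_two_of hA2)
  obtain ⟨y, hyL, hy3, hay⟩ := exists_three R h3F hγ0 hγ
  have hiy : (fx ρ y).index ≤ 4 := (half' ρ (by rw [hy3]; decide) hay).trans (Nat.pow_le_pow_left hi2 2)
  have hall : ∀ z : H, orderOf z = 3 → (fx ρ z).index ≤ 4 := fun z hz => by
    rw [← index_eq_of_orderOf ρ hc Nat.prime_three (by norm_num) hy3 hz]; exact hiy
  -- the transvection is a product of two elements of order three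
  have hdz : (0 : F) * 1 - (-(1 / 2)) * 2 = 1 := by field_simp; ring
  have hdz' : (-1 : F) * 2 - (-(3 / 2)) * 2 = 1 := by field_simp; ring
  let z : Matrix.SpecialLinearGroup (Fin 2) F := mk 0 (-(1 / 2)) 2 1 hdz
  let z' : Matrix.SpecialLinearGroup (Fin 2) F := mk (-1) (-(3 / 2)) 2 2 hdz'
  have hz : orderOf ((R.π z : L) : H) = 3 := orderOf_three R h3F (by simp only [z, mk_00, mk_11]; ring)
  have hz' : orderOf ((R.π z' : L) : H) = 3 := orderOf_three R h3F (by simp only [z', mk_00, mk_11]; ring)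
  have hzz : z * z' = -up 1 := by
    refine ext_ent ?_ ?_ ?_ ?_
    · rw [ent_mul]; show 0 * (-1) + (-(1 / 2)) * 2 = -(1 : F); field_simp; ring
    · rw [ent_mul]; show 0 * (-(3 / 2)) + (-(1 / 2)) * 2 = -(1 : F); field_simp; ring
    · rw [ent_mul]; show 2 * (-1) + 1 * 2 = -(0 : F); ring
    · rw [ent_mul]; show 2 * (-(3 / 2)) + 1 * 2 = -(1 : F); field_simp; ring
  have hu : ((R.π (up 1) : L) : H) = (R.π z : L) * (R.π z' : L) := by
    rw [← Subgroup.coe_mul, ← map_mul, hzz, R.π_neg]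
  have hiu : (fx ρ ((R.π (up 1) : L) : H)).index ≤ 16 := by
    rw [hu]
    exact (index_mul_le ρ _ _).trans (Nat.mul_le_mul (hall _ hz) (hall _ hz'))
  have hou := orderOf_u R hF
  have hune : ((R.π (up 1) : L) : H) ≠ 1 := by
    intro h1
    rw [h1, orderOf_one] at hou
    omega
  obtain ⟨d, hd, hd1, hd2⟩ := prim (ρ := ρ) hV hF (by omega) hou (h.faithL _ (R.π (up 1)).2 hune)
  have hd4 : d ≤ 4 := by
    rw [hd1] at hiu
    have : (2 : ℕ) ^ d ≤ 2 ^ 4 := hiu
    exact (Nat.pow_le_pow_iff_right (by norm_num)).1 this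
  have h7' : Nat.card F = 7 := by
    have h15 : Nat.card F ≤ 15 := by
      have h1 := Nat.le_of_dvd (by
        have : 2 ^ 1 ≤ 2 ^ d := Nat.pow_le_pow_right (by norm_num) hd
        omega) hd2
      have : (2 : ℕ) ^ d ≤ 2 ^ 4 := Nat.pow_le_pow_right (by norm_num) hd4
      omega
    have hpr := hF
    generalize Nat.card F = n at *
    interval_cases d <;> interval_cases n <;> first | rfl | (exfalso; revert hd2 hpr; decide)
  -- `-1` is not a square modulo 7
  have := Fintype.ofFinite F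
  have h4 := FiniteField.isSquare_neg_one_iff.1 hm1
  rw [← Nat.card_eq_fintype_card, h7'] at h4
  exact h4 rfl

include R in
/-- `p = 7` -/
theorem seven (h : Fw ρ L A) (hV : ∀ v : V, v * v = 1) (hc : OddCyc H) (hF : (Nat.card F).Prime)
    (h7 : 7 ≤ Nat.card F) : Nat.card F = 7 := by
  have hAL := le_L R h hV hc hF h7
  have h3F : (3 : F) ≠ 0 := three_ne hF h7
  obtain ⟨⟨a, ha⟩, ha1'⟩ := Subgroup.ne_bot_iff_exists_ne_one.1 h.ne
  have ha1 : a ≠ 1 := fun h => ha1' (Subtype.ext h)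
  have haL := hAL ha
  obtain ⟨γ, hγ0, hγ⟩ := exists_mat R h hF ha ha1
  have hi := index_le_four h R hF ha
  obtain ⟨y, hyL, hy3, hay⟩ := exists_three R h3F hγ0 hγ
  have hiy : (fx ρ y).index ≤ 16 := (half' ρ (by rw [hy3]; decide) hay).trans (Nat.pow_le_pow_left hi 2)
  have hall : ∀ z : H, orderOf z = 3 → (fx ρ z).index ≤ 16 := fun z hz => by
    rw [← index_eq_of_orderOf ρ hc Nat.prime_three (by norm_num) hy3 hz]; exact hiy
  -- the involution `w`
  let w : L := R.π (Cfsg.Agent.Lib.PSL2Torus.jm F)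
  have hj : Cfsg.Agent.Lib.PSL2Torus.jm F * Cfsg.Agent.Lib.PSL2Torus.jm F = -1 := by
    refine ext_ent ?_ ?_ ?_ ?_
    · rw [ent_mul]; show 0 * 0 + (-1) * 1 = -(1 : F); ring
    · rw [ent_mul]; show 0 * (-1) + (-1) * 0 = -(0 : F); ring
    · rw [ent_mul]; show 1 * 0 + 0 * 1 = -(0 : F); ring
    · rw [ent_mul]; show 1 * (-1) + 0 * 0 = -(1 : F); ring
  have hw2 : w * w = 1 := by
    show R.π _ * R.π _ = 1
    rw [← map_mul, hj, R.ker]
    exact Or.inr rfl
  have hw1 : w ≠ 1 := by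
    intro h1
    have h2 : R.π (Cfsg.Agent.Lib.PSL2Torus.jm F) = 1 := h1
    rw [R.ker] at h2
    rcases h2 with h2 | h2
    · have := congrArg (fun w => ent w 1 0) h2
      simp only [Cfsg.Agent.Lib.PSL2Torus.jm_10, ent_one_10] at this
      exact one_ne_zero this
    · have h3 : (1 : F) = -0 := congrArg (fun w => ent w 1 0) h2
      rw [neg_zero] at h3
      exact one_ne_zero h3
  obtain ⟨g, hg⟩ := Cfsg.Agent.Lib.PSL2Torus.conj_inv_hom R.π R.two R.surj R.ker
    (t := (⟨a, haL⟩ : L)) (u := w) (fun h1 => ha1 (congrArg Subtype.val h1)) (Subtype.ext (h.sq a ha)) hw1 hw2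
  have hgw : (g : H) * a * (g : H)⁻¹ = (w : H) := congrArg Subtype.val hg
  have hiw : (fx ρ (w : H)).index ≤ 4 := by
    rw [← hgw, index_fx_conj]; exact hi
  have hz : orderOf ((R.π (up 1 * Cfsg.Agent.Lib.PSL2Torus.jm F) : L) : H) = 3 := by
    apply orderOf_three R h3F
    rw [ent_mul, ent_mul]
    show (1 : F) * 0 + 1 * 1 + (0 * (-1) + 1 * 0) = 1
    ring
  have hu : ((R.π (up 1) : L) : H) = (R.π (up 1 * Cfsg.Agent.Lib.PSL2Torus.jm F) : L) * (w : H) := by
    have h1 : R.π (up 1) = R.π (up 1 * Cfsg.Agent.Lib.PSL2Torus.jm F) * w := by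
      rw [map_mul, mul_assoc]
      show R.π (up 1) = R.π (up 1) * (w * w)
      rw [hw2, mul_one]
    rw [h1]; rfl
  have hiu : (fx ρ ((R.π (up 1) : L) : H)).index ≤ 64 := by
    rw [hu]
    exact (index_mul_le ρ _ _).trans (Nat.mul_le_mul (hall _ hz) hiw)
  have hou := orderOf_u R hF
  have hune : ((R.π (up 1) : L) : H) ≠ 1 := by
    intro h1
    rw [h1, orderOf_one] at hou
    omega
  obtain ⟨d, hd, hd1, hd2⟩ := prim (ρ := ρ) hV hF (by omega) hou (h.faithL _ (R.π (up 1)).2 hune)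
  have hd6 : d ≤ 6 := by
    rw [hd1] at hiu
    have : (2 : ℕ) ^ d ≤ 2 ^ 6 := hiu
    exact (Nat.pow_le_pow_iff_right (by norm_num)).1 this
  have h731 : Nat.card F = 7 ∨ Nat.card F = 31 := by
    have h63 : Nat.card F ≤ 63 := by
      have h1 := Nat.le_of_dvd (by
        have : 2 ^ 1 ≤ 2 ^ d := Nat.pow_le_pow_right (by norm_num) hd
        omega) hd2
      have : (2 : ℕ) ^ d ≤ 2 ^ 6 := Nat.pow_le_pow_right (by norm_num) hd6
      omega
    have hpr := hF
    clear hiu hd1 hou h3F hF hune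
    generalize Nat.card F = n at *
    interval_cases d <;> interval_cases n <;> first | (clear * - hd2; omega) | (exfalso; revert hpr; norm_num)
  rcases h731 with h1 | h1
  · exact h1
  · exfalso
    obtain ⟨y, hyL, hy15, hay⟩ := exists_fifteen R h1 hγ0 hγ
    refine kill15 hV hy15 hay ?_ ?_ hi
    · apply h.faithL _ (pow_mem hyL 3)
      intro h2
      have := orderOf_dvd_of_pow_eq_one h2
      rw [hy15] at this
      norm_num at this
    · apply h.faithL _ (pow_mem hyL 5)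
      intro h2
      have := orderOf_dvd_of_pow_eq_one h2
      rw [hy15] at this
      norm_num at this

end psl

end Cfsg.Agent.OddCyclic.ClaimC.WPsl
end

-- part: OddCyclic/ClaimC/WJ
section
/-!
# Weak offenders: `J₁`
-/

set_option autoImplicit false
set_option linter.unusedSectionVars false

namespace Cfsg.Agent.OddCyclic.ClaimC.WJ

open Subgroup Cfsg.Agent.SporRec.J1.Defs Cfsg.Agent.OddCyclic.T1Module Cfsg.Agent.OddCyclic.FFBasic
  Cfsg.Agent.OddCyclic.FFRed Cfsg.Agent.OddCyclic.FFSl2 Cfsg.Agent.OddCyclic.FFJ1 Cfsg.Agent.OddCyclic.ClaimC.WDefs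

section jone

variable {H : Type*} [Group H] [Finite H] {V : Type*} [CommGroup V] [Finite V] {ρ : H →* MulAut V}
variable {L A : Subgroup H} [L.Normal]

/-- the offender is contained in `L` -/
theorem jle_L (h : Fw ρ L A) (hJ : Local L) {k : L} (hk : orderOf k = 2) : A ≤ L := by
  intro a ha
  obtain ⟨g, hg⟩ := JInner.inner hJ k hk (MulAut.conjNormal a : MulAut L)
  refine h.inn a ha g g.2 ?_
  intro l hl
  have h1 := congrArg Subtype.val (hg ⟨l, hl⟩)
  rw [MulAut.conjNormal_apply] at h1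
  exact h1

/-- the order of the offender -/
theorem jcard_le (h : Fw ρ L A) (hJ : Local L) {k : L} (hk : orderOf k = 2) : Nat.card A ≤ 8 := by
  have h2 : IsPGroup 2 A := fun a => ⟨1, by
    rw [pow_one, pow_two]; exact Subtype.ext (h.sq a a.2)⟩
  obtain ⟨n, hn⟩ := IsPGroup.iff_card.1 h2
  have h3 : Nat.card A ∣ Nat.card L := Subgroup.card_dvd_of_le (jle_L h hJ hk)
  have h4 : n ≤ 3 := by
    by_contra hlt
    apply hJ.two
    refine Dvd.dvd.trans ?_ h3
    rw [hn]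
    exact pow_dvd_pow 2 (show 4 ≤ n by omega)
  rw [hn]
  exact Nat.pow_le_pow_right (by norm_num) h4

/-- **groups with the local structure of `J₁` have no best offenders** -/
theorem jmain (h : Fw ρ L A) (hV : ∀ v : V, v * v = 1) (hJ : Local L) {k : L} (hk : orderOf k = 2) : False := by
  obtain ⟨⟨a, ha⟩, ha1'⟩ := Subgroup.ne_bot_iff_exists_ne_one.1 h.ne
  have ha1 : a ≠ 1 := fun h => ha1' (Subtype.ext h)
  have haL := jle_L h hJ hk ha
  obtain ⟨w, y, hy, hw, hw1, hwy⟩ := exists_real hJ hk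
  have hao : orderOf (⟨a, haL⟩ : L) = 2 :=
    JInner.two_of_sq (Subtype.ext (h.sq a ha)) fun h1 => ha1 (congrArg Subtype.val h1)
  obtain ⟨g, hg⟩ := hJ.conj _ _ hao (JInner.two_of_sq hw hw1)
  have hgw : (g : H) * a * (g : H)⁻¹ = (w : H) := congrArg Subtype.val hg
  have hyH : orderOf (y : H) = 11 := by rw [Subgroup.orderOf_coe, hy]
  have hy1 : (y : H) ≠ 1 := by
    intro h1
    rw [h1, orderOf_one] at hyH
    omega
  have h1 : 2 ^ 5 ≤ (fx ρ (w : H)).index := by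
    refine le_index (a := (w : H)) (y := (y : H)) hV (l := 11) (by norm_num) (by norm_num) hyH
      (h.faithL _ y.2 hy1) ?_ ten_le
    exact congrArg Subtype.val hwy
  rw [← hgw, index_fx_conj] at h1
  have h3 := h.idx a ha
  have h4 := jcard_le h hJ hk
  omega

end jone

end Cfsg.Agent.OddCyclic.ClaimC.WJ
end

-- part: OddCyclic/EmpC/Comp
section
/-!
# CLAIM C, section 5: `E` is faithful on one component `K`, and `K = SL₂(q)` or `L₃(2)`
-/

set_option autoImplicit false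
set_option linter.unusedSectionVars false

namespace Cfsg.Agent.OddCyclic.EmpC

open Subgroup Cfsg.Agent.OddCyclic.T1Module Cfsg.Agent.OddCyclic.FFBasic Cfsg.Agent.OddCyclic.FFRed
open Cfsg.Agent.OddCyclic.T1Defs Cfsg.Agent.OddCyclic.CompBasic Cfsg.Agent.OddCyclic.FFStruct
open Cfsg.Agent.OddCyclic.PumpMain (KZero)
open Cfsg.Agent.SignalizersComponents.Components
open Cfsg.Agent.OddCyclic.ClaimC.WDefs

variable {H : Type*} [Group H] {V : Type*} [CommGroup V] [Finite H] [Finite V] {ρ : H →* MulAut V} {T : Sylow 2 H}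
  {E : Subgroup H} {R D : Subgroup V} {c d : ℕ}

/-- `E` is faithful on a component -/
theorem reduction (h : Cfg ρ E R D c d) (hB : Bad ρ T) (hN : NFF ρ) (hV : ∀ v : V, v * v = 1)
    (hρ : Function.Injective ρ) (hc : OddCyc H)
    (hk : ∀ J : Subgroup H, IsSimpleGroup J → (∃ x y : J, x * y ≠ y * x) → KZero J) (h2 : pCore 2 H = ⊥)
    (hR2 : ∀ K : Subgroup H, Cfsg.Lie.IsoSuzuki K → ∃ q, RSz K q) :
    ∃ L : Subgroup H, L.Normal ∧ IsSimpleGroup L ∧ KZero L ∧ ¬ Cfsg.Lie.IsoSuzuki L ∧ Fw ρ L E := by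
  classical
  have hkz : ∀ K : Subgroup H, IsComponent K → KZero K := by
    intro K hK
    refine hk K (simple_component hc h2 hK) ?_
    by_contra hcon
    push Not at hcon
    exact quasisimple_not_isMulCommutative hK.2 ⟨⟨hcon⟩⟩
  have hne : ∀ y : H, y ≠ 1 → ∃ v, ρ y v ≠ v := by
    intro y hy
    by_contra hcon
    push Not at hcon
    apply hy
    apply hρ
    rw [map_one]
    ext v
    exact hcon v
  have hsz : ∀ K : Subgroup H, IsComponent K → Cfsg.Lie.IsoSuzuki K → E ≤ centralizer (K : Set H) := by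
    intro K hK hs
    have hn := component_normal hc hK
    obtain ⟨q, hq⟩ := hR2 K hs
    refine no_suzuki h hB hV hρ (simple_component hc h2 hK) (inter_centralizer hc h2 hK) ?_ hq
    intro a ha
    obtain ⟨F, iF, iF', m, hm, hF, ⟨R⟩⟩ := Cfsg.Agent.ThreePrime.SzRel.exists_rel hs
    obtain ⟨j, hj⟩ := R.inner hm hF (MulAut.conjNormal a) ⟨1, by
      rw [pow_one, pow_two, ← map_mul, h.sq a ha, map_one]⟩
    refine ⟨j, j.2, fun k hk => ?_⟩
    have h1 := congrArg (fun α : MulAut K => ((α ⟨k, hk⟩ : K) : H)) hj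
    simpa only [MulAut.conjNormal_apply, _root_.MulAut.conj_apply, _root_.Subgroup.coe_mul, _root_.InvMemClass.coe_inv] using h1
  have hF := fitting h hV hN hρ hc hk h2
  -- a component which is not centralised
  obtain ⟨⟨a₀, ha₀⟩, ha₀1'⟩ := Subgroup.ne_bot_iff_exists_ne_one.1 h.ne_bot
  have ha₀1 : a₀ ≠ 1 := fun h => ha₀1' (Subtype.ext h)
  obtain ⟨L, hL, haL⟩ : ∃ L : Subgroup H, IsComponent L ∧ a₀ ∉ centralizer (L : Set H) := by
    by_contra hcon
    push Not at hcon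
    exact ha₀1 (eq_one_of_centralizes h2 (h.sq a₀ ha₀) (hF a₀ ha₀) hcon)
  have hLs : ¬ Cfsg.Lie.IsoSuzuki L := fun h => haL (hsz L hL h ha₀)
  have h3L := three_dvd_of_kZero (hkz L hL) hLs
  -- the other components are centralised
  have hoth : ∀ K : Subgroup H, IsComponent K → K ≠ L → E ≤ centralizer (K : Set H) := by
    intro K hK hKL
    by_cases hs : Cfsg.Lie.IsoSuzuki K
    · exact hsz K hK hs
    · exact absurd (component_eq hc h2 hK hL Nat.prime_three (by norm_num) (three_dvd_of_kZero (hkz K hK) hs) h3L)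
        hKL
  have hLo : ∀ K : Subgroup H, IsComponent K → K ≠ L → L ≤ centralizer (K : Set H) := by
    intro K hK hKL
    have h := component_commutator_eq_bot_of_ne hL hK hKL.symm
    rwa [Subgroup.commutator_eq_bot_iff_le_centralizer] at h
  have hLF : ∀ g ∈ L, ∀ x ∈ fittingSubgroup H, g * x = x * g := by
    intro g hg x hx
    have h := layer_le_centralizer_fitting (component_le_layer hL hg)
    exact ((mem_centralizer_iff.mp h) x hx).symm
  refine ⟨L, component_normal hc hL, simple_component hc h2 hL, hkz L hL, hLs, h.sq, h.ne_bot, ?_, ?_, ?_, ?_⟩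
  · intro a ha
    by_cases ha1 : a = 1
    · rw [ha1, fx_one, Subgroup.index_top]
      exact Nat.card_pos
    · exact h.width hV ha ha1
  · intro a ha hal
    refine eq_one_of_centralizes h2 (h.sq a ha) (hF a ha) ?_
    intro K hK
    by_cases hKL : K = L
    · subst hKL
      rw [mem_centralizer_iff]
      intro k hk'
      exact (hal k hk').symm
    · exact hoth K hK hKL ha
  · intro a ha g hg hag
    have hcL : g⁻¹ * a ∈ centralizer (L : Set H) := by
      rw [mem_centralizer_iff]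
      intro k hk'
      have h1 := hag k hk'
      have h3 : a * k = g * k * g⁻¹ * a := by rw [← h1]; group
      calc k * (g⁻¹ * a) = g⁻¹ * (g * k * g⁻¹ * a) := by group
        _ = g⁻¹ * (a * k) := by rw [h3]
        _ = _ := by group
    have h1 : g⁻¹ * a = 1 := by
      refine eq_one_of_centralizes h2 ?_ ?_ ?_
      · refine (FFInner.sq_eq (inter_centralizer hc h2 hL) h.sq hg hcL ?_).2
        rw [mul_inv_cancel_left]; exact ha
      · intro x hx
        rw [mul_assoc, hF a ha x hx, ← mul_assoc, hLF g⁻¹ (inv_mem hg) x hx, mul_assoc]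
      · intro K hK
        by_cases hKL : K = L
        · subst hKL; exact hcL
        · exact mul_mem (hLo K hK hKL (inv_mem hg)) (hoth K hK hKL ha)
    rw [inv_mul_eq_one] at h1
    rwa [← h1]
  · intro y _ hy1
    exact hne y hy1

/-- the two cases -/
theorem cases_ (h : Cfg ρ E R D c d) (hB : Bad ρ T) (hN : NFF ρ) (hV : ∀ v : V, v * v = 1)
    (hρ : Function.Injective ρ) (hc : OddCyc H)
    (hk : ∀ J : Subgroup H, IsSimpleGroup J → (∃ x y : J, x * y ≠ y * x) → KZero J) (h2 : pCore 2 H = ⊥)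
    (hR2 : ∀ K : Subgroup H, Cfsg.Lie.IsoSuzuki K → ∃ q, RSz K q) :
    (∃ L : Subgroup H, L.Normal ∧ IsSimpleGroup L ∧ Fw ρ L E ∧ ∃ (F : Type) (_ : Field F) (_ : Fintype F) (_ : CharP F 2),
      4 ≤ Fintype.card F ∧ Nonempty (Matrix.SpecialLinearGroup (Fin 2) F ≃* L)) ∨
    (∃ L : Subgroup H, L.Normal ∧ IsSimpleGroup L ∧ Fw ρ L E ∧ E ≤ L ∧ Nat.card E = 4 ∧
      ∃ (F : Type) (_ : Field F) (_ : Fintype F), Nat.card F = 7 ∧ Nonempty (Cfsg.Agent.GH.L2Aut.Rep F L)) := by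
  obtain ⟨L, hLn, hs, hK, hns, hf⟩ := reduction h hB hN hV hρ hc hk h2 hR2
  rcases hK with ⟨F, _, _, hp, h5, ⟨e⟩⟩ | ⟨F, _, _, f, hf', hF, ⟨e⟩⟩ | hK | ⟨hJ, k, hk'⟩
  · have hodd : Odd (Fintype.card F) := hp.odd_of_ne_two (by omega)
    by_cases h5' : Fintype.card F = 5
    · obtain ⟨K, i1, i2, i3, hK4, ⟨e'⟩⟩ := T1Socle.exists_four h5'
      exact Or.inl ⟨L, hLn, hs, hf, K, i1, i2, i3, by rw [hK4], ⟨(e.trans e').symm⟩⟩
    · have h7 : 7 ≤ Fintype.card F := by
        have h6 : Fintype.card F ≠ 6 := by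
          intro h6
          rw [h6] at hp
          revert hp
          norm_num
        omega
      have R := Cfsg.Agent.GH.L2Aut.Rep.ofEquiv (Cfsg.Agent.GH.L2Aut.two_ne_zero_of_odd hodd) e
      have hp' : (Nat.card F).Prime := by rw [Nat.card_eq_fintype_card]; exact hp
      have h7' : 7 ≤ Nat.card F := by rw [Nat.card_eq_fintype_card]; exact h7
      right
      refine ⟨L, hLn, hs, hf, ClaimC.WPsl.le_L R hf hV hc hp' h7', ?_, F, inferInstance, inferInstance,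
        ClaimC.WPsl.seven R hf hV hc hp' h7', ⟨R⟩⟩
      have h8 := ClaimC.WPsl.card_le_four R hf hp'
      have h9 := h.card
      have h10 : 2 ^ 2 ≤ 2 ^ c := Nat.pow_le_pow_right (by norm_num) h.two
      omega
  · have h4 : 4 ≤ Fintype.card F := by
      rw [hF]
      calc 4 = 2 ^ 2 := by norm_num
        _ ≤ 2 ^ f := Nat.pow_le_pow_right (by norm_num) hf'
    have hch : CharP F 2 := by
      have hch := ringChar.charP F
      have h1 : ringChar F ∣ 2 ^ f := by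
        rw [← hF, ← CharP.cast_eq_zero_iff F (ringChar F), Nat.cast_card_eq_zero]
      have h2 : (ringChar F).Prime := CharP.char_is_prime F (ringChar F)
      have h3 : ringChar F = 2 := (Nat.prime_dvd_prime_iff_eq h2 Nat.prime_two).1 (h2.dvd_of_dvd_pow h1)
      rwa [h3] at hch
    obtain ⟨g⟩ := WeakTI.PslTwo.nonempty_equiv (F := F)
    exact Or.inl ⟨L, hLn, hs, hf, F, inferInstance, inferInstance, hch, h4, ⟨g.trans e.symm⟩⟩
  · exact absurd hK hns
  · exact (ClaimC.WJ.jmain hf hV hJ hk').elim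

end Cfsg.Agent.OddCyclic.EmpC
end

-- part: OddCyclic/EmpC/L32
section
/-!
# CLAIM C, (β'): `K = L₃(2)`
-/

set_option autoImplicit false
set_option linter.unusedSectionVars false

namespace Cfsg.Agent.OddCyclic.EmpC

open Subgroup Cfsg.Agent.OddCyclic.T1Module Cfsg.Agent.OddCyclic.FFBasic Cfsg.Agent.OddCyclic.FFRed
open Cfsg.Agent.OddCyclic.T1Defs Cfsg.Agent.OddCyclic.CompBasic Cfsg.Agent.OddCyclic.FFStruct
open Cfsg.Agent.OddCyclic.FFSl2 (CS_le_fx)

/-! ### `E` of order 4 and width 4 -/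

section four

variable {H : Type*} [Group H] {V : Type*} [CommGroup V] [Finite H] [Finite V] {ρ : H →* MulAut V} {T : Sylow 2 H}
  {E : Subgroup H} {R D : Subgroup V} {c d : ℕ}

theorem index_eq_two (h : Cfg ρ E R D c d) (hN : NFF ρ) (hV : ∀ v : V, v * v = 1) (h4 : Nat.card E = 4) :
    D.index = 2 := by
  by_contra hne
  have h1 : 4 ≤ D.index := by
    rw [h.index] at hne ⊢
    have h2 : 2 ≤ d := by
      by_contra hcon
      have := h.pos
      have h3 : d = 1 := by omega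
      exact hne (by rw [h3, pow_one])
    calc 4 = 2 ^ 2 := by norm_num
      _ ≤ 2 ^ d := Nat.pow_le_pow_right (by norm_num) h2
  have hD := h.card_D hV
  rw [h4] at hD
  obtain ⟨w, hw, a, ha, hne'⟩ := h.nonquad hV hN
  apply hne'
  have ha1 : a ≠ 1 := by
    rintro rfl
    apply hne'
    rw [map_one]; rfl
  have h2 := h.card_fx_ge hV ha ha1
  have h3 : Nat.card D ≤ Nat.card (fx ρ a) := by
    rw [hD]
    calc 4 * Nat.card R ≤ D.index * Nat.card R := Nat.mul_le_mul_right _ h1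
      _ = Nat.card R * D.index := mul_comm _ _
      _ ≤ _ := h2
  have h5 : fx ρ a = D := Subgroup.eq_of_le_of_card_ge (h.fx_le ha ha1) h3
  have h6 : w ∈ fx ρ a := by rw [h5]; exact hw
  exact h6

theorem index_R (h : Cfg ρ E R D c d) (hN : NFF ρ) (hV : ∀ v : V, v * v = 1) (h4 : Nat.card E = 4) :
    R.index = 8 := by
  have h1 := h.card_V hV
  rw [h4, index_eq_two h hN hV h4] at h1
  have h2 := R.card_mul_index
  rw [h1] at h2
  have h3 : 0 < Nat.card R := Nat.card_pos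
  have h5 : Nat.card R * R.index = Nat.card R * 8 := by rw [h2]; ring
  exact Nat.eq_of_mul_eq_mul_left h3 h5

theorem CSE_eq (h : Cfg ρ E R D c d) (hN : NFF ρ) (hV : ∀ v : V, v * v = 1) (h4 : Nat.card E = 4) :
    CS ρ E = R := by
  symm
  apply Cfsg.Agent.OddCyclic.FFSl2.eq_of_index_le h.fix
  rw [index_R h hN hV h4]
  have h1 := hN E h.sq h.ne_bot
  rw [h4] at h1
  obtain ⟨m, hm⟩ := index_pow hV (CS ρ E)
  rw [hm] at h1 ⊢
  have h2 : 2 < m := by
    by_contra hcon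
    push Not at hcon
    have : 2 ^ m ≤ 2 ^ 2 := Nat.pow_le_pow_right (by norm_num) hcon
    omega
  calc 8 = 2 ^ 3 := by norm_num
    _ ≤ 2 ^ m := Nat.pow_le_pow_right (by norm_num) h2

/-- an element `x` of order 3 normalising `E` and trivial on `R` has `|V : C_V(x)| = 4` -/
theorem index_le_four (h : Cfg ρ E R D c d) (hN : NFF ρ) (hV : ∀ v : V, v * v = 1) (h4 : Nat.card E = 4) {x : H}
    (hodd : Odd (orderOf x)) (hx : x ∈ normalizer (E : Set H)) (hR : ∀ r ∈ R, ρ x r = r) :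
    (fx ρ x).index ≤ 4 := by
  -- `D` is invariant under `x`
  have hDx : ∀ w ∈ D, ρ x w ∈ D := by
    intro w hw
    obtain ⟨v, hv⟩ := h.exists_notMem
    obtain ⟨a, ha, r, hr, rfl⟩ := h.surj v hv w hw
    have h1 : x * a * x⁻¹ ∈ E := (mem_normalizer_iff.1 hx a).1 ha
    rw [map_mul (ρ x), map_mul (ρ x), map_inv (ρ x), apply_eq, hR r hr]
    exact mul_mem (h.comm_mem _ h1) (h.le hr)
  have hidx := index_eq_two h hN hV h4
  -- `[V, x] ≤ D`
  have hr : (cm ρ x).range ≤ D := by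
    rintro _ ⟨v, rfl⟩
    rw [cm_apply]
    by_cases hv : v ∈ D
    · exact mul_mem (hDx v hv) (inv_mem hv)
    · have h1 : ρ x v ∉ D := by
        intro h2
        apply hv
        -- `D` is finite, so `x⁻¹` preserves `D`
        have h3 : D.map (ρ x : V →* V) = D := by
          apply Subgroup.eq_of_le_of_card_ge
          · rintro _ ⟨w, hw, rfl⟩
            exact hDx w hw
          · rw [Subgroup.card_map_of_injective (ρ x).injective]
        rw [← h3] at h2
        obtain ⟨w, hw, hwv⟩ := h2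
        have h4 : w = v := (ρ x).injective hwv
        rwa [← h4]
      rw [Subgroup.mul_mem_iff_of_index_two hidx]
      rw [Subgroup.inv_mem_iff]
      exact ⟨fun h2 => absurd h2 h1, fun h2 => absurd h2 hv⟩
  have h1 : Nat.card ((cm ρ x).range × R) ≤ Nat.card D := by
    refine Nat.card_le_card_of_injective (fun p : (cm ρ x).range × R =>
      (⟨(p.1 : V) * p.2, mul_mem (hr p.1.2) (h.le p.2.2)⟩ : D)) ?_
    rintro ⟨a, u⟩ ⟨b, w⟩ hab
    have h2 : (a : V) * u = (b : V) * w := congrArg Subtype.val hab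
    have h3 : (a : V) * b = u * w := by
      have h5 : (a : V) = b * (w * u) := by
        have : ((a : V) * u) * u = ((b : V) * w) * u := by rw [h2]
        rwa [mul_assoc, hV, mul_one, mul_assoc] at this
      rw [h5, mul_comm (b : V) _, mul_assoc, hV, mul_one, mul_comm]
    have h6 : (a : V) * b = 1 := by
      apply eq_one_of_fix hV hodd (mul_mem a.2 b.2)
      rw [h3]
      exact hR _ (mul_mem u.2 w.2)
    have h7 : (a : V) = b := by
      rw [mul_eq_one_iff_eq_inv.1 h6, inv_eq hV]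
    have h8 : a = b := Subtype.ext h7
    subst h8
    have h9 : (u : V) = w := mul_left_cancel h2
    rw [Subtype.ext h9]
  rw [Nat.card_prod, h.card_D hV, card_range_cm, h4] at h1
  exact Nat.le_of_mul_le_mul_right h1 Nat.card_pos

end four

/-! ### `L₂(7)` is generated by two elements of order 3 -/

section gen

open Matrix Cfsg.Agent.Lib.SL2Mat Cfsg.Agent.GH.L2Aut Cfsg.Agent.Lib.PSL2Torus
open Cfsg.Agent.OddCyclic.FFThree (exists_cast cast_seven)

variable {F : Type*} [Field F] [Finite F] {L : Type*} [Group L] (Rp : Cfsg.Agent.GH.L2Aut.Rep F L)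

include Rp in
theorem exists_gen_three (hF : Nat.card F = 7) (hs : IsSimpleGroup L) :
    ∃ z z' : L, orderOf z = 3 ∧ orderOf z' = 3 ∧ Subgroup.closure {z, z'} = ⊤ := by
  have hF7 := cast_seven hF
  have h3 : (3 : F) ≠ 0 := FFPsl.three_ne (by rw [hF]; norm_num) (by rw [hF])
  let z : _root_.Matrix.SpecialLinearGroup (Fin 2) F := up 1 * jm F
  have hjj : jm F * jm F = -1 := by
    refine ext_ent ?_ ?_ ?_ ?_
    · rw [ent_mul]; show 0 * 0 + (-1) * 1 = -(1 : F); ring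
    · rw [ent_mul]; show 0 * (-1) + (-1) * 0 = -(0 : F); ring
    · rw [ent_mul]; show 1 * 0 + 0 * 1 = -(0 : F); ring
    · rw [ent_mul]; show 1 * (-1) + 0 * 0 = -(1 : F); ring
  set w : L := Rp.π (jm F) with hw
  set y : L := Rp.π z with hy
  have hw2 : w * w = 1 := by
    rw [hw, ← map_mul, hjj, Rp.ker]
    exact Or.inr rfl
  have hy3 : orderOf y = 3 := by
    have : Fact (Nat.Prime 3) := ⟨Nat.prime_three⟩
    have htr : ent z 0 0 + ent z 1 1 = 1 := by
      rw [ent_mul, ent_mul]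
      show (1 : F) * 0 + 1 * 1 + (0 * (-1) + 1 * 0) = 1
      ring
    obtain ⟨h1, h2⟩ := Cfsg.Agent.OddCyclic.FFPslMat.order_three_one Rp h3 htr
    exact orderOf_eq_prime h1 h2
  have hyw : y * w = Rp.π (up 1) := by
    rw [hy, hw, ← map_mul]
    have : z * jm F = -up 1 := by
      show up 1 * jm F * jm F = -up 1
      rw [mul_assoc, hjj, mul_neg, mul_one]
    rw [this, Rp.π_neg]
  -- `L = ⟨w, π (up 1)⟩`
  have hgen : Subgroup.closure ({w, Rp.π (up 1)} : Set L) = ⊤ := by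
    rw [eq_top_iff]
    intro x _
    obtain ⟨X, rfl⟩ := Rp.surj x
    set S := Subgroup.closure ({w, Rp.π (up 1)} : Set L) with hS
    have hj : Rp.π (jm F) ∈ S := Subgroup.subset_closure (Or.inl rfl)
    have hu1 : Rp.π (up 1) ∈ S := Subgroup.subset_closure (Or.inr rfl)
    have hu : ∀ t : F, Rp.π (up t) ∈ S := by
      intro t
      obtain ⟨n, rfl⟩ := exists_cast hF t
      rw [← FFPsl.up_pow, map_pow]
      exact pow_mem hu1 n
    have hl : ∀ t : F, Rp.π (lo t) ∈ S := by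
      intro t
      have h1 : lo t = -(jm F * up (-t) * jm F) := by
        refine ext_ent ?_ ?_ ?_ ?_
        · show 1 = -(ent (jm F * up (-t) * jm F) 0 0)
          rw [ent_mul, ent_mul, ent_mul]
          show (1 : F) = -((0 * 1 + (-1) * 0) * 0 + (0 * (-t) + (-1) * 1) * 1); ring
        · show 0 = -(ent (jm F * up (-t) * jm F) 0 1)
          rw [ent_mul, ent_mul, ent_mul]
          show (0 : F) = -((0 * 1 + (-1) * 0) * (-1) + (0 * (-t) + (-1) * 1) * 0); ring
        · show t = -(ent (jm F * up (-t) * jm F) 1 0)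
          rw [ent_mul, ent_mul, ent_mul]
          show (t : F) = -((1 * 1 + 0 * 0) * 0 + (1 * (-t) + 0 * 1) * 1); ring
        · show 1 = -(ent (jm F * up (-t) * jm F) 1 1)
          rw [ent_mul, ent_mul, ent_mul]
          show (1 : F) = -((1 * 1 + 0 * 0) * (-1) + (1 * (-t) + 0 * 1) * 0); ring
      rw [h1, Rp.π_neg, map_mul, map_mul]
      exact mul_mem (mul_mem hj (hu _)) hj
    obtain ⟨a, b, c, d, rfl⟩ := exists_up_lo X
    rw [map_mul, map_mul, map_mul]
    exact mul_mem (mul_mem (mul_mem (hu a) (hl b)) (hu c)) (hl d)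
  have hwinv : w⁻¹ = w := inv_eq_of_mul_eq_one_left hw2
  set z' : L := w * y * w⁻¹ with hz'
  refine ⟨y, z', hy3, ?_, ?_⟩
  · rw [hz', show orderOf (w * y * w⁻¹) = orderOf y from MulEquiv.orderOf_eq (MulAut.conj w) y, hy3]
  · set S := Subgroup.closure ({y, z'} : Set L) with hS
    have hyS : y ∈ S := Subgroup.subset_closure (Or.inl rfl)
    have hzS : z' ∈ S := Subgroup.subset_closure (Or.inr rfl)
    have hwS : w ∈ normalizer (S : Set L) := by
      have hle : S ≤ S.comap (MulAut.conj w).toMonoidHom := by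
        conv_lhs => rw [hS]
        rw [Subgroup.closure_le]
        rintro s (rfl | rfl)
        · exact hzS
        · show w * z' * w⁻¹ ∈ S
          have : w * z' * w⁻¹ = y := by
            rw [hz']
            calc w * (w * y * w⁻¹) * w⁻¹ = (w * w) * y * (w * w)⁻¹ := by group
              _ = y := by rw [hw2]; simp
          rw [this]; exact hyS
      rw [mem_normalizer_iff]
      intro s
      refine ⟨fun hs => hle hs, fun hs => ?_⟩
      have h1 := hle hs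
      have h2 : w * (w * s * w⁻¹) * w⁻¹ = s := by
        calc w * (w * s * w⁻¹) * w⁻¹ = (w * w) * s * (w * w)⁻¹ := by group
          _ = s := by rw [hw2]; simp
      have h3 : w * (w * s * w⁻¹) * w⁻¹ ∈ S := h1
      rwa [h2] at h3
    have htop : normalizer (S : Set L) = ⊤ := by
      rw [eq_top_iff, ← hgen, Subgroup.closure_le]
      rintro s (rfl | rfl)
      · exact hwS
      · show Rp.π (up 1) ∈ normalizer (S : Set L)
        rw [← hyw]
        exact mul_mem (le_normalizer hyS) hwS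
    have hn : S.Normal := Subgroup.normalizer_eq_top_iff.1 htop
    rcases hs.eq_bot_or_eq_top_of_normal S hn with h1 | h1
    · exfalso
      rw [h1, Subgroup.mem_bot] at hyS
      rw [hyS, orderOf_one] at hy3
      omega
    · exact h1

end gen

/-! ### (β') -/

section beta

open Cfsg.Agent.OddCyclic.FFThree

variable {H : Type*} [Group H] {V : Type*} [CommGroup V] [Finite H] [Finite V] {ρ : H →* MulAut V}
  {E : Subgroup H} {R D : Subgroup V} {c d : ℕ}

theorem mem_normalizer_map {K : Subgroup H} {A : Subgroup K} {k : K} (hk : k ∈ normalizer (A : Set K)) :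
    (k : H) ∈ normalizer ((A.map K.subtype : Subgroup H) : Set H) := by
  rw [mem_normalizer_iff] at hk ⊢
  intro x
  constructor
  · rintro ⟨a, ha, rfl⟩
    exact ⟨k * a * k⁻¹, (hk a).1 ha, rfl⟩
  · rintro ⟨a, ha, hax⟩
    have h1 : k⁻¹ * a * k ∈ A := by
      have := (hk (k⁻¹ * a * k)).2 (by
        have h2 : k * (k⁻¹ * a * k) * k⁻¹ = a := by group
        rwa [h2])
      exact this
    refine ⟨k⁻¹ * a * k, h1, ?_⟩
    show (k : H)⁻¹ * (a : H) * (k : H) = x
    have h2 : (a : H) = (k : H) * x * (k : H)⁻¹ := hax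
    rw [h2]; group

/-- **(β')** -/
theorem beta (h : Cfg ρ E R D c d) (hN : NFF ρ) (hV : ∀ v : V, v * v = 1) (hc : OddCyc H)
    {K : Subgroup H} (hKn : K.Normal) (hs : IsSimpleGroup K) {F : Type*} [Field F] [Finite F]
    (Rp : Cfsg.Agent.GH.L2Aut.Rep F K) (hF : Nat.card F = 7) (hEK : E ≤ K) (h4 : Nat.card E = 4) :
    ∃ x ∈ K, orderOf x = 3 ∧ x ∈ normalizer (E : Set H) ∧ ∃ r ∈ R, ρ x r ≠ r := by
  have hl := l32_of Rp hF
  set A : Subgroup K := E.subgroupOf K with hA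
  have hAE : A.map K.subtype = E := by rw [hA, Subgroup.subgroupOf_map_subtype, inf_eq_left.2 hEK]
  have hA4 : IsFour A := by
    refine ⟨?_, fun a ha => Subtype.ext (h.sq a ha)⟩
    rw [← h4, ← Subgroup.card_map_of_injective K.subtype_injective, hAE]
  obtain ⟨z, hz, a, ha, hfour, hmem⟩ := hA4.exists_four
  obtain ⟨y, hy, hy3, hyz, hya⟩ := fuse_mem hl hfour hmem
  have hyo : orderOf y = 3 := by
    have : Fact (Nat.Prime 3) := ⟨Nat.prime_three⟩
    refine orderOf_eq_prime (by rw [pow_succ, pow_two, hy3]) ?_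
    rintro rfl
    rw [one_mul, inv_one, mul_one] at hyz
    exact hfour.ne hyz
  have hyo' : orderOf (y : H) = 3 := by rw [Subgroup.orderOf_coe]; exact hyo
  have hyE : (y : H) ∈ normalizer (E : Set H) := by
    have := mem_normalizer_map hy
    rwa [hAE] at this
  refine ⟨y, y.2, hyo', hyE, ?_⟩
  by_contra hcon
  push Not at hcon
  have hi4 := index_le_four h hN hV h4 (by rw [hyo']; decide) hyE hcon
  have hall : ∀ z : H, orderOf z = 3 → (fx ρ z).index ≤ 4 := fun z hz => by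
    rw [← FFPsl.index_eq_of_orderOf ρ hc Nat.prime_three (by norm_num) hyo' hz]; exact hi4
  have hCS : CS ρ E = R := CSE_eq h hN hV h4
  have hCK : CS ρ K = ⊥ := by
    refine h.bad _ ?_ (CS_inv ρ K)
    rw [← hCS]
    exact CS_anti hEK
  -- `|V| ≤ 16`
  have hV16 : Nat.card V ≤ 16 := by
    obtain ⟨u, u', hu, hu', hgen⟩ := exists_gen_three Rp hF hs
    have h1 : fx ρ (u : H) ⊓ fx ρ (u' : H) ≤ CS ρ K := by
      rintro v ⟨hv, hv'⟩ k hk
      have h2 : (⊤ : Subgroup K) ≤ (FFSl2.stb ρ v).comap K.subtype := by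
        rw [← hgen, Subgroup.closure_le]
        rintro s (rfl | rfl)
        · exact hv
        · exact hv'
      exact h2 (Subgroup.mem_top (⟨k, hk⟩ : K))
    rw [hCK, le_bot_iff] at h1
    have h2 := Subgroup.index_inf_le (H := fx ρ (u : H)) (K := fx ρ (u' : H))
    rw [h1, Subgroup.index_bot] at h2
    exact h2.trans (Nat.mul_le_mul (hall _ (by rw [Subgroup.orderOf_coe]; exact hu))
      (hall _ (by rw [Subgroup.orderOf_coe]; exact hu')))
  have hR2 : Nat.card R ≤ 2 := by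
    have h1 := R.card_mul_index
    rw [index_R h hN hV h4] at h1
    omega
  -- a Sylow 2-subgroup
  have hA2 : IsPGroup 2 A := fun a => ⟨1, by
    rw [pow_one, pow_two]; exact Subtype.ext (hA4.sq a a.2)⟩
  obtain ⟨T, hT⟩ := hA2.exists_le_sylow
  obtain ⟨z', a', b', hza, hzb, hAeq, hBT, -, -, -, -, hsup⟩ := exists_other hl T hA4 hT
  set B : Subgroup H := hzb.sub.map K.subtype with hB
  have hVne : (⊤ : Subgroup V) ≠ ⊥ := by
    intro h1
    obtain ⟨v, hv⟩ := h.exists_notMem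
    apply hv
    have : v ∈ (⊤ : Subgroup V) := trivial
    rw [h1, Subgroup.mem_bot] at this
    rw [this]
    exact one_mem D
  obtain ⟨v, -, hv1, hvT⟩ := exists_fixed hV (ρ := ρ) (P := (T : Subgroup K).map K.subtype)
    (T.2.map K.subtype) (W := ⊤) (fun _ _ _ _ => trivial) hVne
  have hvR : v ∈ R := by
    rw [← hCS]
    intro e he
    exact hvT e ⟨⟨e, hEK he⟩, hT he, rfl⟩
  have hRv : ∀ w ∈ R, w = 1 ∨ w = v := by
    intro w hw
    by_contra hcon2
    push Not at hcon2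
    have h1 : ({1, v, w} : Set V) ⊆ R := by
      rintro u (rfl | rfl | rfl)
      · exact one_mem R
      · exact hvR
      · exact hw
    have h2 : ({1, v, w} : Set V).ncard = 3 := by
      rw [Set.ncard_eq_three]
      exact ⟨1, v, w, hv1.symm, hcon2.1.symm, hcon2.2.symm, rfl⟩
    have h3 := Set.ncard_le_ncard h1 (Set.toFinite _)
    rw [h2] at h3
    have h4 : (R : Set V).ncard = Nat.card R := (Nat.card_coe_set_eq _).symm
    omega
  have hvB : v ∈ CS ρ B := by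
    rintro _ ⟨b, hb, rfl⟩
    exact hvT _ ⟨b, hBT hb, rfl⟩
  have hBcard : Nat.card (CS ρ B) ≤ 2 := by
    have h1 := hN B (by
      rintro _ ⟨b, hb, rfl⟩
      exact congrArg Subtype.val ((isFour_sub hzb).sq b hb)) (by
      intro h2
      have h3 : Nat.card B = 4 := by
        rw [hB, Subgroup.card_map_of_injective K.subtype_injective]
        exact (isFour_sub hzb).card
      rw [h2, Subgroup.card_bot] at h3
      omega)
    have h3 : Nat.card B = 4 := by
      rw [hB, Subgroup.card_map_of_injective K.subtype_injective]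
      exact (isFour_sub hzb).card
    rw [h3] at h1
    obtain ⟨m, hm⟩ := index_pow hV (CS ρ B)
    have h5 : 8 ≤ (CS ρ B).index := by
      rw [hm] at h1 ⊢
      have h2 : 2 < m := by
        by_contra hcon
        push Not at hcon
        have : 2 ^ m ≤ 2 ^ 2 := Nat.pow_le_pow_right (by norm_num) hcon
        omega
      calc 8 = 2 ^ 3 := by norm_num
        _ ≤ 2 ^ m := Nat.pow_le_pow_right (by norm_num) h2
    have h6 := (CS ρ B).card_mul_index
    by_contra hcon2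
    push Not at hcon2
    have h7 : 3 * 8 ≤ Nat.card (CS ρ B) * (CS ρ B).index := Nat.mul_le_mul hcon2 h5
    omega
  have hBv : ∀ w ∈ CS ρ B, w = 1 ∨ w = v := by
    intro w hw
    by_contra hcon2
    push Not at hcon2
    have h1 : ({1, v, w} : Set V) ⊆ CS ρ B := by
      rintro u (rfl | rfl | rfl)
      · exact one_mem _
      · exact hvB
      · exact hw
    have h2 : ({1, v, w} : Set V).ncard = 3 := by
      rw [Set.ncard_eq_three]
      exact ⟨1, v, w, hv1.symm, hcon2.1.symm, hcon2.2.symm, rfl⟩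
    have h3 := Set.ncard_le_ncard h1 (Set.toFinite _)
    rw [h2] at h3
    have h4 : (CS ρ B : Set V).ncard = Nat.card (CS ρ B) := (Nat.card_coe_set_eq _).symm
    omega
  -- `K` fixes `v`
  have hfix : (⊤ : Subgroup K) ≤ (FFSl2.stb ρ v).comap K.subtype := by
    rw [← hsup]
    have hne : ∀ k : K, ρ (k : H) v ≠ 1 := fun k h1 =>
      hv1 ((map_eq_one_iff _ (ρ (k : H)).injective).1 h1)
    refine sup_le ?_ ?_
    · intro k hk
      have h1 := mem_normalizer_map hk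
      rw [hAE] at h1
      have h2 : ρ (k : H) v ∈ R := by
        rw [← hCS]
        exact CS_stable h1 (by rw [hCS]; exact hvR)
      exact (hRv _ h2).resolve_left (hne k)
    · intro k hk
      have h1 := mem_normalizer_map hk
      have h2 : ρ (k : H) v ∈ CS ρ B := CS_stable h1 hvB
      exact (hBv _ h2).resolve_left (hne k)
  have hvK : v ∈ CS ρ K := fun k hk => hfix (Subgroup.mem_top (⟨k, hk⟩ : K))
  rw [hCK, Subgroup.mem_bot] at hvK
  exact hv1 hvK

end beta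

end Cfsg.Agent.OddCyclic.EmpC
end
end

-- part: OddCyclic/ClaimC/SixB
section
set_option linter.all false
open scoped Cfsg.Agent.FastGrp

/-!
# CLAIM C, (6.3): `|V| = q²`, `D = [V, U]`, `R = [D, a]`
-/

set_option autoImplicit false
set_option linter.unusedSectionVars false

namespace Cfsg.Agent.OddCyclic.ClaimC.SixB

open Matrix Cfsg.Agent.OddCyclic.T1Module Cfsg.Agent.OddCyclic.T1Sl2 Cfsg.Agent.OddCyclic.FFBasic
  Cfsg.Agent.OddCyclic.ClaimC.SixPP Cfsg.Agent.OddCyclic.FFRed Cfsg.Agent.OddCyclic.EmpC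
open Cfsg.Agent.OddCyclic.FFSl2 (index_le_of_le eq_of_index_le)
open Cfsg.Agent.OddCyclic.ClaimC

variable {F : Type*} [Field F] [Fintype F] [CharP F 2] {V : Type*} [CommGroup V]

/-- the configuration with `E = U`, the upper unitriangular subgroup -/
structure Six (ρ : SpecialLinearGroup (Fin 2) F →* MulAut V) (R D : Subgroup V) (c d : ℕ) : Prop where
  cfg : Cfg ρ (T1Sl2.SU F : Subgroup (SpecialLinearGroup (Fin 2) F)) R D c d
  irr : ∀ W : Subgroup V, Inv ρ W → W = ⊥ ∨ W = ⊤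
  nq : ∃ w ∈ D, ∃ a ∈ T1Sl2.SU F, ρ a w ≠ w
  four : 4 ≤ Fintype.card F
  sq : ∀ v : V, v * v = 1

variable [Finite V] {ρ : SpecialLinearGroup (Fin 2) F →* MulAut V} {R D : Subgroup V} {c d : ℕ}

namespace Six

theorem ne (s : Six ρ R D c d) : ∃ g v, ρ g v ≠ v := by
  obtain ⟨w, -, a, -, h⟩ := s.nq
  exact ⟨a, w, h⟩

theorem cardF (s : Six ρ R D c d) : Fintype.card F = 2 ^ c := by
  rw [← s.cfg.card, ← card_sylow (T1Sl2.SU F)]

/-- `|V : C_V(a)| = q` -/
theorem index_a (s : Six ρ R D c d) {a : SpecialLinearGroup (Fin 2) F} (ha : a ∈ T1Sl2.SU F) (ha1 : a ≠ 1) :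
    (fx ρ a).index = Fintype.card F := by
  apply le_antisymm
  · have h1 := s.cfg.width s.sq ha ha1
    rwa [s.cfg.card, ← s.cardF] at h1
  · exact sl2_index s.four s.sq ρ s.ne (SU_sq ha) ha1

theorem index_conj (s : Six ρ R D c d) {a : SpecialLinearGroup (Fin 2) F} (ha : a ∈ T1Sl2.SU F) (ha1 : a ≠ 1)
    (g : SpecialLinearGroup (Fin 2) F) : (fx ρ (g * a * g⁻¹)).index = Fintype.card F := by
  rw [index_fx_conj, s.index_a ha ha1]

/-- an involution `b` inverting `y` with `|V : C_V(y)| ≥ |V : C_V(b)|²` centralises `C_V(y)` -/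
theorem _root_.Cfsg.Agent.OddCyclic.ClaimC.SixB.fx_le_fx {X : Type*} [Group X] {ρ : X →* MulAut V} {b y : X}
    (hy : Odd (orderOf y)) (h : b * y * b⁻¹ = y⁻¹)
    (hi : (fx ρ b).index ^ 2 ≤ (fx ρ y).index) : fx ρ y ≤ fx ρ b := by
  have h1 : fx ρ b ⊓ fx ρ (y * b * y⁻¹) ≤ fx ρ y := by
    intro v hv
    apply fx_of_sq ρ hy
    have h2 : y * b * y⁻¹ = y * y * b := by
      have h3 : b * y⁻¹ = y * b := by
        calc b * y⁻¹ = (b * y * b⁻¹)⁻¹ * b := by group
          _ = y * b := by rw [h, inv_inv]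
      rw [mul_assoc, h3, mul_assoc]
    have h4 := hv.2
    rw [h2] at h4
    have h5 := fx_mul ρ h4 (fx_inv ρ hv.1)
    rwa [mul_inv_cancel_right] at h5
  have h2 : (fx ρ b ⊓ fx ρ (y * b * y⁻¹)).index ≤ (fx ρ y).index := by
    refine Subgroup.index_inf_le.trans ?_
    rw [index_fx_conj, ← pow_two]
    exact hi
  have h3 := eq_of_index_le h1 h2
  rw [← h3]
  exact inf_le_left

/-- **(6.3)** `|V| = q²` -/
theorem card_V (s : Six ρ R D c d) : Nat.card V = Fintype.card F ^ 2 := by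
  obtain ⟨f, hf, hF⟩ := card_pow F
  have h4 := s.four
  have hf2 : 2 ≤ f := by
    by_contra hcon
    have : f = 1 := by omega
    rw [hF, this] at h4
    norm_num at h4
  obtain ⟨l, k, hp⟩ := exists_pp (n := 2 * f) (by omega)
  obtain ⟨a, ha, ha1⟩ := exists_ne_one (T1Sl2.SU F)
  obtain ⟨y, hy, hay⟩ := SixY.exists_inverted hF hp (SU_sq ha) ha1
  have hodd : Odd (orderOf y) := by rw [hy]; exact hp.odd
  have hs1 : y ^ (l ^ (k - 1)) ≠ 1 := by
    intro h1
    have h2 := orderOf_s hp.prime hp.pos hy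
    rw [h1, orderOf_one] at h2
    exact hp.prime.one_lt.ne h2
  have h1 : Fintype.card F ^ 2 ≤ (fx ρ y).index := by
    have := index_ge s.sq ρ hp hy (nontrivial_of s.four ρ s.ne hs1)
    rwa [mul_comm 2 f, pow_mul, ← hF] at this
  have hbot : fx ρ y = ⊥ := by
    have h2 : fx ρ y ≤ LemN.cr ρ ⊤ D := by
      intro v hv
      rw [LemN.mem_cr]
      intro g _
      obtain ⟨b, hb, hb1, hby⟩ := SixY.conj_inverts hF hf hp hy g⁻¹
      have h3 : fx ρ y ≤ fx ρ (g⁻¹ * b * g⁻¹⁻¹) := by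
        apply fx_le_fx hodd hby
        rw [s.index_conj hb hb1]
        exact h1
      have h4 := h3 hv
      apply s.cfg.fx_le hb hb1
      rw [mem_fx] at h4 ⊢
      rw [inv_inv] at h4
      have h5 : ρ (g * (g⁻¹ * b * g)) v = ρ g v := by rw [map_mul, MulAut.mul_apply, h4]
      rw [show g * (g⁻¹ * b * g) = b * g by group, map_mul, MulAut.mul_apply] at h5
      exact h5
    rcases s.irr (LemN.cr ρ ⊤ D) (fun g w hw => LemN.cr_inv g (Subgroup.mem_top g) w hw) with h3 | h3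
    · rw [h3] at h2
      exact le_bot_iff.1 h2
    · exfalso
      apply s.cfg.ne_top
      rw [eq_top_iff, ← h3]
      exact LemN.cr_le
  have h2 := half' ρ hodd hay
  rw [s.index_a ha ha1] at h2
  rw [hbot, Subgroup.index_bot] at h1 h2
  exact le_antisymm h2 h1

theorem card_D (s : Six ρ R D c d) : Nat.card D * 2 ^ d = Fintype.card F ^ 2 := by
  rw [← s.card_V, ← D.card_mul_index, s.cfg.index]

/-- `|R| 2^d = q` -/
theorem card_R (s : Six ρ R D c d) : Nat.card R * 2 ^ d = Fintype.card F := by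
  have h1 := s.card_D
  rw [s.cfg.card_D s.sq, s.cfg.card, ← s.cardF] at h1
  have h2 : 0 < Fintype.card F := Fintype.card_pos
  rw [pow_two, mul_assoc] at h1
  exact Nat.eq_of_mul_eq_mul_left h2 h1

/-- `d < f` -/
theorem d_lt (s : Six ρ R D c d) : 2 ^ d < Fintype.card F := by
  by_contra hcon
  push Not at hcon
  obtain ⟨w, hw, a, ha, hne⟩ := s.nq
  have ha1 : a ≠ 1 := by
    rintro rfl
    apply hne
    rw [map_one]; rfl
  apply hne
  have h1 := s.cfg.fx_le ha ha1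
  have h2 : fx ρ a = D := eq_of_index_le h1 (by rw [s.index_a ha ha1, s.cfg.index]; exact hcon)
  rw [← h2] at hw
  exact hw

/-- `R = [D, a]` -/
theorem map_D (s : Six ρ R D c d) {a : SpecialLinearGroup (Fin 2) F} (ha : a ∈ T1Sl2.SU F) (ha1 : a ≠ 1) :
    D.map (cm ρ a) = R := by
  apply Subgroup.eq_of_le_of_card_ge
  · rintro _ ⟨w, hw, rfl⟩
    exact s.cfg.dcomm w hw a ha
  · have h1 : Nat.card (D.map (cm ρ a)) * Nat.card (fx ρ a) = Nat.card D := by
      have h2 : D.map (cm ρ a) = ((cm ρ a).comp D.subtype).range := by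
        rw [MonoidHom.range_comp, Subgroup.range_subtype]
      have h3 : ((cm ρ a).comp D.subtype).ker = (fx ρ a).subgroupOf D := by
        rw [← ker_cm]; rfl
      have h4 := ((cm ρ a).comp D.subtype).ker.card_mul_index
      rw [Subgroup.index_ker, h3, Nat.card_congr (Subgroup.subgroupOfEquivOfLe (s.cfg.fx_le ha ha1)).toEquiv] at h4
      rw [h2, mul_comm]
      exact h4
    have h2 : Nat.card (fx ρ a) = Fintype.card F := by
      have h3 := (fx ρ a).card_mul_index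
      rw [s.index_a ha ha1, s.card_V, pow_two] at h3
      exact Nat.eq_of_mul_eq_mul_right Fintype.card_pos h3
    rw [h2, s.cfg.card_D s.sq, s.cfg.card, ← s.cardF, mul_comm] at h1
    exact (Nat.eq_of_mul_eq_mul_left Fintype.card_pos h1).ge

/-- `D = [V, U]` -/
theorem D_eq (s : Six ρ R D c d) : D = CM ρ (T1Sl2.SU F : Subgroup (SpecialLinearGroup (Fin 2) F)) := by
  apply le_antisymm
  · intro x hx
    obtain ⟨v, hv⟩ := s.cfg.exists_notMem
    obtain ⟨a, ha, r, hr, rfl⟩ := s.cfg.surj v hv x hx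
    refine mul_mem (mem_CM ha v) ?_
    obtain ⟨b, hb, hb1⟩ := exists_ne_one (T1Sl2.SU F)
    rw [← s.map_D hb hb1] at hr
    obtain ⟨w, hw, rfl⟩ := hr
    exact mem_CM hb w
  · exact CM_le fun a ha v => s.cfg.comm_mem v ha

/-- elements normalising `U` -/
theorem norm_D (s : Six ρ R D c d) {t : SpecialLinearGroup (Fin 2) F} (ht : ∀ a ∈ T1Sl2.SU F, t * a * t⁻¹ ∈ T1Sl2.SU F) {v : V}
    (hv : v ∈ D) : ρ t v ∈ D := by
  rw [s.D_eq] at hv ⊢
  have h1 : CM ρ (T1Sl2.SU F : Subgroup (SpecialLinearGroup (Fin 2) F)) ≤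
      (CM ρ (T1Sl2.SU F : Subgroup (SpecialLinearGroup (Fin 2) F))).comap (ρ t : V →* V) := by
    apply CM_le
    intro a ha v
    rw [Subgroup.mem_comap]
    show ρ t (ρ a v * v⁻¹) ∈ _
    rw [map_mul, map_inv, apply_eq]
    exact mem_CM (ht a ha) _
  exact h1 hv

theorem norm_R (s : Six ρ R D c d) {t : SpecialLinearGroup (Fin 2) F} (ht : ∀ a ∈ T1Sl2.SU F, t * a * t⁻¹ ∈ T1Sl2.SU F) {v : V}
    (hv : v ∈ R) : ρ t v ∈ R := by
  obtain ⟨b, hb, hb1⟩ := exists_ne_one (T1Sl2.SU F)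
  rw [← s.map_D hb hb1] at hv
  obtain ⟨w, hw, rfl⟩ := hv
  rw [cm_apply, map_mul, map_inv, apply_eq]
  exact s.cfg.dcomm _ (s.norm_D ht hw) _ (ht b hb)

end Six

end Cfsg.Agent.OddCyclic.ClaimC.SixB
end

-- part: OddCyclic/ClaimC/SixT
section
set_option linter.all false
open scoped Cfsg.Agent.FastGrp

/-!
# CLAIM C, (6.4): the torus
-/

set_option autoImplicit false
set_option linter.unusedSectionVars false
set_option linter.unusedSimpArgs false

namespace Cfsg.Agent.OddCyclic.ClaimC.SixT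

open Matrix Cfsg.Agent.OddCyclic.T1Module Cfsg.Agent.OddCyclic.T1Sl2 Cfsg.Agent.OddCyclic.FFBasic
  Cfsg.Agent.OddCyclic.ClaimC.SixPP Cfsg.Agent.OddCyclic.FFRed Cfsg.Agent.OddCyclic.EmpC
  Cfsg.Agent.OddCyclic.ClaimC.SixB
open Cfsg.Agent.OddCyclic.FFSl2 (index_le_of_le eq_of_index_le)

section general

variable {X : Type*} [Group X] {V : Type*} [CommGroup V]

/-- `|[V,y]| = |C_{[V,y]}(a)|²` for an involution `a` inverting `y` -/
theorem card_range_sq [Finite V] {ρ : X →* MulAut V} (hV : ∀ v : V, v * v = 1) {a y : X} (ha : a * a = 1)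
    (hy : Odd (orderOf y)) (h : a * y * a⁻¹ = y⁻¹) :
    Nat.card (cm ρ y).range = Nat.card (fx ρ a ⊓ (cm ρ y).range : Subgroup V) ^ 2 := by
  set R := (cm ρ y).range with hR
  have hst : ∀ v ∈ R, ρ a v ∈ R := fun v hv => apply_mem_range_of_inv ρ h hv
  have haa : ∀ v : V, ρ a (ρ a v) = v := by
    intro v
    rw [← MulAut.mul_apply, ← map_mul, ha, map_one]; rfl
  let f : R →* R :=
    { toFun := fun v => ⟨ρ a v * (v : V)⁻¹, mul_mem (hst v v.2) (inv_mem v.2)⟩
      map_one' := by apply Subtype.ext; simp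
      map_mul' := fun v w => by
        apply Subtype.ext
        show ρ a (v * w : V) * (v * w : V)⁻¹ = (ρ a v * (v : V)⁻¹) * (ρ a w * (w : V)⁻¹)
        rw [map_mul, mul_inv]
        exact mul_mul_mul_comm _ _ _ _ }
  have hf : ∀ v : R, ((f v : R) : V) = ρ a v * (v : V)⁻¹ := fun v => rfl
  have h1 : f.range ≤ f.ker := by
    rintro _ ⟨v, rfl⟩
    rw [MonoidHom.mem_ker]
    apply Subtype.ext
    have e : ρ a (ρ a v * (v : V)⁻¹) = (v : V) * (ρ a v)⁻¹ := by rw [map_mul, map_inv, haa]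
    rw [hf, hf, e]
    show (v : V) * (ρ a v)⁻¹ * (ρ a v * (v : V)⁻¹)⁻¹ = 1
    rw [mul_inv, inv_inv, mul_comm (v : V), mul_mul_mul_comm, hV, one_mul, hV]
  set C : Subgroup V := fx ρ a ⊓ R with hC
  set C' : Subgroup V := C.map (ρ y : V ≃* V).toMonoidHom with hC'
  have hC'R : C' ≤ R := by
    rintro _ ⟨v, hv, rfl⟩
    exact apply_mem_range ρ rfl hv.2
  have hcc : ∀ v ∈ C, v ∈ C' → v = 1 := by
    rintro v hv ⟨w, hw, hwv⟩
    have h2 : v ∈ fx ρ (y * a * y⁻¹) := by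
      rw [fx_conj]; exact ⟨w, hw.1, hwv⟩
    apply eq_one_of_fix hV hy hv.2
    have h3 : y * a * y⁻¹ = y * y * a := by
      have h3 : a * y⁻¹ = y * a := by
        calc a * y⁻¹ = (a * y * a⁻¹)⁻¹ * a := by group
          _ = y * a := by rw [h, inv_inv]
      rw [mul_assoc, h3, mul_assoc]
    rw [h3] at h2
    have h5 := fx_mul ρ h2 (fx_inv ρ hv.1)
    rw [mul_inv_cancel_right] at h5
    exact fx_of_sq ρ hy h5
  have hcard' : Nat.card C' = Nat.card C := Subgroup.card_map_of_injective (ρ y).injective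
  have h2 : Nat.card C * Nat.card C' ≤ Nat.card R := by
    rw [← Nat.card_prod]
    apply Nat.card_le_card_of_injective (fun p : C × C' => (⟨p.1 * p.2, mul_mem p.1.2.2 (hC'R p.2.2)⟩ : R))
    rintro ⟨⟨c, hc⟩, ⟨d, hd⟩⟩ ⟨⟨c', hc'⟩, ⟨d', hd'⟩⟩ he
    have he' : c * d = c' * d' := congrArg Subtype.val he
    have h6 : c'⁻¹ * c = d' * d⁻¹ := by
      rw [inv_mul_eq_iff_eq_mul, ← mul_assoc, ← he', mul_inv_cancel_right]
    have h7 := hcc _ (mul_mem (inv_mem hc') hc) (by rw [h6]; exact mul_mem hd' (inv_mem hd))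
    have h8 : c = c' := by rw [inv_mul_eq_one] at h7; exact h7.symm
    have h9 : d = d' := by rw [h8] at he'; exact mul_left_cancel he'
    subst h8 h9; rfl
  have hker : Nat.card f.ker = Nat.card C := by
    refine Nat.card_congr ⟨fun v => ⟨v.1.1, ?_, v.1.2⟩, fun v => ⟨⟨v.1, v.2.2⟩, ?_⟩, fun v => rfl, fun v => rfl⟩
    · have h6 : f v.1 = 1 := v.2
      have h7 := congrArg Subtype.val h6
      rw [hf] at h7
      exact mul_inv_eq_one.1 h7
    · show _ ∈ f.ker
      rw [MonoidHom.mem_ker]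
      apply Subtype.ext
      rw [hf]
      show ρ a v.1 * v.1⁻¹ = 1
      rw [show ρ a v.1 = v.1 from v.2.1, mul_inv_cancel]
  have h3 : Nat.card R ≤ Nat.card C * Nat.card C := by
    have h6 := f.ker.card_mul_index
    rw [Subgroup.index_ker, hker] at h6
    have h7 : Nat.card f.range ≤ Nat.card f.ker := Nat.card_le_card_of_injective _ (Subgroup.inclusion_injective h1)
    rw [hker] at h7
    rw [← h6]
    exact Nat.mul_le_mul_left _ h7
  rw [hcard'] at h2
  rw [sq]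
  omega

end general

section torus

variable {F : Type*} [Field F] [Fintype F] [CharP F 2]

theorem dg_up (α : Fˣ) (t : F) : dg α * up t * (dg α)⁻¹ = up ((α : F) * α * t) := by
  apply ext2
  · simp only [mul00, mul01, mul10, mul11, inv00, inv01, inv10, inv11, up00, up01, up10, up11, dg00, dg01, dg10, dg11]
    simp
  · simp only [mul00, mul01, mul10, mul11, inv00, inv01, inv10, inv11, up00, up01, up10, up11, dg00, dg01, dg10, dg11]
    ring
  · simp only [mul00, mul01, mul10, mul11, inv00, inv01, inv10, inv11, up00, up01, up10, up11, dg00, dg01, dg10, dg11]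
    simp
  · simp only [mul00, mul01, mul10, mul11, inv00, inv01, inv10, inv11, up00, up01, up10, up11, dg00, dg01, dg10, dg11]
    simp

theorem dg_norm (α : Fˣ) : ∀ a ∈ T1Sl2.SU F, dg α * a * (dg α)⁻¹ ∈ T1Sl2.SU F := by
  intro a ha
  obtain ⟨t, rfl⟩ := mem_SU_iff.1 ha
  rw [dg_up]
  exact mem_SU_iff.2 ⟨_, rfl⟩

theorem dg_inv (α : Fˣ) : (dg α)⁻¹ = dg α⁻¹ := by
  rw [← dgHom_apply, ← dgHom_apply, map_inv]

theorem ww_dg (α : Fˣ) : ww F * dg α * (ww F)⁻¹ = (dg α)⁻¹ := by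
  apply ext2
  · simp only [mul00, mul01, mul10, mul11, inv00, inv01, inv10, inv11, ww00, ww01, ww10, ww11, dg00, dg01, dg10, dg11]
    simp [CharTwo.neg_eq]
  · simp only [mul00, mul01, mul10, mul11, inv00, inv01, inv10, inv11, ww00, ww01, ww10, ww11, dg00, dg01, dg10, dg11]
    simp
  · simp only [mul00, mul01, mul10, mul11, inv00, inv01, inv10, inv11, ww00, ww01, ww10, ww11, dg00, dg01, dg10, dg11]
    simp
  · simp only [mul00, mul01, mul10, mul11, inv00, inv01, inv10, inv11, ww00, ww01, ww10, ww11, dg00, dg01, dg10, dg11]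
    simp [CharTwo.neg_eq]

theorem ww_up (t : F) : ww F * up t * ww F = lo t := by
  apply ext2
  · simp only [mul00, mul01, mul10, mul11, up00, up01, up10, up11, ww00, ww01, ww10, ww11, lo00]
    simp
  · simp only [mul00, mul01, mul10, mul11, up00, up01, up10, up11, ww00, ww01, ww10, ww11, lo01]
    simp
  · simp only [mul00, mul01, mul10, mul11, up00, up01, up10, up11, ww00, ww01, ww10, ww11, lo10]
    simp
  · simp only [mul00, mul01, mul10, mul11, up00, up01, up10, up11, ww00, ww01, ww10, ww11, lo11]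
    simp

theorem eq_one_of_sq {α : Fˣ} (h : (α : F) * α = 1) : α = 1 := by
  have h2 : (2 : F) = 0 := CharTwo.two_eq_zero
  have h3 : ((α : F) - 1) * (α - 1) = 0 := by linear_combination h + (1 - (α : F)) * h2
  have h4 : (α : F) = 1 := by
    rcases mul_eq_zero.1 h3 with h | h <;> linear_combination h
  exact Units.ext h4

/-- the elements of `U` have no fixed points under `α ≠ 1` -/
theorem eq_one_of_comm {α : Fˣ} (hα : α ≠ 1) {a : SpecialLinearGroup (Fin 2) F} (ha : a ∈ T1Sl2.SU F)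
    (h : dg α * a * (dg α)⁻¹ = a) : a = 1 := by
  obtain ⟨t, rfl⟩ := mem_SU_iff.1 ha
  rw [dg_up] at h
  have h1 : (up ((α : F) * α * t) : SpecialLinearGroup (Fin 2) F) 0 1 = (up t : SpecialLinearGroup (Fin 2) F) 0 1 := by
    rw [h]
  rw [up01, up01] at h1
  have h2 : ((α : F) * α - 1) * t = 0 := by linear_combination h1
  rcases mul_eq_zero.1 h2 with h3 | h3
  · exact absurd (eq_one_of_sq (sub_eq_zero.1 h3)) hα
  · rw [h3, up_zero]

theorem card_units : Nat.card Fˣ = Fintype.card F - 1 := by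
  rw [Nat.card_units, Nat.card_eq_fintype_card]

theorem odd_units (α : Fˣ) : Odd (orderOf α) := by
  obtain ⟨n, hn, hF⟩ := card_pow F
  have h1 : orderOf α ∣ 2 ^ n - 1 := by
    rw [← hF, ← card_units]; exact orderOf_dvd_natCard α
  have h2 : Odd (2 ^ n - 1) := by
    have h3 : Even (2 ^ n) := (Nat.even_pow' hn.ne').2 even_two
    have h4 : 0 < 2 ^ n := by positivity
    rcases h3 with ⟨r, hr⟩
    exact ⟨r - 1, by omega⟩
  exact Odd.of_dvd_nat h2 h1

theorem orderOf_dg (α : Fˣ) : orderOf (dg α) = orderOf α := orderOf_injective dgHom dgHom_injective α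

/-- an element of order `n` in a cyclic group -/
theorem exists_unit {n : ℕ} (h : n ∣ Fintype.card F - 1) : ∃ θ : Fˣ, orderOf θ = n := by
  obtain ⟨g, hg⟩ := IsCyclic.exists_generator (α := Fˣ)
  have hgo : orderOf g = Fintype.card F - 1 := by
    rw [← card_units]; exact orderOf_eq_card_of_forall_mem_zpowers hg
  obtain ⟨m, hm⟩ := h
  have h1 := Fintype.one_lt_card (α := F)
  have hm0 : m ≠ 0 := by
    rintro rfl
    omega
  refine ⟨g ^ m, ?_⟩
  rw [orderOf_pow_of_dvd hm0 (by rw [hgo, hm]; exact Dvd.intro_left _ rfl), hgo, hm,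
    Nat.mul_div_cancel _ (Nat.pos_of_ne_zero hm0)]

/-- a subgroup of order `n` contains all elements with `x^n = 1` -/
theorem mem_of_pow {N : Subgroup Fˣ} {n : ℕ} (hN : Nat.card N = n) (hn : n ≠ 0) {x : Fˣ} (hx : x ^ n = 1) : x ∈ N := by
  classical
  have hfin : Finite {x : Fˣ // x ^ n = 1} := inferInstance
  let _ : Fintype {x : Fˣ // x ^ n = 1} := Fintype.ofFinite _
  have h1 : Nat.card {x : Fˣ // x ^ n = 1} ≤ n := by
    have h2 := IsCyclic.card_pow_eq_one_le (α := Fˣ) (n := n) (Nat.pos_of_ne_zero hn)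
    have h3 : Nat.card {x : Fˣ // x ^ n = 1} = (Finset.univ.filter fun x : Fˣ => x ^ n = 1).card := by
      rw [Nat.card_eq_fintype_card, Fintype.card_subtype]
    rw [h3]
    exact h2
  have h2 : ∀ x : N, (x : Fˣ) ^ n = 1 := by
    intro x
    rw [← hN]
    have := pow_card_eq_one' (x := x)
    exact congrArg Subtype.val this
  let φ : N → {x : Fˣ // x ^ n = 1} := fun x => ⟨x, h2 x⟩
  have hφ : Function.Injective φ := fun x y h => Subtype.ext (congrArg (fun z : {x : Fˣ // x ^ n = 1} => (z : Fˣ)) h)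
  have h3 := hφ.bijective_of_nat_card_le (by rw [hN]; exact h1)
  obtain ⟨y, hy⟩ := h3.2 ⟨x, hx⟩
  have h4 : (y : Fˣ) = x := congrArg Subtype.val hy
  rw [← h4]
  exact y.2

end torus

section six

variable {F : Type*} [Field F] [Fintype F] [CharP F 2] {V : Type*} [CommGroup V]

/-- the action of the torus -/
def tau (ρ : SpecialLinearGroup (Fin 2) F →* MulAut V) : Fˣ →* MulAut V := ρ.comp dgHom

theorem tau_apply (ρ : SpecialLinearGroup (Fin 2) F →* MulAut V) (α : Fˣ) (v : V) : tau ρ α v = ρ (dg α) v := rfl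

variable [Finite V] {ρ : SpecialLinearGroup (Fin 2) F →* MulAut V} {R D : Subgroup V} {c d : ℕ}

theorem tau_D (s : Six ρ R D c d) : Inv (tau ρ) D := fun α _ hv => s.norm_D (dg_norm α) hv

theorem tau_R (s : Six ρ R D c d) : Inv (tau ρ) R := fun α _ hv => s.norm_R (dg_norm α) hv

/-- `D/R ≅ U` for the elements of the torus with fixed points outside `D` -/
theorem fpf_DR (s : Six ρ R D c d) {α : Fˣ} (hα : α ≠ 1) {v : V} (hv : v ∉ D) (hf : tau ρ α v * v⁻¹ ∈ D) :
    ∀ x ∈ D, tau ρ α x * x⁻¹ ∈ R → x ∈ R := by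
  obtain ⟨w, hw, hwv⟩ := lift s.sq (tau ρ) (odd_units α) (fun x hx => tau_D s α x hx) hf
  have hwD : w ∉ D := by
    intro h1
    apply hv
    have h2 : v = (w * v⁻¹)⁻¹ * w := by group
    rw [h2]
    exact mul_mem (inv_mem hwv) h1
  intro x hx h1
  obtain ⟨a, ha, r, hr, rfl⟩ := s.cfg.surj w hwD x hx
  have hαr : tau ρ α r ∈ R := tau_R s α r hr
  have e1 : tau ρ α (ρ a w * w⁻¹ * r) = ρ (dg α * a * (dg α)⁻¹) w * w⁻¹ * tau ρ α r := by
    rw [map_mul, map_mul, map_inv, hw]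
    congr 2
    show ρ (dg α) (ρ a w) = _
    have h2 : ρ (dg α) w = w := hw
    rw [apply_eq, h2]
  set b := dg α * a * (dg α)⁻¹ with hb
  have hbU : b ∈ T1Sl2.SU F := dg_norm α a ha
  rw [e1] at h1
  have h2 : (ρ b w * w⁻¹) * (ρ a w * w⁻¹)⁻¹ ∈ R := by
    have h3 := mul_mem h1 (mul_mem hr (inv_mem hαr))
    have h4 : ρ b w * w⁻¹ * tau ρ α r * (ρ a w * w⁻¹ * r)⁻¹ * (r * (tau ρ α r)⁻¹) =
        (ρ b w * w⁻¹) * (ρ a w * w⁻¹)⁻¹ := by
      generalize ρ b w * w⁻¹ = x1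
      generalize ρ a w * w⁻¹ = x2
      generalize tau ρ α r = x3
      rw [mul_inv]
      calc x1 * x3 * (x2⁻¹ * r⁻¹) * (r * x3⁻¹) = x1 * x2⁻¹ * (x3 * x3⁻¹) * (r⁻¹ * r) := by
            simp only [mul_assoc, mul_comm, mul_left_comm]
        _ = x1 * x2⁻¹ := by rw [mul_inv_cancel, inv_mul_cancel, mul_one, mul_one]
    rwa [h4] at h3
  have haa : (ρ a w * w⁻¹)⁻¹ = ρ a w * w⁻¹ := EmpC.inv_eq s.sq _
  rw [haa] at h2
  have h3 := s.cfg.comm_mul w hbU ha
  have h4 : ρ (b * a) w * w⁻¹ ∈ R := by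
    have := mul_mem h3 h2
    rwa [inv_mul_cancel_right] at this
  have h5 := s.cfg.inj w hwD _ (mul_mem hbU ha) h4
  have h6 : a⁻¹ = a := inv_eq_of_mul_eq_one_left (T1Sl2.SU_sq ha)
  have h7 : b = a := by rw [mul_eq_one_iff_eq_inv.1 h5, h6]
  have h8 := eq_one_of_comm hα ha h7
  rw [h8, map_one, MulAut.one_apply, mul_inv_cancel, one_mul]
  exact hr

/-- `D D^w = V` -/
theorem sup_ww (s : Six ρ R D c d) : D ⊔ D.map (ρ (ww F) : V →* V) = ⊤ := by
  set S := D ⊔ D.map (ρ (ww F) : V →* V) with hS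
  have hww : ∀ v, ρ (ww F) (ρ (ww F) v) = v := by
    intro v
    rw [← MulAut.mul_apply, ← map_mul, ww_sq, map_one]; rfl
  have hinv : Inv ρ S := by
    let N : Subgroup (SpecialLinearGroup (Fin 2) F) := stS ρ S
    have h1 : ∀ g : SpecialLinearGroup (Fin 2) F, (∀ v, ρ g v * v⁻¹ ∈ S) → g ∈ N := by
      intro g hg u
      constructor
      · intro h2
        have h3 : u = (ρ g u * u⁻¹)⁻¹ * ρ g u := by group
        rw [h3]
        exact mul_mem (inv_mem (hg u)) h2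
      · intro h2
        have h3 : ρ g u = (ρ g u * u⁻¹) * u := by group
        rw [h3]
        exact mul_mem (hg u) h2
    have h2 : N = ⊤ := by
      apply closure_top
      · intro t
        apply h1
        intro v
        exact Subgroup.mem_sup_left (s.cfg.comm_mem v (mem_SU_iff.2 ⟨t, rfl⟩))
      · intro t
        apply h1
        intro v
        apply Subgroup.mem_sup_right
        refine ⟨ρ (up t) (ρ (ww F) v) * (ρ (ww F) v)⁻¹, s.cfg.comm_mem _ (mem_SU_iff.2 ⟨t, rfl⟩), ?_⟩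
        show ρ (ww F) (ρ (up t) (ρ (ww F) v) * (ρ (ww F) v)⁻¹) = _
        rw [map_mul (ρ (ww F)), map_inv (ρ (ww F)), hww, ← ww_up, map_mul ρ, map_mul ρ, MulAut.mul_apply,
          MulAut.mul_apply]
    intro g w hw
    have h3 : g ∈ N := by rw [h2]; trivial
    exact (h3 w).2 hw
  rcases s.irr S hinv with h1 | h1
  · exfalso
    obtain ⟨w, hw, a, ha, hne⟩ := s.nq
    have h2 : w ∈ S := Subgroup.mem_sup_left hw
    rw [h1, Subgroup.mem_bot] at h2
    apply hne
    rw [h2, map_one]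
  · exact h1

theorem card_inf (s : Six ρ R D c d) :
    Nat.card (D ⊓ D.map (ρ (ww F) : V →* V) : Subgroup V) * Nat.card V = Nat.card D ^ 2 := by
  have h1 : Nat.card (D.map (ρ (ww F) : V →* V)) = Nat.card D :=
    Subgroup.card_map_of_injective (K := D) (f := (ρ (ww F) : V →* V)) (ρ (ww F)).injective
  have h2 : D.relIndex (D.map (ρ (ww F) : V →* V)) = D.index := by
    rw [← Subgroup.relIndex_top_right (H := D), ← sup_ww s, sup_comm, Subgroup.relIndex_sup_right]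
  have h3 : Nat.card (D ⊓ D.map (ρ (ww F) : V →* V) : Subgroup V) * D.index = Nat.card D := by
    rw [← h2, ← h1, ← Subgroup.inf_relIndex_right]
    exact card_mul_relIndex inf_le_right
  have h4 := D.card_mul_index
  rw [← h4, pow_two]
  calc _ = Nat.card (D ⊓ D.map (ρ (ww F) : V →* V) : Subgroup V) * D.index * Nat.card D := by ring
    _ = _ := by rw [h3]

/-- `α` has no fixed points on `V/D` : `C_V(α) ≤ D ∩ D^w` -/
theorem fx_le_inf {α : Fˣ} (hα : ∀ v, tau ρ α v * v⁻¹ ∈ D → v ∈ D) :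
    fx (tau ρ) α ≤ D ⊓ D.map (ρ (ww F) : V →* V) := by
  have h1 : ∀ v, tau ρ α v = v → v ∈ D := fun v hv => hα v (by rw [hv, mul_inv_cancel]; exact one_mem D)
  intro v hv
  refine ⟨h1 v hv, ρ (ww F) v, h1 _ ?_, ?_⟩
  · have h2 : v ∈ fx ρ (dg α)⁻¹ := fx_inv ρ hv
    rw [mem_fx] at h2
    have h3 : ww F * (dg α)⁻¹ * (ww F)⁻¹ = dg α := by
      calc ww F * (dg α)⁻¹ * (ww F)⁻¹ = (ww F * dg α * (ww F)⁻¹)⁻¹ := by group
        _ = dg α := by rw [ww_dg, inv_inv]
    have h4 : dg α * ww F = ww F * (dg α)⁻¹ := by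
      calc dg α * ww F = ww F * (dg α)⁻¹ * (ww F)⁻¹ * ww F := by rw [h3]
        _ = _ := by group
    show ρ (dg α) (ρ (ww F) v) = ρ (ww F) v
    rw [← MulAut.mul_apply, ← map_mul, h4, map_mul, MulAut.mul_apply, h2]
  · show ρ (ww F) (ρ (ww F) v) = v
    rw [← MulAut.mul_apply, ← map_mul, ww_sq, map_one]; rfl

end six

end Cfsg.Agent.OddCyclic.ClaimC.SixT
end

-- part: OddCyclic/ClaimC/SixU
section
set_option linter.all false
open scoped Cfsg.Agent.FastGrp

/-!
# CLAIM C, (6.4): counting, `q = (2^d)²`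
-/

set_option autoImplicit false
set_option linter.unusedSectionVars false
set_option linter.unusedSimpArgs false

namespace Cfsg.Agent.OddCyclic.ClaimC.SixU

open Matrix Cfsg.Agent.OddCyclic.T1Module Cfsg.Agent.OddCyclic.T1Sl2 Cfsg.Agent.OddCyclic.FFBasic
  Cfsg.Agent.OddCyclic.ClaimC.SixPP Cfsg.Agent.OddCyclic.FFRed Cfsg.Agent.OddCyclic.EmpC
  Cfsg.Agent.OddCyclic.ClaimC.SixB Cfsg.Agent.OddCyclic.ClaimC.SixT
open Cfsg.Agent.OddCyclic.FFSl2 (index_le_of_le eq_of_index_le)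

variable {F : Type*} [Field F] [Fintype F] [CharP F 2] {V : Type*} [CommGroup V]

/-- `σ ≠ 1` is trivial on `R` and `V/D`, and `[V, σ]` is irreducible for the torus -/
structure Sig (ρ : SpecialLinearGroup (Fin 2) F →* MulAut V) (R D : Subgroup V) (σ : Fˣ) : Prop where
  ne : σ ≠ 1
  onR : ∀ r ∈ R, tau ρ σ r = r
  onD : ∀ v, tau ρ σ v * v⁻¹ ∈ D
  card : Nat.card (cm (tau ρ) σ).range = Fintype.card F
  irr : ∀ W ≤ (cm (tau ρ) σ).range, (∀ α, ∀ w ∈ W, tau ρ α w ∈ W) → W ≠ ⊥ → W = (cm (tau ρ) σ).range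

variable [Finite V] {ρ : SpecialLinearGroup (Fin 2) F →* MulAut V} {R D : Subgroup V} {c d : ℕ}

/-- the decomposition `D = [V,σ] × R` -/
theorem decomp (s : Six ρ R D c d) {σ : Fˣ} (hσ : σ ≠ 1) (h2 : ∀ v, tau ρ σ v * v⁻¹ ∈ D) :
    (cm (tau ρ) σ).range ≤ D ∧ ∀ x ∈ D, ∃ u ∈ (cm (tau ρ) σ).range, ∃ r ∈ R, u * r = x := by
  have hle : (cm (tau ρ) σ).range ≤ D := by
    rintro _ ⟨v, rfl⟩
    exact h2 v
  refine ⟨hle, ?_⟩
  intro x hx
  obtain ⟨v, hv⟩ := s.cfg.exists_notMem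
  have hfp := fpf_DR s hσ hv (h2 v)
  have h3 : x ∈ (cm (tau ρ) σ).range ⊔ fx (tau ρ) σ := by
    rw [range_sup_fx s.sq (odd_units σ)]; trivial
  obtain ⟨u, hu, w, hw, rfl⟩ := Subgroup.mem_sup.1 h3
  refine ⟨u, hu, w, ?_, rfl⟩
  apply hfp w
  · have h4 : w = u⁻¹ * (u * w) := by group
    rw [h4]
    exact mul_mem (inv_mem (hle hu)) hx
  · rw [show tau ρ σ w = w from hw, mul_inv_cancel]
    exact one_mem R

theorem card_range (s : Six ρ R D c d) {σ : Fˣ} (hσ : σ ≠ 1) (h1 : ∀ r ∈ R, tau ρ σ r = r)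
    (h2 : ∀ v, tau ρ σ v * v⁻¹ ∈ D) : Nat.card (cm (tau ρ) σ).range = Fintype.card F := by
  obtain ⟨hle, hdec⟩ := decomp s hσ h2
  set V' := (cm (tau ρ) σ).range with hV'
  have h3 : Nat.card (V' × R) = Nat.card D := by
    apply Nat.card_congr
    refine Equiv.ofBijective (fun p : V' × R => (⟨p.1 * p.2, mul_mem (hle p.1.2) (s.cfg.le p.2.2)⟩ : D)) ⟨?_, ?_⟩
    · rintro ⟨⟨u, hu⟩, ⟨r, hr⟩⟩ ⟨⟨u', hu'⟩, ⟨r', hr'⟩⟩ h
      have h4 : u * r = u' * r' := congrArg Subtype.val h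
      have h5 : u'⁻¹ * u = r' * r⁻¹ := by
        rw [inv_mul_eq_iff_eq_mul, ← mul_assoc, ← h4, mul_inv_cancel_right]
      have h6 : u'⁻¹ * u = 1 := by
        apply eq_one_of_fix s.sq (odd_units σ) (mul_mem (inv_mem hu') hu)
        rw [h5]
        exact h1 _ (mul_mem hr' (inv_mem hr))
      have h7 : u = u' := (inv_mul_eq_one.1 h6).symm
      subst h7
      have h8 : r = r' := mul_left_cancel h4
      subst h8
      rfl
    · rintro ⟨x, hx⟩
      obtain ⟨u, hu, r, hr, rfl⟩ := hdec x hx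
      exact ⟨(⟨u, hu⟩, ⟨r, hr⟩), rfl⟩
  rw [Nat.card_prod, s.cfg.card_D s.sq, s.cfg.card, ← s.cardF] at h3
  exact Nat.eq_of_mul_eq_mul_right Nat.card_pos h3

theorem exists_sig (s : Six ρ R D c d) : ∃ σ : Fˣ, Sig ρ R D σ := by
  obtain ⟨f, hf, hF⟩ := card_pow F
  have h4 := s.four
  have hf2 : 2 ≤ f := by
    by_contra hcon
    have : f = 1 := by omega
    rw [hF, this] at h4
    norm_num at h4
  obtain ⟨l, k, hp⟩ := exists_pp hf2
  obtain ⟨θ, hθ⟩ := exists_unit (F := F) (n := l ^ k) (by rw [hF]; exact hp.dvd)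
  set σ := θ ^ (l ^ (k - 1)) with hσ
  have hσo : orderOf σ = l := orderOf_s hp.prime hp.pos hθ
  have hσ1 : σ ≠ 1 := by
    intro h
    rw [h, orderOf_one] at hσo
    exact hp.prime.one_lt.ne hσo
  have hd := s.cfg.pos
  have h2d : 2 ^ 1 ≤ 2 ^ d := Nat.pow_le_pow_right (by norm_num) hd
  have hR : Nat.card R < 2 ^ f := by
    have h1 := s.card_R
    rw [hF] at h1
    have h2 : 0 < Nat.card R := Nat.card_pos
    have h3 : Nat.card R * 2 ≤ Nat.card R * 2 ^ d := Nat.mul_le_mul_left _ (by omega)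
    omega
  have h1 := trivial_of_lt s.sq (tau ρ) hp hθ (W := R) (fun w hw => tau_R s θ w hw) hR
  have h2 : ∀ v, tau ρ σ v * v⁻¹ ∈ D := by
    have h3 := trivial_of_lt (V := V ⧸ D) (quo_sq s.sq) (quo (tau ρ) D (tau_D s)) hp hθ (W := ⊤)
      (fun _ _ => trivial) (by
        rw [Subgroup.card_top]
        have : Nat.card (V ⧸ D) = 2 ^ d := s.cfg.index
        rw [this, ← hF]
        exact s.d_lt)
    intro v
    have h5 := h3 (v : V ⧸ D) trivial
    rw [quo_apply, QuotientGroup.eq] at h5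
    have h6 := inv_mem h5
    rw [_root_.mul_inv_rev, inv_inv, mul_comm] at h6
    exact h6
  have hcard := card_range s hσ1 h1 h2
  refine ⟨σ, hσ1, h1, h2, hcard, ?_⟩
  intro W hW hst hne
  apply Subgroup.eq_of_le_of_card_ge hW
  rw [hcard, hF]
  exact card_ge s.sq (tau ρ) hp hθ (fun w hw => hst θ w hw)
    (fun w hw hf => eq_one_of_fix s.sq (odd_units σ) (hW hw) hf) hne

/-- an element fixing a nontrivial vector of `[V,σ]` centralises `[V,σ]` -/
theorem fix_all {σ : Fˣ} (hσ : Sig ρ R D σ) {α : Fˣ} {v : V} (hv : v ∈ (cm (tau ρ) σ).range)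
    (hv1 : v ≠ 1) (h : tau ρ α v = v) : ∀ u ∈ (cm (tau ρ) σ).range, tau ρ α u = u := by
  have h1 := hσ.irr (fx (tau ρ) α ⊓ (cm (tau ρ) σ).range) inf_le_right ?_ ?_
  · intro u hu
    rw [← h1] at hu
    exact hu.1
  · rintro β w ⟨hw, hw'⟩
    refine ⟨?_, apply_mem_range (tau ρ) (mul_comm _ _) hw'⟩
    show tau ρ α (tau ρ β w) = tau ρ β w
    rw [← MulAut.mul_apply, ← map_mul, mul_comm α β, map_mul, MulAut.mul_apply, show tau ρ α w = w from hw]
  · intro h2
    apply hv1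
    have h3 : v ∈ fx (tau ρ) α ⊓ (cm (tau ρ) σ).range := ⟨h, hv⟩
    rwa [h2, Subgroup.mem_bot] at h3

/-- the kernel of the torus on `[V,σ]` -/
def ker (ρ : SpecialLinearGroup (Fin 2) F →* MulAut V) (σ : Fˣ) : Subgroup Fˣ where
  carrier := {α | ∀ u ∈ (cm (tau ρ) σ).range, tau ρ α u = u}
  mul_mem' := fun {a b} ha hb u hu => by rw [map_mul, MulAut.mul_apply, hb u hu, ha u hu]
  one_mem' := fun u _ => by rw [map_one]; rfl
  inv_mem' := fun {a} ha u hu => fx_inv (ρ := tau ρ) (v := u) (ha u hu)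

/-- `q₁² = q`, `|F^× : N| ≤ q₁ + 1` -/
theorem index_ker_le (s : Six ρ R D c d) {σ : Fˣ} (hσ : Sig ρ R D σ) :
    ∃ q₁ : ℕ, 2 ≤ q₁ ∧ q₁ ^ 2 = Fintype.card F ∧ (ker ρ σ).index ≤ q₁ + 1 := by
  set V' := (cm (tau ρ) σ).range with hV'
  have hdg : orderOf (dg σ) = orderOf σ := orderOf_dg σ
  have hV'' : V' = (cm ρ (dg σ)).range := rfl
  have h1 := card_range_sq s.sq (ρ := ρ) (a := ww F) (y := dg σ) (ww_sq (F := F)) (by rw [hdg]; exact odd_units σ)
    (ww_dg σ)
  rw [← hV'', hσ.card] at h1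
  set C : Subgroup V := fx ρ (ww F) ⊓ V' with hC
  have h4 := s.four
  have hq2 : 2 ≤ Nat.card C := by
    by_contra hcon
    have h2 : Nat.card C ≤ 1 := by omega
    have h3 : Nat.card C ^ 2 ≤ 1 ^ 2 := Nat.pow_le_pow_left h2 2
    omega
  refine ⟨Nat.card C, hq2, h1.symm, ?_⟩
  let S := {v : V // v ∈ C ∧ v ≠ 1}
  let S' := {v : V // v ∈ V' ∧ v ≠ 1}
  have hcardS : ∀ W : Subgroup V, Nat.card {v : V // v ∈ W ∧ v ≠ 1} + 1 = Nat.card W := by
    intro W
    have h5 : Nat.card {v : V // v ∈ W ∧ v ≠ 1} = ({(1 : W)}ᶜ : Set W).ncard := by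
      rw [← Nat.card_coe_set_eq]
      apply Nat.card_congr
      refine ⟨fun v => ⟨⟨v.1, v.2.1⟩, fun h => v.2.2 (congrArg Subtype.val h)⟩,
        fun v => ⟨v.1.1, v.1.2, fun h => v.2 (Subtype.ext h)⟩, fun v => rfl, fun v => rfl⟩
    rw [h5, Set.ncard_compl, Set.ncard_singleton]
    have : 0 < Nat.card W := Nat.card_pos
    omega
  have hinj : Nat.card ((Fˣ ⧸ ker ρ σ) × S) ≤ Nat.card S' := by
    let φ : (Fˣ ⧸ ker ρ σ) × S → S' := fun p => ⟨tau ρ p.1.out p.2.1,
      apply_mem_range (tau ρ) (mul_comm _ _) p.2.2.1.2, fun h => p.2.2.2 (by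
        apply (tau ρ p.1.out).injective
        rw [h, map_one])⟩
    apply Nat.card_le_card_of_injective φ
    rintro ⟨x, ⟨v, hv, hv1⟩⟩ ⟨y, ⟨v', hv', hv1'⟩⟩ h
    have h5 : tau ρ x.out v = tau ρ y.out v' := congrArg (fun z : S' => (z : V)) h
    set z := (y.out)⁻¹ * x.out with hz
    have h6 : tau ρ z v = v' := by
      rw [hz, map_mul, MulAut.mul_apply, h5, ← MulAut.mul_apply, ← map_mul, inv_mul_cancel, map_one]; rfl
    -- `w` fixes `z v` and `v`
    have h7 : tau ρ z⁻¹ v = v' := by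
      have h8 : ρ (ww F) v = v := hv.1
      have h9 : ρ (ww F) v' = v' := hv'.1
      have h10 : ρ (ww F) (ρ (dg z) v) = ρ (dg z)⁻¹ (ρ (ww F) v) := by
        rw [apply_eq, ww_dg]
      rw [tau_apply] at h6
      rw [h6, h8, h9] at h10
      rw [tau_apply, ← dg_inv]
      exact h10.symm
    have h8 : v ∈ fx (tau ρ) (z * z) := by
      rw [mem_fx, map_mul, MulAut.mul_apply, h6, ← h7, ← MulAut.mul_apply, ← map_mul, mul_inv_cancel, map_one]; rfl
    have h9 : tau ρ z v = v := fx_of_sq (tau ρ) (odd_units z) h8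
    have h10 : v = v' := by rw [← h6, h9]
    subst h10
    have h11 : z ∈ ker ρ σ := fix_all hσ hv.2 hv1 h9
    have h12 : x = y := by
      rw [← x.out_eq', ← y.out_eq']
      exact (QuotientGroup.eq.2 h11).symm
    subst h12
    rfl
  rw [Nat.card_prod] at hinj
  have e1 := hcardS C
  have e2 := hcardS V'
  rw [hσ.card, h1] at e2
  change (ker ρ σ).index * Nat.card S ≤ Nat.card S' at hinj
  change Nat.card S + 1 = Nat.card C at e1
  change Nat.card S' + 1 = Nat.card C ^ 2 at e2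
  obtain ⟨m, hm⟩ : ∃ m, Nat.card S = m := ⟨_, rfl⟩
  rw [hm] at e1 hinj
  rw [← e1] at e2 ⊢
  have h5 : Nat.card S' = m * (m + 2) := by
    have : (m + 1) ^ 2 = m * (m + 2) + 1 := by ring
    omega
  rw [h5] at hinj
  have h6 : 0 < m := by omega
  have h7 : (ker ρ σ).index * m ≤ (m + 2) * m := by rw [mul_comm (m + 2)]; exact hinj
  exact Nat.le_of_mul_le_mul_right h7 h6

/-- the kernel acts without fixed points on `V/D` -/
theorem semireg (s : Six ρ R D c d) {σ : Fˣ} (hσ : Sig ρ R D σ) {α : Fˣ} (hα : α ∈ ker ρ σ) (hα1 : α ≠ 1) :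
    ∀ v, tau ρ α v * v⁻¹ ∈ D → v ∈ D := by
  intro v h
  by_contra hv
  have h1 := fpf_DR s hα1 hv h
  have h2 := (decomp s hσ.ne hσ.onD).1
  have h3 : (cm (tau ρ) σ).range = ⊥ := by
    rw [Subgroup.eq_bot_iff_forall]
    intro u hu
    apply eq_one_of_fix s.sq (odd_units σ) hu
    apply hσ.onR
    apply h1 u (h2 hu)
    rw [hα u hu, mul_inv_cancel]
    exact one_mem R
  have h4 := hσ.card
  rw [h3, Subgroup.card_bot] at h4
  have := s.four
  omega

theorem card_ker_le (s : Six ρ R D c d) {σ : Fˣ} (hσ : Sig ρ R D σ) : Nat.card (ker ρ σ) ≤ 2 ^ d - 1 := by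
  have h1 := card_dvd_sub_one (K := V ⧸ D) (D := ker ρ σ) ((quo (tau ρ) D (tau_D s)).comp (ker ρ σ).subtype) ⊤
    (fun _ _ _ => trivial) ?_
  · rw [Subgroup.card_top, show Nat.card (V ⧸ D) = 2 ^ d from s.cfg.index] at h1
    apply Nat.le_of_dvd _ h1
    have h2 : 2 ^ 1 ≤ 2 ^ d := Nat.pow_le_pow_right (by norm_num) s.cfg.pos
    omega
  · rintro ⟨α, hα⟩ w - hw1 hw
    obtain ⟨v, rfl⟩ := QuotientGroup.mk_surjective w
    by_contra hne
    have hα1 : α ≠ 1 := fun h => hne (Subtype.ext h)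
    apply hw1
    rw [QuotientGroup.eq_one_iff]
    apply semireg s hσ hα hα1
    have h5 : quo (tau ρ) D (tau_D s) α (v : V ⧸ D) = (v : V ⧸ D) := hw
    rw [quo_apply, QuotientGroup.eq] at h5
    have h6 := inv_mem h5
    rw [_root_.mul_inv_rev, inv_inv, mul_comm] at h6
    exact h6

theorem card_CR_le (s : Six ρ R D c d) {σ : Fˣ} (hσ : Sig ρ R D σ) {α : Fˣ} (hα : α ∈ ker ρ σ) (hα1 : α ≠ 1) :
    Nat.card (fx (tau ρ) α ⊓ R : Subgroup V) * (2 ^ d) ^ 2 ≤ Fintype.card F := by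
  have h1 := fx_le_inf (semireg s hσ hα hα1)
  have h2 := Subgroup.card_le_of_le h1
  set V' := (cm (tau ρ) σ).range with hV'
  have h3 : Nat.card V' * Nat.card (fx (tau ρ) α ⊓ R : Subgroup V) ≤ Nat.card (fx (tau ρ) α) := by
    rw [← Nat.card_prod]
    apply Nat.card_le_card_of_injective (fun p : V' × (fx (tau ρ) α ⊓ R : Subgroup V) =>
      (⟨p.1 * p.2, mul_mem (show (p.1 : V) ∈ fx (tau ρ) α from hα p.1 p.1.2) p.2.2.1⟩ : fx (tau ρ) α))
    rintro ⟨⟨u, hu⟩, ⟨r, hr⟩⟩ ⟨⟨u', hu'⟩, ⟨r', hr'⟩⟩ h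
    have h4 : u * r = u' * r' := congrArg Subtype.val h
    have h5 : u'⁻¹ * u = r' * r⁻¹ := by
      rw [inv_mul_eq_iff_eq_mul, ← mul_assoc, ← h4, mul_inv_cancel_right]
    have h6 : u'⁻¹ * u = 1 := by
      apply eq_one_of_fix s.sq (odd_units σ) (mul_mem (inv_mem hu') hu)
      rw [h5]
      exact hσ.onR _ (mul_mem hr'.2 (inv_mem hr.2))
    have h7 : u = u' := (inv_mul_eq_one.1 h6).symm
    subst h7
    have h8 : r = r' := mul_left_cancel h4
    subst h8
    rfl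
  rw [hσ.card] at h3
  have h4 := card_inf s
  have h5 := s.card_D
  have h6 := s.card_V
  set X := Nat.card (D ⊓ D.map (ρ (ww F) : V →* V) : Subgroup V) with hX
  set q := Fintype.card F with hq
  set m := 2 ^ d with hm
  have hq0 : 0 < q := by have := s.four; omega
  have h7 : X * m ^ 2 = q ^ 2 := by
    have h8 : (X * m ^ 2) * q ^ 2 = q ^ 2 * q ^ 2 := by
      calc (X * m ^ 2) * q ^ 2 = (X * Nat.card V) * m ^ 2 := by rw [h6]; ring
        _ = (Nat.card D * m) ^ 2 := by rw [h4]; ring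
        _ = q ^ 2 * q ^ 2 := by rw [h5]; ring
    exact Nat.eq_of_mul_eq_mul_right (by positivity) h8
  have h8 : q * (Nat.card (fx (tau ρ) α ⊓ R : Subgroup V) * m ^ 2) ≤ q * q := by
    calc q * (Nat.card (fx (tau ρ) α ⊓ R : Subgroup V) * m ^ 2) =
        (q * Nat.card (fx (tau ρ) α ⊓ R : Subgroup V)) * m ^ 2 := by ring
      _ ≤ X * m ^ 2 := Nat.mul_le_mul_right _ (h3.trans h2)
      _ = q * q := by rw [h7]; ring
  exact Nat.le_of_mul_le_mul_left h8 hq0

/-- **the numbers** -/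
theorem numbers (s : Six ρ R D c d) {σ : Fˣ} (hσ : Sig ρ R D σ) :
    Fintype.card F = (2 ^ d) ^ 2 ∧ Nat.card (ker ρ σ) = 2 ^ d - 1 := by
  obtain ⟨q₁, hq2, hq, hi⟩ := index_ker_le s hσ
  have h1 := (ker ρ σ).card_mul_index
  rw [card_units, ← hq] at h1
  have h2 := card_ker_le s hσ
  have h3 := s.d_lt
  rw [← hq] at h3
  have h2d : 2 ^ 1 ≤ 2 ^ d := Nat.pow_le_pow_right (by norm_num) s.cfg.pos
  obtain ⟨p, rfl⟩ : ∃ p, q₁ = p + 1 := ⟨q₁ - 1, by omega⟩
  obtain ⟨m, hm⟩ : ∃ m, 2 ^ d = m + 1 := ⟨2 ^ d - 1, by omega⟩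
  rw [hm] at h2 h3 h2d
  have e1 : (p + 1) ^ 2 - 1 = p * (p + 2) := by
    have : (p + 1) ^ 2 = p * (p + 2) + 1 := by ring
    omega
  rw [e1] at h1
  have h4 : p ≤ Nat.card (ker ρ σ) := by
    have h5 : p * (p + 2) ≤ Nat.card (ker ρ σ) * (p + 2) := by
      rw [← h1]
      exact Nat.mul_le_mul_left _ hi
    exact Nat.le_of_mul_le_mul_right h5 (by omega)
  have h5 : p = m := by
    by_cases hp : p = 1
    · subst hp
      have h6 : m + 1 < 4 := by simpa using h3
      have h7 : d = 1 := by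
        have h8 : 2 ^ d < 2 ^ 2 := by rw [hm]; omega
        have h9 := (Nat.pow_lt_pow_iff_right (by norm_num : 1 < 2)).1 h8
        have := s.cfg.pos
        omega
      rw [h7] at hm
      omega
    · have h6 : 2 ≤ Nat.card (ker ρ σ) := by omega
      obtain ⟨⟨α, hα⟩, hα1⟩ := Subgroup.ne_bot_iff_exists_ne_one.1 (show ker ρ σ ≠ ⊥ by
        intro h; rw [h, Subgroup.card_bot] at h6; omega)
      have h7 := card_CR_le s hσ hα (fun h => hα1 (Subtype.ext h))
      rw [hm, ← hq] at h7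
      have h8 : 0 < Nat.card (fx (tau ρ) α ⊓ R : Subgroup V) := Nat.card_pos
      have h9 : (m + 1) ^ 2 ≤ (p + 1) ^ 2 := by
        refine le_trans ?_ h7
        exact Nat.le_mul_of_pos_left _ h8
      have h10 := (Nat.pow_le_pow_iff_left (by norm_num)).1 h9
      omega
  rw [h5] at h4 hq
  rw [hm]
  exact ⟨hq.symm, by omega⟩

/-- the stabiliser of a coset of `D` -/
theorem card_stab (s : Six ρ R D c d) {σ : Fˣ} (hσ : Sig ρ R D σ) {v : V} (hv : v ∉ D) :
    Nat.card (FFSl2.stb (quo (tau ρ) D (tau_D s)) (v : V ⧸ D)) = 2 ^ d + 1 := by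
  set St := FFSl2.stb (quo (tau ρ) D (tau_D s)) (v : V ⧸ D) with hSt
  set π := quo (tau ρ) D (tau_D s) with hπ
  obtain ⟨h1, h2⟩ := numbers s hσ
  have h2d : 2 ^ 1 ≤ 2 ^ d := Nat.pow_le_pow_right (by norm_num) s.cfg.pos
  obtain ⟨m, hm⟩ : ∃ m, 2 ^ d = m + 1 := ⟨2 ^ d - 1, by omega⟩
  have e1 : (m + 1) ^ 2 - 1 = m * (m + 2) := by
    have : (m + 1) ^ 2 = m * (m + 2) + 1 := by ring
    omega
  have hcU : Nat.card Fˣ = m * (m + 2) := by rw [card_units, h1, hm, e1]
  have hN : Nat.card (ker ρ σ) = m := by rw [h2, hm]; omega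
  have hm0 : 0 < m := by omega
  -- `|St| |N| ≤ |F^×|`
  have h3 : Nat.card St * Nat.card (ker ρ σ) ≤ Nat.card Fˣ := by
    rw [← Nat.card_prod]
    apply Nat.card_le_card_of_injective (fun p : St × ker ρ σ => ((p.1 : Fˣ) * (p.2 : Fˣ)))
    rintro ⟨⟨x, hx⟩, ⟨n, hn⟩⟩ ⟨⟨x', hx'⟩, ⟨n', hn'⟩⟩ h
    have h4 : x * n = x' * n' := h
    have h5 : x'⁻¹ * x = n' * n⁻¹ := by
      rw [inv_mul_eq_iff_eq_mul, ← mul_assoc, ← h4, mul_inv_cancel_right]
    have h6 : n' * n⁻¹ = 1 := by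
      by_contra hne
      apply hv
      apply semireg s hσ (mul_mem hn' (inv_mem hn)) hne
      have h7 : x'⁻¹ * x ∈ St := mul_mem (inv_mem hx') hx
      rw [h5] at h7
      have h8 : π (n' * n⁻¹) (v : V ⧸ D) = (v : V ⧸ D) := h7
      rw [hπ, quo_apply, QuotientGroup.eq] at h8
      have h9 := inv_mem h8
      rw [_root_.mul_inv_rev, inv_inv, mul_comm] at h9
      exact h9
    have h7 : n = n' := (mul_inv_eq_one.1 h6).symm
    subst h7
    have h8 : x = x' := mul_right_cancel h4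
    subst h8
    rfl
  -- `|F^× : St| ≤ |V/D| - 1`
  have h4 : St.index ≤ m := by
    have h5 : Nat.card {w : V ⧸ D // w ≠ 1} = m := by
      have h6 : Nat.card {w : V ⧸ D // w ≠ 1} = ({(1 : V ⧸ D)}ᶜ : Set (V ⧸ D)).ncard := rfl
      rw [h6, Set.ncard_compl, Set.ncard_singleton, show Nat.card (V ⧸ D) = 2 ^ d from s.cfg.index, hm]
      rfl
    rw [← h5]
    let φ : Fˣ ⧸ St → {w : V ⧸ D // w ≠ 1} := fun x => ⟨π x.out (v : V ⧸ D), fun h => hv (by
      have h6 : (v : V ⧸ D) = 1 := by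
        apply (π x.out).injective
        rw [h, map_one]
      exact (QuotientGroup.eq_one_iff v).1 h6)⟩
    refine Nat.card_le_card_of_injective φ ?_
    intro x y h
    have h6 : π x.out (v : V ⧸ D) = π y.out (v : V ⧸ D) := congrArg Subtype.val h
    rw [← x.out_eq', ← y.out_eq']
    refine (QuotientGroup.eq.2 ?_).symm
    show π ((y.out)⁻¹ * x.out) (v : V ⧸ D) = (v : V ⧸ D)
    rw [map_mul, MulAut.mul_apply, h6, ← MulAut.mul_apply, ← map_mul, inv_mul_cancel, map_one]; rfl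
  have h5 := St.card_mul_index
  rw [hcU] at h3 h5
  rw [hN] at h3
  have h6 : Nat.card St ≤ m + 2 := by
    have h7 : Nat.card St * m ≤ (m + 2) * m := by rw [mul_comm (m + 2)]; exact h3
    exact Nat.le_of_mul_le_mul_right h7 hm0
  have h7 : m + 2 ≤ Nat.card St := by
    have h8 : (m + 2) * m ≤ Nat.card St * m := by
      rw [mul_comm (m + 2), ← h5]
      exact Nat.mul_le_mul_left _ h4
    exact Nat.le_of_mul_le_mul_right h8 hm0
  rw [hm]
  omega

/-- **(6.4)** -/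
theorem final (s : Six ρ R D c d) : Fintype.card F = (2 ^ d) ^ 2 ∧ Nat.card R = 2 ^ d ∧
    (∀ α : Fˣ, α ≠ 1 → α ^ (2 ^ d - 1) = 1 → ∀ v, tau ρ α v * v⁻¹ ∈ D → v ∈ D) ∧
    (∀ α : Fˣ, α ≠ 1 → α ^ (2 ^ d - 1) = 1 → ∀ r ∈ R, tau ρ α r = r → r = 1) ∧
    (∀ α : Fˣ, α ^ (2 ^ d - 1) = 1 → ∀ v ∈ D, tau ρ α v * v⁻¹ ∈ R) ∧
    (∀ α : Fˣ, α ^ (2 ^ d + 1) = 1 → ∀ v, tau ρ α v * v⁻¹ ∈ D) ∧
    (∀ α : Fˣ, α ≠ 1 → α ^ (2 ^ d + 1) = 1 → ∀ v ∈ D, tau ρ α v * v⁻¹ ∈ R → v ∈ R) := by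
  obtain ⟨σ, hσ⟩ := exists_sig s
  obtain ⟨h1, h2⟩ := numbers s hσ
  have h2d : 2 ^ 1 ≤ 2 ^ d := Nat.pow_le_pow_right (by norm_num) s.cfg.pos
  have hmem : ∀ α : Fˣ, α ^ (2 ^ d - 1) = 1 → α ∈ ker ρ σ := fun α hα => mem_of_pow h2 (by omega) hα
  have hplus : ∀ α : Fˣ, α ^ (2 ^ d + 1) = 1 → ∀ v, tau ρ α v * v⁻¹ ∈ D := by
    intro α hα v
    by_cases hv : v ∈ D
    · exact mul_mem (tau_D s α v hv) (inv_mem hv)
    · have h3 := mem_of_pow (card_stab s hσ hv) (by omega) hα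
      have h4 : quo (tau ρ) D (tau_D s) α (v : V ⧸ D) = (v : V ⧸ D) := h3
      rw [quo_apply, QuotientGroup.eq] at h4
      have h5 := inv_mem h4
      rw [_root_.mul_inv_rev, inv_inv, mul_comm] at h5
      exact h5
  refine ⟨h1, ?_, ?_, ?_, ?_, hplus, ?_⟩
  · have h3 := s.card_R
    rw [h1, pow_two] at h3
    exact Nat.eq_of_mul_eq_mul_right (by omega) h3
  · intro α hα1 hα
    exact semireg s hσ (hmem α hα) hα1
  · intro α hα1 hα r hr hf
    have h3 := card_CR_le s hσ (hmem α hα) hα1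
    rw [h1] at h3
    have h4 : Nat.card (fx (tau ρ) α ⊓ R : Subgroup V) ≤ 1 := by
      have h5 : 0 < (2 ^ d) ^ 2 := by positivity
      exact Nat.le_of_mul_le_mul_right (by rw [one_mul]; exact h3) h5
    have h5 : fx (tau ρ) α ⊓ R = ⊥ := (Subgroup.card_le_one_iff_eq_bot _).1 h4
    have h6 : r ∈ fx (tau ρ) α ⊓ R := ⟨hf, hr⟩
    rwa [h5, Subgroup.mem_bot] at h6
  · intro α hα v hv
    obtain ⟨u, hu, r, hr, rfl⟩ := (decomp s hσ.ne hσ.onD).2 v hv
    have h3 := hmem α hα u hu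
    rw [map_mul, h3, mul_inv, mul_mul_mul_comm, mul_inv_cancel, one_mul]
    exact mul_mem (tau_R s α r hr) (inv_mem hr)
  · intro α hα1 hα
    obtain ⟨v, hv⟩ := s.cfg.exists_notMem
    exact fpf_DR s hα1 hv (hplus α hα v)

end Cfsg.Agent.OddCyclic.ClaimC.SixU
end

-- part: OddCyclic/ClaimC/WO
section
set_option linter.all false
open scoped Cfsg.Agent.FastGrp

/-!
# Weak offenders: `SL₂(q)`
-/

set_option autoImplicit false
set_option linter.unusedSectionVars false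

namespace Cfsg.Agent.OddCyclic.ClaimC.WO

open Matrix Cfsg.Agent.OddCyclic.T1Module Cfsg.Agent.OddCyclic.T1Sl2 Cfsg.Agent.OddCyclic.FFBasic
  Cfsg.Agent.OddCyclic.FFRed Cfsg.Agent.OddCyclic.FFSl2 Cfsg.Agent.Lib.AutSL2 Cfsg.Agent.Lib.AutSL2Out
  Cfsg.Agent.Classification.QDW.TypeHom Cfsg.Agent.OddCyclic.FFOuter Cfsg.Agent.OddCyclic.ClaimC.WDefs
open Cfsg.Agent.Lib.SL2Mat (fieldAut)

section outer


variable {H : Type*} [Group H] [Finite H] {V : Type*} [CommGroup V] [Finite V] {ρ : H →* MulAut V}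
variable {L A : Subgroup H} [L.Normal] {F : Type*} [Field F] [Fintype F] [CharP F 2]

theorem orr_ne (h4 : 4 ≤ Fintype.card F) (e : SpecialLinearGroup (Fin 2) F ≃* L) (h : Fw ρ L A) :
    ∃ g v, rr ρ e g v ≠ v := by
  have hs := isSimpleGroup_sl2 h4
  obtain ⟨g, hg⟩ := exists_ne (1 : SpecialLinearGroup (Fin 2) F)
  obtain ⟨v, hv⟩ := h.faithL (e g) (e g).2 (fun h => hg (by
    have : e g = 1 := Subtype.ext h
    rwa [map_eq_one_iff e e.injective] at this))
  exact ⟨g, v, hv⟩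

/-- elements of `A ∖ L` induce outer automorphisms -/
theorem otyp_ne (e : SpecialLinearGroup (Fin 2) F ≃* L) (h : Fw ρ L A) {a : H} (ha : a ∈ A) (haL : a ∉ L) :
    typ (ac e a) ≠ 1 := by
  intro h1
  obtain ⟨s, hs⟩ := (L2Model.inner_iff _).1 h1
  apply haL
  refine h.inn a ha (e s) (e s).2 ?_
  rw [← ac_coe e s] at hs
  exact (ac_eq_iff e _ _).1 hs

theorem oac_sq (e : SpecialLinearGroup (Fin 2) F ≃* L) (h : Fw ρ L A) {a : H} (ha : a ∈ A) :
    ac e a * ac e a = 1 := by rw [← map_mul, h.sq a ha, map_one]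

theorem omul_mem_L (e : SpecialLinearGroup (Fin 2) F ≃* L) (h : Fw ρ L A) {a b : H} (ha : a ∈ A) (haL : a ∉ L)
    (hb : b ∈ A) (hbL : b ∉ L) : a * b ∈ L := by
  by_contra hab
  have h1 := otyp_ne e h ha haL
  have h2 := otyp_ne e h hb hbL
  have h3 := otyp_ne e h (mul_mem ha hb) hab
  apply h3
  have h4 : typ (ac e a) = typ (ac e b) := by
    refine L2Borel.ringAut_invol ?_ ?_ h1 h2
    · rw [← map_mul, oac_sq e h ha, map_one]
    · rw [← map_mul, oac_sq e h hb, map_one]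
  rw [map_mul, map_mul, ← h4, ← map_mul, oac_sq e h ha, map_one]

theorem orelIndex_A (e : SpecialLinearGroup (Fin 2) F ≃* L) (h : Fw ρ L A) (hAL : ¬ A ≤ L) : L.relIndex A = 2 := by
  obtain ⟨a, ha, haL⟩ := SetLike.not_le_iff_exists.1 hAL
  rw [Subgroup.relIndex, Subgroup.index_eq_two_iff]
  refine ⟨⟨a, ha⟩, fun b => ?_⟩
  rw [Subgroup.mem_subgroupOf, Subgroup.mem_subgroupOf]
  show Xor ((b : H) * a ∈ L) ((b : H) ∈ L)
  by_cases hb : (b : H) ∈ L
  · refine Or.inr ⟨hb, fun h1 => haL ?_⟩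
    have := mul_mem (inv_mem hb) h1
    rwa [inv_mul_cancel_left] at this
  · exact Or.inl ⟨omul_mem_L e h b.2 hb ha haL, hb⟩

theorem ocard_inf (e : SpecialLinearGroup (Fin 2) F ≃* L) (h : Fw ρ L A) (hAL : ¬ A ≤ L) :
    2 * Nat.card (A ⊓ L : Subgroup H) = Nat.card A := by
  have h1 := card_mul_relIndex (A := A ⊓ L) (B := A) inf_le_left
  rw [Subgroup.inf_relIndex_left, orelIndex_A e h hAL] at h1
  rw [← h1, mul_comm]

theorem ocard_inf_dvd (e : SpecialLinearGroup (Fin 2) F ≃* L) (h : Fw ρ L A) (hAL : ¬ A ≤ L) :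
    ∃ q : ℕ, Fintype.card F = q ^ 2 ∧ Nat.card (A ⊓ L : Subgroup H) ≤ q := by
  obtain ⟨a, ha, haL⟩ := SetLike.not_le_iff_exists.1 hAL
  obtain ⟨q, hq, hc⟩ := L2Model.card_fix (oac_sq e h ha) (otyp_ne e h ha haL)
  have hcF : Nat.card F = Fintype.card F := Nat.card_eq_fintype_card
  rw [hcF] at hq hc
  refine ⟨q, hq, ?_⟩
  have hq0 : 0 < q := by
    rcases Nat.eq_zero_or_pos q with h0 | h0
    · rw [h0] at hq
      have := Fintype.card_pos (α := F)
      omega
    · exact h0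
  -- the fixed points contain `A ∩ L`
  have h1 : Nat.card (A ⊓ L : Subgroup H) ∣ Nat.card (L2Model.fix (ac e a)) := by
    let f : (A ⊓ L : Subgroup H) →* L2Model.fix (ac e a) :=
      { toFun := fun x => ⟨e.symm ⟨x, x.2.2⟩, by
          rw [L2Model.mem_fix]
          apply e.injective
          apply Subtype.ext
          rw [e_ac, e.apply_symm_apply]
          show a * (x : H) * a⁻¹ = x
          rw [comm_of_sq h.sq ha x.2.1, mul_inv_cancel_right]⟩
        map_one' := Subtype.ext (map_one e.symm)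
        map_mul' := fun x y => Subtype.ext (by
          show e.symm _ = e.symm _ * e.symm _
          rw [← map_mul]; rfl) }
    have hf : Function.Injective f := by
      intro x y hxy
      have h2 := congrArg Subtype.val hxy
      have h3 := e.symm.injective h2
      exact Subtype.ext (congrArg (fun z : L => (z : H)) h3)
    rw [Nat.card_congr (MonoidHom.ofInjective hf).toEquiv]
    exact f.range.card_subgroup_dvd_card
  have hp : IsPGroup 2 (A ⊓ L : Subgroup H) := fun a => ⟨1, by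
    rw [pow_one, pow_two]; exact Subtype.ext (h.sq a a.2.1)⟩
  have : Fact (Nat.Prime 2) := ⟨Nat.prime_two⟩
  obtain ⟨m, hm⟩ := (IsPGroup.iff_card (p := 2)).1 hp
  rw [hm, hc] at h1
  rw [hm]
  apply Nat.le_of_dvd hq0
  refine Nat.Coprime.dvd_of_dvd_mul_right ?_ h1
  obtain ⟨n, hn, hF⟩ := card_pow F
  rw [hF]
  apply Nat.Coprime.pow_left
  rw [Nat.coprime_two_left]
  have h5 : Even (2 ^ n) := (Nat.even_pow' hn.ne').2 even_two
  have h6 : 0 < 2 ^ n := by positivity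
  rcases h5 with ⟨r, hr⟩
  exact ⟨r - 1, by omega⟩

theorem oindex_ge (h4 : 4 ≤ Fintype.card F) (e : SpecialLinearGroup (Fin 2) F ≃* L) (h : Fw ρ L A)
    (hV : ∀ v : V, v * v = 1) {x : H} (hx : x ∈ L) (hxx : x * x = 1) (hx1 : x ≠ 1) :
    Fintype.card F ≤ (fx ρ x).index := by
  have h1 := sl2_index h4 hV (rr ρ e) (orr_ne h4 e h) (a := e.symm ⟨x, hx⟩)
    (by rw [← map_mul, ← map_one e.symm]; congr 1; exact Subtype.ext hxx)
    (fun h => hx1 (by
      have := congrArg e h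
      rw [e.apply_symm_apply, map_one] at this
      exact congrArg Subtype.val this))
  rwa [fx_rr, e.apply_symm_apply] at h1

theorem ocard_eq (h4 : 4 ≤ Fintype.card F) (e : SpecialLinearGroup (Fin 2) F ≃* L) (h : Fw ρ L A)
    (hV : ∀ v : V, v * v = 1) (hAL : ¬ A ≤ L) : Fintype.card F = 4 := by
  have h1 := ocard_inf e h hAL
  by_cases hu : ∃ u ∈ A ⊓ L, u ≠ 1
  · obtain ⟨u, hu, hu1⟩ := hu
    obtain ⟨q, hq, hq2⟩ := ocard_inf_dvd e h hAL
    have h3 := oindex_ge h4 e h hV hu.2 (h.sq u hu.1) hu1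
    have h5 := h.idx u hu.1
    have h6 : q * q ≤ 2 * q := by
      calc q * q = Fintype.card F := by rw [hq, sq]
        _ ≤ Nat.card A := h3.trans h5
        _ ≤ 2 * q := by omega
    have h7 : q ≤ 2 := by
      rcases Nat.eq_zero_or_pos q with h0 | h0
      · omega
      · exact Nat.le_of_mul_le_mul_right h6 h0
    have h8 : q * q ≤ 4 := by nlinarith
    rw [← sq, ← hq] at h8
    omega
  · push Not at hu
    have hbot : A ⊓ L = ⊥ := by
      rw [Subgroup.eq_bot_iff_forall]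
      exact hu
    rw [hbot, Subgroup.card_bot] at h1
    obtain ⟨a, ha, haL⟩ := SetLike.not_le_iff_exists.1 hAL
    have h3 := h.idx a ha
    have h5 : (fx ρ a).index ≤ 2 := by omega
    -- an involution which is a commutator with `a`
    obtain ⟨s, hs⟩ := L2Model.exists_std (oac_sq e h ha) (otyp_ne e h ha haL)
    set σ := typ (ac e a) with hσ
    obtain ⟨t, ht⟩ : ∃ t, σ t ≠ t := by
      by_contra hcon
      push Not at hcon
      exact otyp_ne e h ha haL (RingEquiv.ext hcon)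
    set x := s * up t * s⁻¹ with hx
    have h6 : ac e a x = s * up (σ t) * s⁻¹ := by
      rw [hs, hx, MulAut.mul_apply, MulAut.mul_apply, ← map_inv, MulAut.conj_apply, MulAut.conj_apply, inv_inv,
        ← fieldAut_up']
      congr 2
      congr 1
      group
    have h7 : ac e a x * x⁻¹ = s * up (σ t + t) * s⁻¹ := by
      have h8 : (up t : SpecialLinearGroup (Fin 2) F)⁻¹ = up t := by
        rw [inv_eq_iff_mul_eq_one, up_mul, CharTwo.add_self_eq_zero, up_zero]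
      calc ac e a x * x⁻¹ = s * (up (σ t) * (up t)⁻¹) * s⁻¹ := by rw [h6, hx]; group
        _ = _ := by rw [h8, up_mul]
    set y := ac e a x * x⁻¹ with hy
    have hyy : y * y = 1 := by
      rw [h7]
      have : s * up (σ t + t) * s⁻¹ * (s * up (σ t + t) * s⁻¹) = s * (up (σ t + t) * up (σ t + t)) * s⁻¹ := by group
      rw [this, up_mul, CharTwo.add_self_eq_zero, up_zero]; group
    have hy1 : y ≠ 1 := by
      intro h8
      rw [h7] at h8
      have h9 : up (σ t + t) = (1 : SpecialLinearGroup (Fin 2) F) := by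
        have : up (σ t + t) = s⁻¹ * (s * up (σ t + t) * s⁻¹) * s := by group
        rw [this, h8]; group
      have h10 : (up (σ t + t) : SpecialLinearGroup (Fin 2) F) 0 1 = 0 := by rw [h9, one01]
      rw [up01] at h10
      exact ht (CharTwo.add_eq_zero.mp h10)
    have h8 := sl2_index h4 hV (rr ρ e) (orr_ne h4 e h) hyy hy1
    rw [fx_rr] at h8
    have h9 : (e y : H) = a * (e x * a⁻¹ * (e x : H)⁻¹) := by
      rw [hy, map_mul, map_inv]
      change ((e (ac e a x) : L) : H) * _ = _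
      rw [e_ac]
      change a * e x * a⁻¹ * (e x : H)⁻¹ = _
      group
    have h10 : fx ρ a ⊓ fx ρ (e x * a⁻¹ * (e x : H)⁻¹) ≤ fx ρ (e y : H) := by
      rintro v ⟨hv1, hv2⟩
      rw [h9]
      exact fx_mul ρ hv1 hv2
    have h11 := index_le_of_le h10
    have h12 : (fx ρ a ⊓ fx ρ (e x * a⁻¹ * (e x : H)⁻¹)).index ≤
        (fx ρ a).index * (fx ρ (e x * a⁻¹ * (e x : H)⁻¹)).index := Subgroup.index_inf_le
    have haa : a⁻¹ = a := inv_eq_of_mul_eq_one_left (h.sq a ha)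
    rw [index_fx_conj, haa] at h12
    have h13 : (fx ρ a).index * (fx ρ a).index ≤ 4 := by nlinarith
    rw [haa] at h11
    omega

/-! ### the isomorphism with `S₅` -/

end outer

end Cfsg.Agent.OddCyclic.ClaimC.WO
end

-- part: OddCyclic/ClaimC/SixA
section
set_option linter.all false
open scoped Cfsg.Agent.FastGrp

/-!
# CLAIM C, section 6: `K = SL₂(q)` is irreducible on `V` (6.1); the case `E ≤ K`
-/

set_option autoImplicit false
set_option linter.unusedSectionVars false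

namespace Cfsg.Agent.OddCyclic.ClaimC.SixA

open Matrix Cfsg.Agent.OddCyclic.T1Module Cfsg.Agent.OddCyclic.T1Sl2 Cfsg.Agent.OddCyclic.FFBasic
  Cfsg.Agent.OddCyclic.ClaimC.SixPP Cfsg.Agent.OddCyclic.FFRed Cfsg.Agent.OddCyclic.EmpC
  Cfsg.Agent.OddCyclic.ClaimC.SixB Cfsg.Agent.OddCyclic.ClaimC.SixT Cfsg.Agent.OddCyclic.ClaimC.SixU
  Cfsg.Agent.OddCyclic.ClaimC.WDefs Cfsg.Agent.OddCyclic.ClaimC.Alpha
open Cfsg.Agent.OddCyclic.FFSl2 (index_le_of_le eq_of_index_le)
open Cfsg.Agent.OddCyclic.FFOuter (rr fx_rr ac e_ac)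

variable {H : Type*} [Group H] [Finite H] {V : Type*} [CommGroup V] [Finite V]
  {F : Type*} [Field F] [Fintype F] [CharP F 2]

/-- the hypotheses of section 6 -/
structure Hyp (ρ : H →* MulAut V) (T : Sylow 2 H) (K E : Subgroup H) (R D : Subgroup V) (c d : ℕ)
    (F : Type*) [Field F] [Fintype F] : Prop where
  cfg : Cfg ρ E R D c d
  bad : Bad ρ T
  nff : NFF ρ
  sq : ∀ v : V, v * v = 1
  inj : Function.Injective ρ
  four : 4 ≤ Fintype.card F
  faith : ∀ a ∈ E, (∀ l ∈ K, a * l = l * a) → a = 1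
  inn : ∀ a ∈ E, ∀ g ∈ K, (∀ l ∈ K, a * l * a⁻¹ = g * l * g⁻¹) → a ∈ K

variable {ρ : H →* MulAut V} {T : Sylow 2 H} {K E : Subgroup H} {R D : Subgroup V} {c d : ℕ}

namespace Hyp

omit [Finite H] [Finite V] [CharP F 2] in
theorem nontriv (s : Hyp ρ T K E R D c d F) {x : H} (hx : x ≠ 1) : ∃ v, ρ x v ≠ v := by
  by_contra hcon
  push Not at hcon
  apply hx
  apply s.inj
  rw [map_one]
  ext v
  exact hcon v

theorem fw (s : Hyp ρ T K E R D c d F) : Fw ρ K E where
  sq := s.cfg.sq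
  ne := s.cfg.ne_bot
  idx := by
    intro a ha
    by_cases ha1 : a = 1
    · rw [ha1, fx_one, Subgroup.index_top]
      exact Nat.card_pos
    · exact s.cfg.width s.sq ha ha1
  faithA := s.faith
  inn := s.inn
  faithL := fun y _ hy => s.nontriv hy

variable [K.Normal]

theorem index_ge (s : Hyp ρ T K E R D c d F) (e : SpecialLinearGroup (Fin 2) F ≃* K) {x : H} (hx : x ∈ K)
    (hxx : x * x = 1) (hx1 : x ≠ 1) : Fintype.card F ≤ (fx ρ x).index :=
  WO.oindex_ge s.four e s.fw s.sq hx hxx hx1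

theorem four_le_card (s : Hyp ρ T K E R D c d F) : 4 ≤ Nat.card E := by
  rw [s.cfg.card]
  calc 4 = 2 ^ 2 := by norm_num
    _ ≤ 2 ^ c := Nat.pow_le_pow_right (by norm_num) s.cfg.two

/-- `E ∩ K ≠ 1` and `|E| ≤ q` -/
theorem exists_a (s : Hyp ρ T K E R D c d F) (e : SpecialLinearGroup (Fin 2) F ≃* K) :
    (∃ a ∈ E, a ∈ K ∧ a ≠ 1) ∧ Nat.card E ≤ Fintype.card F := by
  have h4 := s.four_le_card
  by_cases hEK : E ≤ K
  · constructor
    · obtain ⟨⟨a, ha⟩, ha1⟩ := Subgroup.ne_bot_iff_exists_ne_one.1 s.cfg.ne_bot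
      exact ⟨a, ha, hEK ha, fun h => ha1 (Subtype.ext h)⟩
    · -- the preimage is a 2-group
      let A : Subgroup (SpecialLinearGroup (Fin 2) F) := (E.subgroupOf K).map e.symm.toMonoidHom
      have h1 : Nat.card A = Nat.card E := by
        rw [Subgroup.card_map_of_injective e.symm.injective]
        exact Nat.card_congr (Subgroup.subgroupOfEquivOfLe hEK).toEquiv
      have h2 : IsPGroup 2 A := by
        rintro ⟨_, ⟨a, ha, rfl⟩⟩
        refine ⟨1, ?_⟩
        rw [pow_one, pow_two]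
        apply Subtype.ext
        show e.symm a * e.symm a = 1
        rw [← map_mul, ← map_one e.symm]
        congr 1
        exact Subtype.ext (s.cfg.sq a ha)
      obtain ⟨U, hU⟩ := h2.exists_le_sylow
      rw [← h1, ← card_sylow U]
      exact Nat.card_le_card_of_injective _ (Subgroup.inclusion_injective hU)
  · have hF := WO.ocard_eq s.four e s.fw s.sq hEK
    obtain ⟨q, hq, hq2⟩ := WO.ocard_inf_dvd e s.fw hEK
    have h1 := WO.ocard_inf e s.fw hEK
    have h2 : q ≤ 2 := by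
      by_contra hcon
      push Not at hcon
      have : 3 * 3 ≤ q * q := Nat.mul_le_mul hcon hcon
      rw [← pow_two, ← pow_two, ← hq] at this
      omega
    constructor
    · have h3 : 2 ≤ Nat.card (E ⊓ K : Subgroup H) := by omega
      obtain ⟨⟨a, ha⟩, ha1⟩ := Subgroup.ne_bot_iff_exists_ne_one.1 (show E ⊓ K ≠ ⊥ by
        intro h; rw [h, Subgroup.card_bot] at h3; omega)
      exact ⟨a, ha.1, ha.2, fun h => ha1 (Subtype.ext h)⟩
    · omega

/-- `|V : C_V(x)| = q` for the involutions `x` of `K` -/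
theorem index_K (s : Hyp ρ T K E R D c d F) (e : SpecialLinearGroup (Fin 2) F ≃* K) {x : H} (hx : x ∈ K)
    (hxx : x * x = 1) (hx1 : x ≠ 1) : (fx ρ x).index = Fintype.card F := by
  apply le_antisymm
  · obtain ⟨⟨a, ha, haK, ha1⟩, hcard⟩ := s.exists_a e
    have h1 : e.symm ⟨x, hx⟩ * e.symm ⟨x, hx⟩ = 1 := by
      rw [← map_mul, ← map_one e.symm]
      congr 1
      exact Subtype.ext hxx
    have h2 : e.symm ⟨a, haK⟩ * e.symm ⟨a, haK⟩ = 1 := by
      rw [← map_mul, ← map_one e.symm]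
      congr 1
      exact Subtype.ext (s.cfg.sq a ha)
    have hne : ∀ y : H, ∀ hy : y ∈ K, y ≠ 1 → e.symm ⟨y, hy⟩ ≠ 1 := by
      intro y hy hy1 h
      apply hy1
      have := congrArg e h
      rw [e.apply_symm_apply, map_one] at this
      exact congrArg Subtype.val this
    obtain ⟨g, hg⟩ := SixY.exists_conj h1 (hne x hx hx1) h2 (hne a haK ha1)
    have h3 : (⟨x, hx⟩ : K) = e g * ⟨a, haK⟩ * (e g)⁻¹ := by
      rw [← e.apply_symm_apply ⟨x, hx⟩, hg, map_mul, map_mul, map_inv, e.apply_symm_apply]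
    have h4 : x = (e g : H) * a * (e g : H)⁻¹ := congrArg Subtype.val h3
    rw [h4, index_fx_conj]
    exact (s.cfg.width s.sq ha ha1).trans hcard
  · exact s.index_ge e hx hxx hx1

omit [Finite H] [CharP F 2] [Finite V] in
theorem rr_apply (e : SpecialLinearGroup (Fin 2) F ≃* K) (g : SpecialLinearGroup (Fin 2) F) (v : V) :
    rr ρ e g v = ρ (e g : H) v := rfl

/-- **(6.1)** -/
theorem irr (s : Hyp ρ T K E R D c d F) (e : SpecialLinearGroup (Fin 2) F ≃* K) :
    CS ρ K = ⊥ ∧ CM ρ K = ⊤ ∧ ∀ W : Subgroup V, (∀ k ∈ K, ∀ w ∈ W, ρ k w ∈ W) → W = ⊥ ∨ W = ⊤ := by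
  have h4 := s.four
  have hs := isSimpleGroup_sl2 s.four
  have hsK : IsSimpleGroup K := e.symm.isSimpleGroup
  obtain ⟨⟨a, ha, haK, ha1⟩, hcard⟩ := s.exists_a e
  set a' := e.symm ⟨a, haK⟩ with ha'
  have hea : (e a' : H) = a := by rw [ha', e.apply_symm_apply]
  have ha'2 : a' * a' = 1 := by
    rw [ha', ← map_mul, ← map_one e.symm]
    congr 1
    exact Subtype.ext (s.cfg.sq a ha)
  have ha'1 : a' ≠ 1 := by
    intro h
    apply ha1
    rw [← hea, h, map_one]; rfl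
  -- an element of odd order
  obtain ⟨y, hy, hay⟩ : ∃ y : SpecialLinearGroup (Fin 2) F, orderOf y = 3 ∧ a' * y * a'⁻¹ = y⁻¹ := by
    obtain ⟨y₀, hy₀⟩ : ∃ y₀ : SpecialLinearGroup (Fin 2) F, orderOf y₀ = 3 := by
      refine ⟨T1Sl2.mk 0 1 1 1 ?_, ?_⟩
      · have h2 : (2 : F) = 0 := CharTwo.two_eq_zero
        linear_combination -h2
      · apply order_three
        simp
    obtain ⟨y, hy, hay⟩ := inverts_of_orderOf ha'2 ha'1 (y₀ := y₀) (by rw [hy₀]; norm_num)
    exact ⟨y, by rw [hy, hy₀], hay⟩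
  have hyo : orderOf (e y : H) = 3 := by
    rw [Subgroup.orderOf_coe, e.orderOf_eq, hy]
  have hy1 : (e y : H) ≠ 1 := by
    intro h
    rw [h, orderOf_one] at hyo
    omega
  have hO := le_closure_odd hsK (e y).2 hy1 (by rw [hyo]; decide)
  refine s.bad.irr s.sq hO ⟨_, (e y).2, s.nontriv hy1⟩ ?_
  intro W hW
  by_contra hcon
  push Not at hcon
  obtain ⟨⟨k, hk, w, hw, hkw⟩, ⟨k', hk', v, hv⟩⟩ := hcon
  have hWi : Inv (rr ρ e) W := fun g w hw => hW _ (e g).2 w hw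
  have h1 : ∃ g w, EmpC.sub (rr ρ e) W hWi g w ≠ w := by
    refine ⟨e.symm ⟨k, hk⟩, ⟨w, hw⟩, fun h => hkw ?_⟩
    have h2 := congrArg Subtype.val h
    rw [EmpC.sub_apply, rr_apply, e.apply_symm_apply] at h2
    exact h2
  have h2 : ∃ g w, quo (rr ρ e) W hWi g w ≠ w := by
    refine ⟨e.symm ⟨k', hk'⟩, (v : V ⧸ W), fun h => hv ?_⟩
    rw [quo_apply, rr_apply, e.apply_symm_apply, QuotientGroup.eq] at h
    have h3 := inv_mem h
    rw [_root_.mul_inv_rev, inv_inv, mul_comm] at h3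
    exact h3
  have h3 := sl2_index s.four (fun w : W => Subtype.ext (s.sq w)) (EmpC.sub (rr ρ e) W hWi) h1 ha'2 ha'1
  have h5 := sl2_index s.four (quo_sq s.sq) (quo (rr ρ e) W hWi) h2 ha'2 ha'1
  have h6 := index_mul_le hWi a'
  have h7 : (fx (rr ρ e) a').index = Fintype.card F := by
    rw [fx_rr, hea]
    exact s.index_K e haK (s.cfg.sq a ha) ha1
  rw [h7] at h6
  have h8 : Fintype.card F * Fintype.card F ≤ Fintype.card F := (Nat.mul_le_mul h3 h5).trans h6
  nlinarith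

end Hyp

end Cfsg.Agent.OddCyclic.ClaimC.SixA

private theorem dce_3a2b60bbbeae : _root_.True := by
  try have : _root_.True := by simp only [_root_.Cfsg.Agent.OddCyclic.EmpC.sub.congr_simp]
  try have : _root_.True := by simp only [_root_.Cfsg.Agent.OddCyclic.EmpC.quo.congr_simp]
  exact _root_.True.intro
end

-- part: OddCyclic/ClaimC/SixE
section
set_option linter.all false
open scoped Cfsg.Agent.FastGrp

/-!
# CLAIM C, section 6: the case `E ≤ K`, output (α')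
-/

set_option autoImplicit false
set_option linter.unusedSectionVars false

namespace Cfsg.Agent.OddCyclic.ClaimC.SixE

open Matrix Cfsg.Agent.OddCyclic.T1Module Cfsg.Agent.OddCyclic.T1Sl2 Cfsg.Agent.OddCyclic.FFBasic
  Cfsg.Agent.OddCyclic.ClaimC.SixPP Cfsg.Agent.OddCyclic.FFRed Cfsg.Agent.OddCyclic.EmpC
  Cfsg.Agent.OddCyclic.ClaimC.SixB Cfsg.Agent.OddCyclic.ClaimC.SixT Cfsg.Agent.OddCyclic.ClaimC.SixU
  Cfsg.Agent.OddCyclic.ClaimC.WDefs Cfsg.Agent.OddCyclic.ClaimC.Alpha Cfsg.Agent.OddCyclic.ClaimC.SixA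
open Cfsg.Agent.OddCyclic.FFSl2 (index_le_of_le eq_of_index_le)
open Cfsg.Agent.OddCyclic.FFOuter (rr fx_rr ac e_ac)

variable {H : Type*} [Group H] [Finite H] {V : Type*} [CommGroup V] [Finite V]
  {F : Type*} [Field F] [Fintype F] [CharP F 2]
  {ρ : H →* MulAut V} {T : Sylow 2 H} {K E : Subgroup H} [K.Normal] {R D : Subgroup V} {c d : ℕ}

theorem card_E (s : Hyp ρ T K E R D c d F) (e : SpecialLinearGroup (Fin 2) F ≃* K) :
    Nat.card E = Fintype.card F := by
  obtain ⟨⟨a, ha, haK, ha1⟩, hcard⟩ := s.exists_a e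
  apply le_antisymm hcard
  rw [← s.index_K e haK (s.cfg.sq a ha) ha1]
  exact s.cfg.width s.sq ha ha1

/-- a standard isomorphism -/
theorem exists_std (s : Hyp ρ T K E R D c d F) (e : SpecialLinearGroup (Fin 2) F ≃* K) (hEK : E ≤ K) :
    ∃ e' : SpecialLinearGroup (Fin 2) F ≃* K, ∀ x, x ∈ T1Sl2.SU F ↔ (e' x : H) ∈ E := by
  let A : Subgroup (SpecialLinearGroup (Fin 2) F) := (E.subgroupOf K).map e.symm.toMonoidHom
  have hmemA : ∀ x, x ∈ A ↔ (e x : H) ∈ E := by
    intro x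
    constructor
    · rintro ⟨a, ha, rfl⟩
      show (e (e.symm a) : H) ∈ E
      rw [e.apply_symm_apply]
      exact ha
    · intro hx
      exact ⟨e x, hx, e.symm_apply_apply x⟩
  have h1 : Nat.card A = Nat.card E := by
    rw [Subgroup.card_map_of_injective e.symm.injective]
    exact Nat.card_congr (Subgroup.subgroupOfEquivOfLe hEK).toEquiv
  have h2 : IsPGroup 2 A := by
    rintro ⟨_, ⟨a, ha, rfl⟩⟩
    refine ⟨1, ?_⟩
    rw [pow_one, pow_two]
    apply Subtype.ext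
    show e.symm a * e.symm a = 1
    rw [← map_mul, ← map_one e.symm]
    congr 1
    exact Subtype.ext (s.cfg.sq a ha)
  obtain ⟨U, hU⟩ := h2.exists_le_sylow
  have hAU : A = (U : Subgroup _) := by
    apply Subgroup.eq_of_le_of_card_ge hU
    show Nat.card U ≤ _
    rw [card_sylow U, h1, card_E s e]
  obtain ⟨g, hg⟩ := exists_smul_SU U
  refine ⟨(MulAut.conj g).trans e, fun x => ?_⟩
  show _ ↔ (e (MulAut.conj g x) : H) ∈ E
  rw [← hmemA, hAU, MulAut.conj_apply]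
  show _ ↔ g * x * g⁻¹ ∈ U
  rw [← hg, mem_smul]
  have : g⁻¹ * (g * x * g⁻¹) * g = x := by group
  rw [this]

theorem six (s : Hyp ρ T K E R D c d F) (e : SpecialLinearGroup (Fin 2) F ≃* K) (hEK : E ≤ K)
    (he : ∀ x, x ∈ T1Sl2.SU F ↔ (e x : H) ∈ E) : Six (rr ρ e) R D c d := by
  have hirr := (s.irr e).2.2
  have hinv : ∀ W : Subgroup V, Inv (rr ρ e) W → ∀ k ∈ K, ∀ w ∈ W, ρ k w ∈ W := by
    intro W hW k hk w hw
    have := hW (e.symm ⟨k, hk⟩) w hw
    rwa [Hyp.rr_apply, e.apply_symm_apply] at this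
  have hsym : ∀ a ∈ E, ∃ x ∈ T1Sl2.SU F, (e x : H) = a := by
    intro a ha
    refine ⟨e.symm ⟨a, hEK ha⟩, ?_, ?_⟩
    · rw [he, e.apply_symm_apply]
      exact ha
    · rw [e.apply_symm_apply]
  refine ⟨?_, fun W hW => hirr W (hinv W hW), ?_, s.four, s.sq⟩
  · refine ⟨fun a ha => SU_sq ha, ?_, s.cfg.two, s.cfg.le, s.cfg.index, s.cfg.pos, ?_, ?_, ?_, ?_, ?_, ?_⟩
    · have h1 : Nat.card (T1Sl2.SU F : Subgroup (SpecialLinearGroup (Fin 2) F)) = Fintype.card F := card_sylow (T1Sl2.SU F)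
      rw [h1, ← card_E s e, s.cfg.card]
    · intro r hr a ha
      exact s.cfg.fix_apply hr ((he a).1 ha)
    · intro N hN hNi
      rcases hirr N (hinv N hNi) with h1 | h1
      · exact h1
      · exfalso
        apply s.cfg.ne_top
        rw [eq_top_iff, ← h1]
        exact hN.trans s.cfg.le
    · intro v hv a ha
      exact s.cfg.comm v hv _ ((he a).1 ha)
    · intro v hv a ha h
      have h1 := s.cfg.inj v hv _ ((he a).1 ha) h
      have h2 : e a = 1 := Subtype.ext h1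
      exact (map_eq_one_iff e e.injective).1 h2
    · intro v hv w hw
      obtain ⟨a, ha, r, hr, hwe⟩ := s.cfg.surj v hv w hw
      obtain ⟨x, hx, rfl⟩ := hsym a ha
      exact ⟨x, hx, r, hr, hwe⟩
    · intro v hv a ha
      exact s.cfg.dcomm v hv _ ((he a).1 ha)
  · obtain ⟨w, hw, a, ha, hne⟩ := s.cfg.nonquad s.sq s.nff
    obtain ⟨x, hx, rfl⟩ := hsym a ha
    exact ⟨w, hw, x, hx, hne⟩

/-- the torus in `H` -/
def jj (e : SpecialLinearGroup (Fin 2) F ≃* K) : Fˣ →* H := (K.subtype.comp e.toMonoidHom).comp dgHom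

omit [Finite H] [Fintype F] [CharP F 2] [K.Normal] in
theorem jj_injective (e : SpecialLinearGroup (Fin 2) F ≃* K) : Function.Injective (jj e) := by
  intro α β h
  apply dgHom_injective
  apply e.injective
  exact Subtype.ext h

/-- **the case `E ≤ K`** -/
theorem alpha (s : Hyp ρ T K E R D c d F) (e₀ : SpecialLinearGroup (Fin 2) F ≃* K) (hEK : E ≤ K) :
    ∃ T' : Subgroup H, Alpha ρ K E T' R D d ∧ Fintype.card F = (2 ^ d) ^ 2 := by
  obtain ⟨e, he⟩ := exists_std s e₀ hEK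
  have h6 := six s e hEK he
  obtain ⟨hF, hR, hmD, hmR, hmDR, hpD, hpDR⟩ := final h6
  have hpow : ∀ (α : Fˣ) (n : ℕ), jj e α ^ n = 1 → α ^ n = 1 := by
    intro α n h
    apply jj_injective e
    rw [map_pow, h, map_one]
  have hne : ∀ α : Fˣ, jj e α ≠ 1 → α ≠ 1 := by
    rintro α h rfl
    exact h (map_one _)
  have hsym : ∀ a ∈ E, ∃ t : F, (e (up t) : H) = a := by
    intro a ha
    have h1 : e.symm ⟨a, hEK ha⟩ ∈ T1Sl2.SU F := by
      rw [he, e.apply_symm_apply]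
      exact ha
    obtain ⟨t, ht⟩ := mem_SU_iff.1 h1
    exact ⟨t, by rw [← ht, e.apply_symm_apply]⟩
  have hconj : ∀ (α : Fˣ) (t : F), jj e α * (e (up t) : H) * (jj e α)⁻¹ = (e (up ((α : F) * α * t)) : H) := by
    intro α t
    rw [← dg_up, map_mul, map_mul, map_inv]
    rfl
  refine ⟨(jj e).range, ?_, hF⟩
  refine ⟨s.cfg.pos, ?_, hR, s.cfg.index, ?_, hEK, ?_, ?_, (s.irr e).2.2, ?_, ?_, ?_, ?_, ?_, ?_, ?_, ?_, ?_, ?_, ?_, ?_⟩
  · rw [card_E s e, hF]
  · rw [h6.card_V, hF]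
    ring
  · rintro _ ⟨α, rfl⟩
    exact (e (dg α)).2
  · have h1 : (E.subgroupOf K).comap e.toMonoidHom = (T1Sl2.SU F : Subgroup (SpecialLinearGroup (Fin 2) F)) := by
      ext x
      exact (he x).symm
    have h2 : E.relIndex K = (T1Sl2.SU F : Subgroup (SpecialLinearGroup (Fin 2) F)).index := by
      rw [← h1, Subgroup.index_comap_of_surjective _ e.surjective]
      rfl
    rw [h2, ← Nat.not_even_iff_odd, even_iff_two_dvd]
    have : Fact (Nat.Prime 2) := ⟨Nat.prime_two⟩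
    exact (T1Sl2.SU F).not_dvd_index
  · exact isCyclic_of_surjective (jj e).rangeRestrict (jj e).rangeRestrict_surjective
  · have h1 : Nat.card (jj e).range = Nat.card Fˣ :=
      (Nat.card_congr (MonoidHom.ofInjective (jj_injective e)).toEquiv).symm
    rw [h1, card_units, hF]
  · rintro _ ⟨α, rfl⟩ a ha
    obtain ⟨t, rfl⟩ := hsym a ha
    rw [hconj]
    exact (he _).1 (mem_SU_iff.2 ⟨_, rfl⟩)
  · rintro _ ⟨α, rfl⟩ a ha ha1 h
    by_contra hα
    apply ha1
    obtain ⟨t, rfl⟩ := hsym a ha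
    have h1 : jj e α * (e (up t) : H) * (jj e α)⁻¹ = (e (up t) : H) := by rw [h, mul_inv_cancel_right]
    have h2 : e (dg α * up t * (dg α)⁻¹) = e (up t) := by
      apply Subtype.ext
      rw [map_mul, map_mul, map_inv]
      exact h1
    have h3 := eq_one_of_comm (hne α hα) (mem_SU_iff.2 ⟨t, rfl⟩) (e.injective h2)
    rw [h3, map_one]
    rfl
  · intro a ha ha1 b hb hb1
    obtain ⟨t, rfl⟩ := hsym a ha
    obtain ⟨u, rfl⟩ := hsym b hb
    have ht : t ≠ 0 := by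
      rintro rfl
      apply ha1
      rw [up_zero, map_one]; rfl
    have hu : u ≠ 0 := by
      rintro rfl
      apply hb1
      rw [up_zero, map_one]; rfl
    obtain ⟨r, hr⟩ := exists_sqrt (u / t)
    have hr0 : r ≠ 0 := by
      rintro rfl
      rw [mul_zero] at hr
      exact div_ne_zero hu ht hr.symm
    refine ⟨jj e (Units.mk0 r hr0), ⟨_, rfl⟩, ?_⟩
    rw [hconj, Units.val_mk0, hr, div_mul_cancel₀ _ ht]
  · rintro _ ⟨α, rfl⟩ v hv
    exact tau_R h6 α v hv
  · rintro _ ⟨α, rfl⟩ v hv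
    exact tau_D h6 α v hv
  · rintro _ ⟨α, rfl⟩ hα1 hα
    exact hmD α (hne α hα1) (hpow α _ hα)
  · rintro _ ⟨α, rfl⟩ hα1 hα
    exact hmR α (hne α hα1) (hpow α _ hα)
  · rintro _ ⟨α, rfl⟩ hα
    exact hmDR α (hpow α _ hα)
  · rintro _ ⟨α, rfl⟩ hα
    exact hpD α (hpow α _ hα)
  · rintro _ ⟨α, rfl⟩ hα1 hα
    exact hpDR α (hne α hα1) (hpow α _ hα)

end Cfsg.Agent.OddCyclic.ClaimC.SixE
end

-- part: OddCyclic/ClaimC/SixO
section
set_option linter.all false
open scoped Cfsg.Agent.FastGrp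

/-!
# CLAIM C, (6.2): `E ≤ K`
-/

set_option autoImplicit false
set_option linter.unusedSectionVars false

namespace Cfsg.Agent.OddCyclic.ClaimC.SixO

open Matrix Cfsg.Agent.OddCyclic.T1Module Cfsg.Agent.OddCyclic.T1Sl2 Cfsg.Agent.OddCyclic.FFBasic
  Cfsg.Agent.OddCyclic.ClaimC.SixPP Cfsg.Agent.OddCyclic.FFRed Cfsg.Agent.OddCyclic.EmpC
  Cfsg.Agent.OddCyclic.ClaimC.WDefs Cfsg.Agent.OddCyclic.ClaimC.Alpha Cfsg.Agent.OddCyclic.ClaimC.SixA
  Cfsg.Agent.Classification.QDW.TypeHom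
open Cfsg.Agent.OddCyclic.FFSl2 (index_le_of_le eq_of_index_le syl stb)
open Cfsg.Agent.OddCyclic.FFOuter (rr fx_rr ac e_ac ac_coe aut_smul fieldAut_SU fieldAut_syl syl_surjective)
open Cfsg.Agent.Lib.SL2Mat (fieldAut)
open scoped Pointwise

section general

variable {V : Type*} [CommGroup V] [Finite V]

/-- `n` involutions generate a group of order at most `2^n` -/
theorem card_closure_le (hV : ∀ v : V, v * v = 1) (S : Finset V) :
    Nat.card (Subgroup.closure (S : Set V)) ≤ 2 ^ S.card := by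
  classical
  induction S using Finset.induction_on with
  | empty => simp
  | insert a S ha ih =>
    have h1 : Subgroup.closure ((insert a S : Finset V) : Set V) =
        Subgroup.zpowers a ⊔ Subgroup.closure (S : Set V) := by
      rw [Finset.coe_insert, Set.insert_eq, Subgroup.closure_union, Subgroup.zpowers_eq_closure]
    have h2 : Nat.card (Subgroup.closure (S : Set V)) * (Subgroup.closure (S : Set V)).relIndex
        (Subgroup.zpowers a ⊔ Subgroup.closure (S : Set V)) =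
        Nat.card (Subgroup.zpowers a ⊔ Subgroup.closure (S : Set V) : Subgroup V) := card_mul_relIndex le_sup_right
    have h3 : (Subgroup.closure (S : Set V)).relIndex (Subgroup.zpowers a ⊔ Subgroup.closure (S : Set V)) ≤ 2 := by
      rw [Subgroup.relIndex_sup_right]
      have h4 : Nat.card (Subgroup.zpowers a) ∣ 2 := by
        rw [Nat.card_zpowers]
        exact orderOf_dvd_of_pow_eq_one (by rw [pow_two, hV])
      exact (Nat.le_of_dvd Nat.card_pos (Subgroup.relIndex_dvd_card _ _)).trans (Nat.le_of_dvd (by norm_num) h4)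
    rw [h1, ← h2, Finset.card_insert_of_notMem ha, pow_succ]
    exact Nat.mul_le_mul ih h3

/-- an orbit sum argument: a family of at most 6 vectors with product 1, invariant under an irreducible group -/
theorem card_le_of_family (hV : ∀ v : V, v * v = 1) {X : Type*} [Group X] (ρ : X →* MulAut V)
    (hirr : ∀ W : Subgroup V, Inv ρ W → W = ⊥ ∨ W = ⊤) {Q : Type*} [Fintype Q] (f : Q → V)
    (hinv : ∀ g q, ∃ q', ρ g (f q) = f q') (hne : ∃ q q', f q ≠ f q') (hprod : ∏ q, f q = 1)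
    (hcard : Fintype.card Q ≤ 5 ∨ Fintype.card Q = 6) : Nat.card V ≤ 16 := by
  classical
  obtain ⟨q₀, q₁, h01⟩ := hne
  let x : Q → V := fun q => f q * f q₀
  let W : Subgroup V := Subgroup.closure (Set.range x)
  have hxx : ∀ q q', f q * f q' ∈ W := by
    intro q q'
    have h1 : f q * f q' = x q * x q' := by
      show f q * f q' = (f q * f q₀) * (f q' * f q₀)
      rw [mul_mul_mul_comm, hV, mul_one]
    rw [h1]
    exact mul_mem (Subgroup.subset_closure ⟨q, rfl⟩) (Subgroup.subset_closure ⟨q', rfl⟩)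
  have hW : Inv ρ W := by
    intro g
    have h1 : W ≤ W.comap (ρ g : V →* V) := by
      show Subgroup.closure _ ≤ _
      rw [Subgroup.closure_le]
      rintro _ ⟨q, rfl⟩
      show ρ g (f q * f q₀) ∈ W
      obtain ⟨q', hq'⟩ := hinv g q
      obtain ⟨q'', hq''⟩ := hinv g q₀
      rw [map_mul, hq', hq'']
      exact hxx _ _
    exact fun w hw => h1 hw
  have htop : W = ⊤ := by
    rcases hirr W hW with h1 | h1
    · exfalso
      apply h01
      have h2 := hxx q₀ q₁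
      rw [h1, Subgroup.mem_bot] at h2
      rw [mul_eq_one_iff_eq_inv.1 h2, EmpC.inv_eq hV]
    · exact h1
  have hx0 : x q₀ = 1 := hV _
  -- the generators `x q`, `q ≠ q₀` (and `q ≠ q₁` if there are six)
  rcases hcard with hc | hc
  · have h1 : W ≤ Subgroup.closure (((Finset.univ.erase q₀).image x : Finset V) : Set V) := by
      show Subgroup.closure _ ≤ _
      rw [Subgroup.closure_le]
      rintro _ ⟨q, rfl⟩
      by_cases hq : q = q₀
      · rw [hq, hx0]; exact one_mem _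
      · exact Subgroup.subset_closure (Finset.mem_coe.2 (Finset.mem_image_of_mem x
          (Finset.mem_erase.2 ⟨hq, Finset.mem_univ _⟩)))
    rw [htop, top_le_iff] at h1
    have h2 := card_closure_le hV ((Finset.univ.erase q₀).image x)
    rw [h1, Subgroup.card_top] at h2
    have h3 : ((Finset.univ.erase q₀).image x).card ≤ 4 := by
      refine Finset.card_image_le.trans ?_
      rw [Finset.card_erase_of_mem (Finset.mem_univ _), Finset.card_univ]
      omega
    calc Nat.card V ≤ _ := h2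
      _ ≤ 2 ^ 4 := Nat.pow_le_pow_right (by norm_num) h3
      _ = 16 := by norm_num
  · have hq01 : q₁ ≠ q₀ := fun h => h01 (by rw [h])
    set S := ((Finset.univ.erase q₀).erase q₁).image x with hS
    have hmem : ∀ q, q ≠ q₁ → x q ∈ Subgroup.closure (S : Set V) := by
      intro q hq1
      by_cases hq : q = q₀
      · rw [hq, hx0]; exact one_mem _
      · exact Subgroup.subset_closure (Finset.mem_coe.2 (Finset.mem_image_of_mem x
          (Finset.mem_erase.2 ⟨hq1, Finset.mem_erase.2 ⟨hq, Finset.mem_univ _⟩⟩)))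
    have hprodx : ∏ q, x q = 1 := by
      show ∏ q, f q * f q₀ = 1
      rw [Finset.prod_mul_distrib, hprod, one_mul, Finset.prod_const, Finset.card_univ, hc]
      have : f q₀ ^ 6 = (f q₀ * f q₀) ^ 3 := by rw [← pow_two, ← pow_mul]
      rw [this, hV, one_pow]
    have hx1 : x q₁ ∈ Subgroup.closure (S : Set V) := by
      have h2 : x q₁ * ∏ q ∈ Finset.univ.erase q₁, x q = 1 := by
        rw [Finset.mul_prod_erase _ _ (Finset.mem_univ _), hprodx]
      rw [mul_eq_one_iff_eq_inv.1 h2]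
      apply inv_mem
      apply Subgroup.prod_mem
      intro q hq
      exact hmem q (Finset.ne_of_mem_erase hq)
    have h1 : W ≤ Subgroup.closure (S : Set V) := by
      show Subgroup.closure _ ≤ _
      rw [Subgroup.closure_le]
      rintro _ ⟨q, rfl⟩
      by_cases hq : q = q₁
      · rw [hq]; exact hx1
      · exact hmem q hq
    rw [htop, top_le_iff] at h1
    have h2 := card_closure_le hV S
    rw [h1, Subgroup.card_top] at h2
    have h3 : S.card ≤ 4 := by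
      refine Finset.card_image_le.trans ?_
      rw [Finset.card_erase_of_mem (Finset.mem_erase.2 ⟨hq01, Finset.mem_univ _⟩),
        Finset.card_erase_of_mem (Finset.mem_univ _), Finset.card_univ]
      omega
    calc Nat.card V ≤ _ := h2
      _ ≤ 2 ^ 4 := Nat.pow_le_pow_right (by norm_num) h3
      _ = 16 := by norm_num

end general

variable {F : Type*} [Field F] [Fintype F] [CharP F 2] {V : Type*} [CommGroup V] [Finite V]

theorem pp5 : PP (2 * 2) 5 1 := by
  refine ⟨by norm_num, by norm_num, le_rfl, by norm_num, ?_⟩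
  intro m hm h
  by_contra hcon
  have : m < 4 := by omega
  interval_cases m <;> revert h <;> norm_num

/-- `|V| = 16` for the irreducible modules of `SL₂(4)` with `|V : C_V(a)| = 4` -/
theorem card_V (hF : Fintype.card F = 4) (hV : ∀ v : V, v * v = 1) (ρ : SpecialLinearGroup (Fin 2) F →* MulAut V)
    (hirr : ∀ W : Subgroup V, Inv ρ W → W = ⊥ ∨ W = ⊤) (hC : ∀ v, (∀ g, ρ g v = v) → v = 1)
    (hne : ∃ g v, ρ g v ≠ v) (hidx : ∀ a : SpecialLinearGroup (Fin 2) F, a * a = 1 → a ≠ 1 → (fx ρ a).index = 4) :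
    Nat.card V = 16 := by
  classical
  have hF2 : Fintype.card F = 2 ^ 2 := by rw [hF]; norm_num
  obtain ⟨a, ha, ha1⟩ := exists_ne_one (T1Sl2.SU F)
  obtain ⟨y, hy, hay⟩ := SixY.exists_inverted hF2 pp5 (SU_sq ha) ha1
  rw [pow_one] at hy
  have hodd : Odd (orderOf y) := by rw [hy]; decide
  have hy1 : y ≠ 1 := by rintro rfl; rw [orderOf_one] at hy; omega
  have h1 : 16 ≤ (fx ρ y).index := by
    have := index_ge hV ρ pp5 (y := y) (by rw [hy, pow_one]) (by
      rw [Nat.sub_self, pow_zero, pow_one]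
      exact nontrivial_of (by omega) ρ hne hy1)
    calc 16 = 2 ^ (2 * 2) := by norm_num
      _ ≤ _ := this
  have h2 : (fx ρ y).index ≤ 16 := by
    have := half' ρ hodd hay
    rw [hidx a (SU_sq ha) ha1] at this
    exact this
  have h16 : (fx ρ y).index = 16 := le_antisymm h2 h1
  have hya : fx ρ y ≤ fx ρ a := SixB.fx_le_fx hodd hay (by rw [hidx a (SU_sq ha) ha1]; exact h1)
  have hcm := (fx ρ y).card_mul_index
  rw [h16] at hcm
  suffices hbot : fx ρ y = ⊥ by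
    rw [hbot, Subgroup.card_bot] at hcm
    omega
  by_contra hbot
  obtain ⟨⟨u, hu⟩, hu1'⟩ := Subgroup.ne_bot_iff_exists_ne_one.1 hbot
  have hu1 : u ≠ 1 := fun h => hu1' (Subtype.ext h)
  have hcard2 : 2 ≤ Nat.card (fx ρ y) := by
    by_contra hcon
    have h3 : Nat.card (fx ρ y) ≤ 1 := by omega
    exact hbot ((Subgroup.card_le_one_iff_eq_bot _).1 h3)
  set St := stb ρ u with hSt
  have h5 : 5 ∣ Nat.card St := by
    rw [← hy]
    exact Subgroup.orderOf_dvd_natCard St (show y ∈ St from hu)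
  have h2' : 2 ∣ Nat.card St := by
    have h3 : orderOf a = 2 := orderOf_eq_prime (by rw [pow_two]; exact SU_sq ha) ha1
    have h4 := Subgroup.orderOf_dvd_natCard St (show a ∈ St from hya hu)
    rwa [h3] at h4
  have h10 : 10 ∣ Nat.card St := Nat.Coprime.mul_dvd_of_dvd_of_dvd (by norm_num : Nat.Coprime 5 2) h5 h2'
  have h60 := St.card_mul_index
  have h60' : Nat.card (SpecialLinearGroup (Fin 2) F) = 60 := by
    rw [card_sl2, hF]
  rw [h60'] at h60
  obtain ⟨m, hm⟩ := h10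
  rw [hm] at h60
  have h6 : m * St.index = 6 := by
    have : 10 * (m * St.index) = 10 * 6 := by rw [← mul_assoc, h60]
    omega
  let _ : Fintype (SpecialLinearGroup (Fin 2) F ⧸ St) := Fintype.ofFinite _
  have hcQ : Fintype.card (SpecialLinearGroup (Fin 2) F ⧸ St) = St.index := by
    rw [← Nat.card_eq_fintype_card]; rfl
  let f : SpecialLinearGroup (Fin 2) F ⧸ St → V := Quotient.lift (fun g => ρ g u) (by
    intro a b hab
    have h1 : a⁻¹ * b ∈ St := QuotientGroup.leftRel_apply.1 hab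
    have h3 : ρ (a⁻¹ * b) u = u := h1
    show ρ a u = ρ b u
    conv_lhs => rw [← h3]
    rw [← MulAut.mul_apply, ← map_mul, mul_inv_cancel_left])
  have hf : ∀ g : SpecialLinearGroup (Fin 2) F, f (g : _ ⧸ St) = ρ g u := fun g => rfl
  have hfg : ∀ g q, ρ g (f q) = f (g • q) := by
    intro g q
    obtain ⟨q, rfl⟩ := QuotientGroup.mk_surjective q
    show ρ g (f (q : _ ⧸ St)) = f ((g * q : SpecialLinearGroup (Fin 2) F) : _ ⧸ St)
    rw [hf, hf, map_mul, MulAut.mul_apply]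
  have h7 := card_le_of_family hV ρ hirr f (fun g q => ⟨_, hfg g q⟩) ?_ ?_ ?_
  · have : 2 * 16 ≤ Nat.card (fx ρ y) * 16 := Nat.mul_le_mul_right _ hcard2
    omega
  · by_contra hcon
    push Not at hcon
    apply hu1
    apply hC
    intro g
    have h8 := hcon ((g : SpecialLinearGroup (Fin 2) F) : _ ⧸ St) ((1 : SpecialLinearGroup (Fin 2) F) : _ ⧸ St)
    rw [hf, hf, map_one] at h8
    exact h8
  · apply hC
    intro g
    rw [map_prod]
    exact Fintype.prod_equiv (MulAction.toPerm g) _ _ (fun q => hfg g q)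
  · rw [hcQ]
    have h9 : St.index ∣ 6 := Dvd.intro_left _ h6
    have h10 := Nat.le_of_dvd (by norm_num) h9
    omega

section outer

variable {H : Type*} [Group H] [Finite H]
  {ρ : H →* MulAut V} {T : Sylow 2 H} {K E : Subgroup H} [K.Normal] {R D : Subgroup V} {c d : ℕ}

/-- the fixed vectors of the Sylow 2-subgroups are permuted -/
theorem CS_ac (e : SpecialLinearGroup (Fin 2) F ≃* K) (t : H) (U : Sylow 2 (SpecialLinearGroup (Fin 2) F)) {v : V}
    (hv : v ∈ CS (rr ρ e) (U : Subgroup _)) : ρ t v ∈ CS (rr ρ e) ((ac e t • U : Sylow 2 _) : Subgroup _) := by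
  intro x hx
  have h1 : (ac e t)⁻¹ x ∈ U := by
    have h2 : x ∈ (ac e t) • (U : Subgroup (SpecialLinearGroup (Fin 2) F)) := hx
    rw [Subgroup.mem_pointwise_smul_iff_inv_smul_mem] at h2
    exact h2
  set z := (ac e t)⁻¹ x with hz
  have hxz : x = ac e t z := by rw [hz, ← MulAut.mul_apply, mul_inv_cancel]; rfl
  show ρ (e x : H) (ρ t v) = ρ t v
  have h3 : (e x : H) = t * e z * t⁻¹ := by rw [hxz, e_ac]
  have h4 : ρ (e z : H) v = v := hv z h1
  have h5 : ρ t⁻¹ (ρ t v) = v := by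
    rw [← MulAut.mul_apply, ← map_mul, inv_mul_cancel, map_one]; rfl
  rw [h3, map_mul, map_mul, MulAut.mul_apply, MulAut.mul_apply, h5, h4]

theorem card_V' (s : Hyp ρ T K E R D c d F) (e : SpecialLinearGroup (Fin 2) F ≃* K) (hF : Fintype.card F = 4) :
    Nat.card V = 16 := by
  obtain ⟨hbot, -, hirr⟩ := s.irr e
  apply card_V hF s.sq (rr ρ e)
  · intro W hW
    apply hirr
    intro k hk w hw
    have := hW (e.symm ⟨k, hk⟩) w hw
    rwa [Hyp.rr_apply, e.apply_symm_apply] at this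
  · intro v hv
    rw [← Subgroup.mem_bot, ← hbot]
    intro k hk
    have := hv (e.symm ⟨k, hk⟩)
    rwa [Hyp.rr_apply, e.apply_symm_apply] at this
  · exact WO.orr_ne s.four e s.fw
  · intro a ha ha1
    rw [fx_rr, ← hF]
    refine s.index_K e (e a).2 ?_ ?_
    · rw [← Subgroup.coe_mul, ← map_mul, ha, map_one]; rfl
    · intro h
      apply ha1
      have h1 : e a = 1 := Subtype.ext h
      exact (map_eq_one_iff e e.injective).1 h1

/-- `|C_V(U)| = 2` -/
theorem card_CS (s : Hyp ρ T K E R D c d F) (e : SpecialLinearGroup (Fin 2) F ≃* K) (hF : Fintype.card F = 4)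
    (U : Sylow 2 (SpecialLinearGroup (Fin 2) F)) : Nat.card (CS (rr ρ e) (U : Subgroup _)) = 2 := by
  have h16 := card_V' s e hF
  have hnt : Nontrivial V := Finite.one_lt_card_iff_nontrivial.1 (by omega)
  have hne := CS_ne_bot (rr ρ e) s.sq U
  set A : Subgroup H := (U : Subgroup (SpecialLinearGroup (Fin 2) F)).map (K.subtype.comp e.toMonoidHom) with hA
  have hCS : CS ρ A = CS (rr ρ e) (U : Subgroup _) := by
    ext v
    constructor
    · intro hv x hx
      exact hv _ ⟨x, hx, rfl⟩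
    · rintro hv _ ⟨x, hx, rfl⟩
      exact hv x hx
  have hcA : Nat.card A = 4 := by
    have hinj : Function.Injective (K.subtype.comp e.toMonoidHom) := fun x y h => e.injective (Subtype.ext h)
    rw [Subgroup.card_map_of_injective hinj, ← hF]
    exact card_sylow U
  have h1 := s.nff A (by
    rintro _ ⟨x, hx, rfl⟩
    rw [← map_mul, sylow_elem U x hx, map_one]) (by
    intro h
    rw [h, Subgroup.card_bot] at hcA
    omega)
  rw [hcA, hCS] at h1
  have h2 := (CS (rr ρ e) (U : Subgroup _)).card_mul_index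
  rw [h16] at h2
  have h3 : Nat.card (CS (rr ρ e) (U : Subgroup _)) ≠ 1 := fun h => hne (Subgroup.card_eq_one.1 h)
  have h4 : 0 < Nat.card (CS (rr ρ e) (U : Subgroup _)) := Nat.card_pos
  obtain ⟨n, hn⟩ : ∃ n, Nat.card (CS (rr ρ e) (U : Subgroup _)) = n := ⟨_, rfl⟩
  obtain ⟨m, hm⟩ : ∃ m, (CS (rr ρ e) (U : Subgroup _)).index = m := ⟨_, rfl⟩
  rw [hn] at h2 h3 h4 ⊢
  rw [hm] at h2 h1
  by_contra hcon
  have h5 : 3 ≤ n := by omega
  have h6 : 3 * 5 ≤ n * m := Nat.mul_le_mul h5 h1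
  have h7 : n ≤ 3 := by
    by_contra h8
    have : 4 * 5 ≤ n * m := Nat.mul_le_mul (by omega) h1
    omega
  have h8 : n = 3 := by omega
  rw [h8] at h2
  omega

/-- `|V : C_V(t)| ≤ 2` for `t ∈ E ∖ K` -/
theorem index_le_two (s : Hyp ρ T K E R D c d F) (e : SpecialLinearGroup (Fin 2) F ≃* K) (hF : Fintype.card F = 4)
    {t : H} (ht : t ∈ E) (htK : t ∉ K) : (fx ρ t).index ≤ 2 := by
  classical
  have hc := card_CS s e hF
  have hz : ∀ U : Sylow 2 (SpecialLinearGroup (Fin 2) F), ∃ z ∈ CS (rr ρ e) (U : Subgroup _), z ≠ 1 ∧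
      ∀ x ∈ CS (rr ρ e) (U : Subgroup _), x ≠ 1 → x = z := by
    intro U
    obtain ⟨a, b, hab, hab'⟩ := Nat.card_eq_two_iff.1 (hc U)
    have hmem : ∀ x : CS (rr ρ e) (U : Subgroup _), x = a ∨ x = b := by
      intro x
      have : x ∈ ({a, b} : Set _) := by rw [hab']; trivial
      simpa using this
    rcases hmem 1 with h1 | h1
    · refine ⟨b, b.2, fun h => hab ?_, fun x hx hx1 => ?_⟩
      · rw [← h1]; exact Subtype.ext h.symm
      · rcases hmem ⟨x, hx⟩ with h2 | h2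
        · exfalso; apply hx1
          rw [← h1] at h2
          exact congrArg Subtype.val h2
        · exact congrArg Subtype.val h2
    · refine ⟨a, a.2, fun h => hab ?_, fun x hx hx1 => ?_⟩
      · rw [← h1]; exact Subtype.ext h
      · rcases hmem ⟨x, hx⟩ with h2 | h2
        · exact congrArg Subtype.val h2
        · exfalso; apply hx1
          rw [← h1] at h2
          exact congrArg Subtype.val h2
  choose z hz1 hz2 hz3 using hz
  have hact : ∀ (h : H) (U : Sylow 2 (SpecialLinearGroup (Fin 2) F)), ρ h (z U) = z (ac e h • U) := by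
    intro h U
    apply hz3 _ _ (CS_ac e h U (hz1 U))
    intro h1
    apply hz2 U
    apply (ρ h).injective
    rw [h1, map_one]
  -- the span of the fixed vectors
  have hspan : Subgroup.closure (Set.range z) = ⊤ := by
    have hinv : ∀ k ∈ K, ∀ w ∈ Subgroup.closure (Set.range z), ρ k w ∈ Subgroup.closure (Set.range z) := by
      intro k _
      have h1 : Subgroup.closure (Set.range z) ≤ (Subgroup.closure (Set.range z)).comap (ρ k : V →* V) := by
        rw [Subgroup.closure_le]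
        rintro _ ⟨U, rfl⟩
        show ρ k (z U) ∈ Subgroup.closure (Set.range z)
        rw [hact]
        exact Subgroup.subset_closure ⟨_, rfl⟩
      exact fun w hw => h1 hw
    rcases (s.irr e).2.2 _ hinv with h1 | h1
    · exfalso
      apply hz2 (T1Sl2.SU F)
      have h2 : z (T1Sl2.SU F) ∈ Subgroup.closure (Set.range z) := Subgroup.subset_closure ⟨_, rfl⟩
      rwa [h1, Subgroup.mem_bot] at h2
    · exact h1
  -- the standard form of `t`
  set σ := typ (ac e t) with hσ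
  have hσ1 : σ ≠ 1 := WO.otyp_ne e s.fw ht htK
  obtain ⟨g, hg⟩ := L2Model.exists_std (WO.oac_sq e s.fw ht) hσ1
  rw [← hσ] at hg
  have hsm : ∀ i, ac e t • g • syl F i = g • fieldAut σ • syl F i := by
    intro i
    have h1 : ac e t • g • syl F i = (MulAut.conj g * fieldAut σ * (MulAut.conj g)⁻¹) • MulAut.conj g • syl F i := by
      rw [← hg]; rfl
    rw [h1, smul_smul, mul_assoc, inv_mul_cancel, mul_one, mul_smul]
    rfl
  set x : Option F → V := fun i => z (g • syl F i) with hx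
  have hx0 : ρ t (x none) = x none := by
    show ρ t (z _) = z _
    rw [hact, hsm]
    congr 2
    exact fieldAut_SU σ
  have hxs : ∀ r : F, ρ t (x (some r)) = x (some (σ r)) := by
    intro r
    show ρ t (z _) = z _
    rw [hact, hsm, fieldAut_syl]
  obtain ⟨r, hr⟩ : ∃ r, σ r ≠ r := by
    by_contra hcon
    push Not at hcon
    exact hσ1 (RingEquiv.ext hcon)
  have hr0 : r ≠ 0 := by rintro rfl; exact hr (map_zero σ)
  have hr1 : r ≠ 1 := by rintro rfl; exact hr (map_one σ)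
  have hsr0 : σ r ≠ 0 := fun h => hr0 (by rwa [map_eq_zero_iff σ σ.injective] at h)
  have hsr1 : σ r ≠ 1 := fun h => hr1 (by rwa [map_eq_one_iff σ σ.injective] at h)
  have huniv : ∀ y : F, y = 0 ∨ y = 1 ∨ y = r ∨ y = σ r := by
    have h1 : ({0, 1, r, σ r} : Finset F) = Finset.univ := by
      rw [← Finset.card_eq_iff_eq_univ, hF, Finset.card_insert_of_notMem, Finset.card_insert_of_notMem,
        Finset.card_insert_of_notMem, Finset.card_singleton]
      · simpa using hr.symm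
      · simp only [Finset.mem_insert, Finset.mem_singleton, not_or]
        exact ⟨hr1.symm, hsr1.symm⟩
      · simp only [Finset.mem_insert, Finset.mem_singleton, not_or]
        exact ⟨zero_ne_one, hr0.symm, hsr0.symm⟩
    intro y
    have : y ∈ ({0, 1, r, σ r} : Finset F) := by rw [h1]; exact Finset.mem_univ _
    simpa using this
  set w := x (some r) with hw
  have htt : ∀ v : V, ρ t (ρ t v) = v := by
    intro v
    rw [← MulAut.mul_apply, ← map_mul, s.cfg.sq t ht, map_one]; rfl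
  have hwt : ρ t w ∈ fx ρ t ⊔ Subgroup.zpowers w := by
    have h1 : ρ t w * w ∈ fx ρ t := by
      rw [mem_fx, map_mul, htt, mul_comm]
    have h2 : ρ t w = (ρ t w * w) * w := by rw [mul_assoc, s.sq, mul_one]
    rw [h2]
    exact mul_mem (Subgroup.mem_sup_left h1) (Subgroup.mem_sup_right (Subgroup.mem_zpowers w))
  have htop : fx ρ t ⊔ Subgroup.zpowers w = ⊤ := by
    rw [eq_top_iff, ← hspan, Subgroup.closure_le]
    rintro _ ⟨U, rfl⟩
    obtain ⟨i, hi⟩ := syl_surjective (g⁻¹ • U)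
    have hU : U = g • syl F i := by rw [hi, smul_inv_smul]
    rw [hU]
    show x i ∈ _
    cases i with
    | none => exact Subgroup.mem_sup_left hx0
    | some y =>
      rcases huniv y with rfl | rfl | rfl | rfl
      · apply Subgroup.mem_sup_left
        rw [mem_fx, hxs, map_zero]
      · apply Subgroup.mem_sup_left
        rw [mem_fx, hxs, map_one]
      · exact Subgroup.mem_sup_right (Subgroup.mem_zpowers w)
      · rw [← hxs]
        exact hwt
  have h1 : (fx ρ t).index = (fx ρ t).relIndex (Subgroup.zpowers w) := by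
    rw [← Subgroup.relIndex_top_right, ← htop, sup_comm, Subgroup.relIndex_sup_right]
  rw [h1]
  have h4 : Nat.card (Subgroup.zpowers w) ∣ 2 := by
    rw [Nat.card_zpowers]
    exact orderOf_dvd_of_pow_eq_one (by rw [pow_two, s.sq])
  exact (Nat.le_of_dvd Nat.card_pos (Subgroup.relIndex_dvd_card _ _)).trans (Nat.le_of_dvd (by norm_num) h4)

/-- **(6.2)** -/
theorem E_le (s : Hyp ρ T K E R D c d F) (e : SpecialLinearGroup (Fin 2) F ≃* K) : E ≤ K := by
  by_contra hEK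
  have hF := WO.ocard_eq s.four e s.fw s.sq hEK
  obtain ⟨⟨a, ha, haK, ha1⟩, -⟩ := s.exists_a e
  obtain ⟨t, ht, htK⟩ := SetLike.not_le_iff_exists.1 hEK
  have hatK : a * t ∉ K := by
    intro h
    apply htK
    have := mul_mem (inv_mem haK) h
    rwa [inv_mul_cancel_left] at this
  have ht1 : t ≠ 1 := by rintro rfl; exact htK (one_mem K)
  have hat1 : a * t ≠ 1 := fun h => hatK (by rw [h]; exact one_mem K)
  have hD2 : 2 ≤ D.index := by
    rw [s.cfg.index]
    calc 2 = 2 ^ 1 := by norm_num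
      _ ≤ 2 ^ d := Nat.pow_le_pow_right (by norm_num) s.cfg.pos
  have h1 : fx ρ t = D := eq_of_index_le (s.cfg.fx_le ht ht1) ((index_le_two s e hF ht htK).trans hD2)
  have h2 : fx ρ (a * t) = D := eq_of_index_le (s.cfg.fx_le (mul_mem ha ht) hat1)
    ((index_le_two s e hF (mul_mem ha ht) hatK).trans hD2)
  have h3 : D ≤ fx ρ a := by
    intro v hv
    have h4 : v ∈ fx ρ (a * t) := by rw [h2]; exact hv
    have h5 : v ∈ fx ρ t := by rw [h1]; exact hv
    have h6 := fx_mul ρ h4 (fx_inv ρ h5)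
    rwa [mul_inv_cancel_right] at h6
  have h4 := index_le_of_le h3
  rw [← h1] at h4
  have h5 := index_le_two s e hF ht htK
  have h6 := s.index_K e haK (s.cfg.sq a ha) ha1
  omega

end outer

end Cfsg.Agent.OddCyclic.ClaimC.SixO
end

-- part: OddCyclic/ClaimC/Six
section
set_option linter.all false

/-!
# CLAIM C, section 6: `K ≅ SL₂(q)`, the output (α')
-/

set_option autoImplicit false
set_option linter.unusedSectionVars false

namespace Cfsg.Agent.OddCyclic.ClaimC.Six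

open Matrix Cfsg.Agent.OddCyclic.EmpC Cfsg.Agent.OddCyclic.ClaimC.Alpha

/-- **CLAIM C, section 6** -/
theorem main {H : Type*} [Group H] [Finite H] {V : Type*} [CommGroup V] [Finite V]
    {F : Type*} [Field F] [Fintype F] [CharP F 2]
    {ρ : H →* MulAut V} {T : Sylow 2 H} {K E : Subgroup H} [K.Normal] {R D : Subgroup V} {c d : ℕ}
    (h : Cfg ρ E R D c d) (hB : Bad ρ T) (hN : NFF ρ) (hV : ∀ v : V, v * v = 1) (hρ : Function.Injective ρ)
    (h4 : 4 ≤ Fintype.card F) (e : SpecialLinearGroup (Fin 2) F ≃* K)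
    (faith : ∀ a ∈ E, (∀ l ∈ K, a * l = l * a) → a = 1)
    (inn : ∀ a ∈ E, ∀ g ∈ K, (∀ l ∈ K, a * l * a⁻¹ = g * l * g⁻¹) → a ∈ K) :
    ∃ T' : Subgroup H, Alpha ρ K E T' R D d ∧ Fintype.card F = (2 ^ d) ^ 2 := by
  have s : SixA.Hyp ρ T K E R D c d F := ⟨h, hB, hN, hV, hρ, h4, faith, inn⟩
  exact SixE.alpha s e (SixO.E_le s e)

end Cfsg.Agent.OddCyclic.ClaimC.Six
end

-- part: OddCyclic/Bc/Defs
section
set_option linter.all false
open scoped Cfsg.Agent.FastGrp

/-!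
# S0342, leaf [Bc], type (b): the module frame (blueprints/S0342-Bc-helper108.md)

`H = L/C_G(V)` acts faithfully on `V = ⟨Ω₁Z(S)^{N_G(J)}⟩`; `T`, `O`, `ξ`, `E`, `H₁` are the images of `T`, `O₂(P₁)`, `ξ`,
`(A ∩ O₂(P))^x` and the subgroup `V ∩ V^x = C_V(x)`.

* `MF` : the frame, `|V : H₁| ≤ 2|E|`, `E` centralises `H₁`, (P*) = `three`, (G) = `gen`, (CK) = `ck`;
* `NF` : `MF` and no FF-offenders.
-/

set_option autoImplicit false
set_option linter.unusedSectionVars false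

namespace Cfsg.Agent.OddCyclic.Bc.Defs

open Subgroup
open Cfsg.Agent.OddCyclic.T1Defs Cfsg.Agent.OddCyclic.T1Module Cfsg.Agent.OddCyclic.FFBasic
open Cfsg.Agent.OddCyclic.PumpMain (KZero)

variable {H : Type*} [Group H] {V : Type*} [CommGroup V]

/-- the module frame -/
structure MF (ρ : H →* MulAut V) (S T O E : Subgroup H) (ξ : H) (H₁ : Subgroup V) : Prop where
  cyc : OddCyc H
  simple : ∀ J : Subgroup H, IsSimpleGroup J → (∃ x y : J, x * y ≠ y * x) → KZero J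
  core : ∀ D : Subgroup H, D.Normal → IsPGroup 2 D → D = ⊥
  inj : Function.Injective ρ
  sq : ∀ v : V, v * v = 1
  /-- `S` is a Sylow 2-subgroup of `H` -/
  two : IsPGroup 2 S
  index : ¬ 2 ∣ S.index
  T_le : T ≤ S
  O_le : O ≤ T
  T_norm : T ≤ normalizer (O : Set H)
  ξ_norm : ξ ∈ normalizer (O : Set H)
  ξ3 : orderOf ξ = 3
  rel : O.relIndex T = 2
  inv : ∀ t ∈ T, t ∉ O → t * ξ * t⁻¹ * ξ ∈ O
  E_le : E ≤ T
  E_sq : ∀ e ∈ E, e * e = 1
  E_not : ¬ E ≤ O
  H₁_le : H₁ ≤ CS ρ E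
  H₁_T : ∀ t ∈ T, ∀ v ∈ H₁, ρ t v ∈ H₁
  ind : H₁.index ≤ 2 * Nat.card E
  /-- (P*) -/
  three : ∀ y : H, orderOf y = 3 → ∀ F : Subgroup V, F ≤ H₁ → (∀ v ∈ F, ρ y v ∈ F) → ∀ v ∈ F, ρ y v = v
  /-- `V = ⟨C_V(S)^H⟩` -/
  gen : ∀ W : Subgroup V, CS ρ S ≤ W → (∀ h : H, ∀ w ∈ W, ρ h w ∈ W) → W = ⊤
  /-- (CK) -/
  ck : ∀ K : Subgroup H, K.Normal → IsSimpleGroup K → ξ ∈ K → CS ρ K = ⊥

/-- the module frame without FF-offenders -/
structure NF (ρ : H →* MulAut V) (S T O E : Subgroup H) (ξ : H) (H₁ : Subgroup V) : Prop extends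
    MF ρ S T O E ξ H₁ where
  nff : ∀ A : Subgroup H, A ≠ ⊥ → (∀ a ∈ A, a * a = 1) → 2 * Nat.card A ≤ (CS ρ A).index

variable {ρ : H →* MulAut V} {S T O E : Subgroup H} {ξ : H} {H₁ : Subgroup V}

theorem act_mul (ρ : H →* MulAut V) (g h : H) (v : V) : ρ (g * h) v = ρ g (ρ h v) := by
  rw [map_mul, MulAut.mul_apply]

theorem act_comm {g h : H} (hc : g * h = h * g) (v : V) : ρ g (ρ h v) = ρ h (ρ g v) := by
  rw [← act_mul, hc, act_mul]

namespace MF

theorem E_ne (h : MF ρ S T O E ξ H₁) : E ≠ ⊥ := fun he => h.E_not (by rw [he]; exact bot_le)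

theorem E_comm (h : MF ρ S T O E ξ H₁) {a b : H} (ha : a ∈ E) (hb : b ∈ E) : a * b = b * a := by
  have h1 := h.E_sq _ (mul_mem ha hb)
  have h2 := h.E_sq a ha
  have h3 := h.E_sq b hb
  have h4 : a = a⁻¹ := eq_inv_of_mul_eq_one_left h2
  have h5 : b = b⁻¹ := eq_inv_of_mul_eq_one_left h3
  have h6 : a * b = (a * b)⁻¹ := eq_inv_of_mul_eq_one_left h1
  rw [mul_inv_rev, ← h4, ← h5] at h6
  exact h6

theorem exists_e (h : MF ρ S T O E ξ H₁) : ∃ e ∈ E, e ∉ O := by
  by_contra hcon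
  push Not at hcon
  exact h.E_not hcon

end MF

namespace NF

theorem H₁_eq [Finite V] (h : NF ρ S T O E ξ H₁) : H₁ = CS ρ E := by
  refine le_antisymm h.H₁_le ?_
  have h1 := h.nff E h.E_ne h.E_sq
  have h2 := h.ind
  have h3 : (CS ρ E).index = H₁.index := by
    apply Nat.dvd_antisymm (index_dvd_of_le h.H₁_le)
    rw [le_antisymm (h2.trans h1) ?_]
    have h4 := Nat.le_of_dvd (Nat.pos_of_ne_zero H₁.index_ne_zero_of_finite) (index_dvd_of_le h.H₁_le)
    exact h4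
  have h5 := H₁.card_mul_index
  have h6 := (CS ρ E).card_mul_index
  rw [← h6, h3] at h5
  have h7 : Nat.card H₁ = Nat.card (CS ρ E) :=
    Nat.eq_of_mul_eq_mul_right (Nat.pos_of_ne_zero H₁.index_ne_zero_of_finite) h5
  exact (Subgroup.eq_of_le_of_card_ge h.H₁_le h7.ge).ge

theorem ind_eq [Finite V] (h : NF ρ S T O E ξ H₁) : (CS ρ E).index = 2 * Nat.card E := by
  refine le_antisymm ?_ (h.nff E h.E_ne h.E_sq)
  rw [← h.H₁_eq]
  exact h.ind

end NF

end Cfsg.Agent.OddCyclic.Bc.Defs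
end

-- part: OddCyclic/Bc/NF
section
set_option linter.all false
open scoped Cfsg.Agent.FastGrp

/-!
# S0342, leaf [Bc], section 1 of blueprints/S0342-Bc-helper108.md: the NFF theorem, setting

`Nff ρ S O T E x` : `H` (odd Sylow subgroups cyclic, simple subgroups in `KZero`, `O₂(H) = 1`) acts faithfully on the
elementary abelian 2-group `V`, no `1 ≠ A ≤ H` elementary abelian satisfies `|V : C_V(A)| ≤ |A|`, `S` is a Sylow
2-subgroup, `V = ⟨C_V(S)^H⟩`, `O ≤ T ≤ S`, `|T : O| = 2`, `x` of order 3 normalises `O` and is inverted mod `O` by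
`T - O`, `E ≤ T` is elementary abelian, `E ≰ O`, `|V : C_V(E)| = 2 |E|`, and elements of order 3 normalising
`F ≤ C_V(E)` centralise `F`; if `x ∈ K ⊴ H` is simple then `C_V(K) = 1`.

* `OutA`, `OutB` : the two outcomes of (1.3);
* `Nff.no_three` (N1): no element of order 3 centralises `E`;
* `Nff.exists_inv` (inv): every `e ∈ E - O` inverts an element of order 3.
-/

set_option autoImplicit false
set_option linter.unusedSectionVars false

namespace Cfsg.Agent.OddCyclic.Bc.NF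

open Subgroup Cfsg Cfsg.Agent.OddCyclic.T1Defs Cfsg.Agent.OddCyclic.T1Module Cfsg.Agent.OddCyclic.FFBasic
  Cfsg.Agent.OddCyclic.FFRed Cfsg.Agent.OddCyclic.CompBasic Cfsg.Agent.OddCyclic.FFSl2
open Cfsg.Agent.OddCyclic.PumpMain (KZero)

variable {H V : Type*} [Group H] [CommGroup V] {ρ : H →* MulAut V} {S O T E : Subgroup H} {x : H}

/-- the setting of the NFF theorem, without `ck` -/
structure Nff0 (ρ : H →* MulAut V) (S O T E : Subgroup H) (x : H) : Prop where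
  cyc : OddCyc H
  kz : ∀ J : Subgroup H, IsSimpleGroup J → (∃ a b : J, a * b ≠ b * a) → KZero J
  core : pCore 2 H = ⊥
  sq : ∀ v : V, v * v = 1
  inj : Function.Injective ρ
  S_two : IsPGroup 2 S
  S_syl : ¬ 2 ∣ S.index
  gen : ∀ W : Subgroup V, CS ρ S ≤ W → (∀ h, ∀ w ∈ W, ρ h w ∈ W) → W = ⊤
  O_le : O ≤ T
  T_le : T ≤ S
  rel : O.relIndex T = 2
  x3 : orderOf x = 3
  x_norm : x ∈ normalizer (O : Set H)
  inv : ∀ t ∈ T, t ∉ O → t * x * t⁻¹ * x ∈ O
  E_le : E ≤ T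
  E_not : ¬ E ≤ O
  E_sq : ∀ a ∈ E, a * a = 1
  ind : (CS ρ E).index = 2 * Nat.card E
  nff : ∀ A : Subgroup H, A ≠ ⊥ → (∀ a ∈ A, a * a = 1) → Nat.card A < (CS ρ A).index
  three : ∀ y : H, orderOf y = 3 → ∀ F : Subgroup V, F ≤ CS ρ E → (∀ v ∈ F, ρ y v ∈ F) → ∀ v ∈ F, ρ y v = v

/-- the setting of the NFF theorem -/
structure Nff (ρ : H →* MulAut V) (S O T E : Subgroup H) (x : H) : Prop extends Nff0 ρ S O T E x where
  ck : ∀ K : Subgroup H, K.Normal → IsSimpleGroup K → x ∈ K → CS ρ K = ⊥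

/-- outcome (A) of (1.3), with (1.4) -/
structure OutA (ρ : H →* MulAut V) (E : Subgroup H) (x e : H) : Prop where
  norm : (zpowers x).Normal
  E_eq : ∀ a, a ∈ E ↔ a = 1 ∨ a = e
  ne : e ≠ 1
  sq : e * e = 1
  inv : e * x * e⁻¹ = x⁻¹
  ind : (fx ρ e).index = 4
  idx : (fx ρ x).index = 4 ∨ (fx ρ x).index = 16
  dec : ∃ R : Subgroup H, R.Normal ∧ IsPGroup 3 R ∧ IsCyclic R ∧ x ∈ R ∧ (∀ r ∈ R, e * r * e⁻¹ = r⁻¹) ∧
    ∀ h : H, ∃ o ∈ R, ∃ c : H, c * e = e * c ∧ h = o * c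

/-- outcome (B) of (1.3) -/
structure OutB (E : Subgroup H) (x : H) (K : Subgroup H) : Prop where
  norm : K.Normal
  simple : IsSimpleGroup K
  kz : KZero K
  nsz : ¬ Cfsg.Lie.IsoSuzuki K
  mem : x ∈ K
  /-- `E` is faithful on `K` -/
  faith : ∀ a ∈ E, (∀ k ∈ K, a * k = k * a) → a = 1
  /-- `E ∩ K C_H(K) = E ∩ K` -/
  inn : ∀ a ∈ E, ∀ g ∈ K, (∀ k ∈ K, a * k * a⁻¹ = g * k * g⁻¹) → a = g

namespace Nff0

variable (h : Nff0 ρ S O T E x)

include h

theorem ne {k : H} (hk : k ≠ 1) : ∃ v, ρ k v ≠ v := by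
  by_contra hcon
  push Not at hcon
  apply hk
  apply h.inj
  rw [map_one]
  ext v
  exact hcon v

theorem T_two : IsPGroup 2 T := h.S_two.to_le h.T_le

theorem O_two : IsPGroup 2 O := h.T_two.to_le h.O_le

theorem x_ne : x ≠ 1 := by
  intro h1
  have := h.x3
  rw [h1, orderOf_one] at this
  omega

theorem comm {a b : H} (ha : a ∈ E) (hb : b ∈ E) : a * b = b * a := comm_of_sq h.E_sq ha hb

/-- `|V : C_V(A)| ≥ 2 |A|` -/
theorem nff2 [Finite V] {A : Subgroup H} (hA : A ≠ ⊥) (h2 : ∀ a ∈ A, a * a = 1) [Finite H] :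
    2 * Nat.card A ≤ (CS ρ A).index := by
  have h1 := h.nff A hA h2
  obtain ⟨m, hm⟩ := index_pow h.sq (CS ρ A)
  have hp : IsPGroup 2 A := fun b => ⟨1, by rw [pow_one, pow_two]; exact Subtype.ext (h2 b b.2)⟩
  have : Fact (Nat.Prime 2) := ⟨Nat.prime_two⟩
  obtain ⟨n, hn⟩ := (IsPGroup.iff_card (p := 2)).1 hp
  rw [hm, hn] at h1 ⊢
  have h3 : n < m := (Nat.pow_lt_pow_iff_right (by norm_num)).1 h1
  calc 2 * 2 ^ n = 2 ^ (n + 1) := by ring
    _ ≤ 2 ^ m := Nat.pow_le_pow_right (by norm_num) h3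

/-- (N2): elements of order 3 in `N_H(E)` centralise `C_V(E)` -/
theorem norm_three {y : H} (hy : orderOf y = 3) (hn : y ∈ normalizer (E : Set H)) {v : V} (hv : v ∈ CS ρ E) :
    ρ y v = v :=
  h.three y hy _ le_rfl (fun _ hw => CS_stable hn hw) v hv

/-- (N1): no element of order 3 centralises `E` -/
theorem no_three [Finite V] {y : H} (hy : orderOf y = 3) (hc : ∀ a ∈ E, a * y = y * a) : False := by
  have hy1 : y ≠ 1 := by
    rintro rfl
    rw [orderOf_one] at hy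
    omega
  have hp : IsPGroup 2 E := fun b => ⟨1, by rw [pow_one, pow_two]; exact Subtype.ext (h.E_sq b b.2)⟩
  obtain ⟨v, hv, hyv⟩ := axb (ρ := ρ) h.sq hp (by rw [hy]; decide) hc (h.ne hy1)
  apply hyv
  refine h.norm_three hy ?_ hv
  refine Subgroup.centralizer_le_normalizer _ ?_
  rw [Subgroup.mem_centralizer_iff]
  intro b hb
  exact hc b hb

theorem exists_e : ∃ e ∈ E, e ∉ O := by
  by_contra hcon
  push Not at hcon
  exact h.E_not hcon

theorem x_notMem : x ∉ O := by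
  intro hx
  obtain ⟨k, hk⟩ := h.O_two ⟨x, hx⟩
  have h1 : x ^ 2 ^ k = 1 := congrArg Subtype.val hk
  have h2 : orderOf x ∣ 2 ^ k := orderOf_dvd_of_pow_eq_one h1
  rw [h.x3] at h2
  have h3 : (3 : ℕ) ∣ 2 := Nat.prime_three.dvd_of_dvd_pow h2
  omega

/-- (inv): `e ∈ E - O` inverts an element of order 3 of `O⟨x⟩` -/
theorem exists_inv {e : H} (he : e ∈ E) (heO : e ∉ O) :
    ∃ y ∈ O ⊔ zpowers x, orderOf y = 3 ∧ e * y * e⁻¹ = y⁻¹ := by
  have hee := h.E_sq e he
  have he1 : e⁻¹ = e := inv_eq_of_mul_eq_one_left hee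
  have ho := h.inv e (h.E_le he) heO
  set o := e * x * e⁻¹ * x with hodef
  have hx3 : x * x * x = 1 := by
    have := pow_orderOf_eq_one x
    rwa [h.x3, pow_succ, pow_two] at this
  have hxi : x⁻¹ = x * x := inv_eq_of_mul_eq_one_left (by rw [hx3])
  set c := e * x * e⁻¹ * x⁻¹ with hc
  have hco : c = o * x := by
    rw [hc, hodef, hxi]; group
  have hcinv : e * c * e⁻¹ = c⁻¹ := by
    have h1 : e * c * e⁻¹ = (e * e) * x * e⁻¹ * x⁻¹ * e⁻¹ := by rw [hc]; group
    have h2 : c⁻¹ = x * e * x⁻¹ * e⁻¹ := by rw [hc]; group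
    rw [h1, h2, hee, he1, one_mul]
  have hxn := mem_normalizer_iff.1 h.x_norm
  have hc3 : c ^ 3 ∈ O := by
    have h1 : c ^ 3 = o * (x * o * x⁻¹) * (x * (x * o * x⁻¹) * x⁻¹) * (x * x * x) := by
      rw [hco, pow_succ, pow_two]; group
    rw [h1, hx3, mul_one]
    exact mul_mem (mul_mem ho ((hxn o).1 ho)) ((hxn _).1 ((hxn o).1 ho))
  have hcO : c ∉ O := by
    intro h1
    apply h.x_notMem
    have h2 := mul_mem (inv_mem ho) h1
    rwa [hco, inv_mul_cancel_left] at h2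
  obtain ⟨k, hk⟩ := h.O_two ⟨c ^ 3, hc3⟩
  have hk' : (c ^ 3) ^ 2 ^ k = 1 := congrArg Subtype.val hk
  refine ⟨c ^ 2 ^ k, ?_, ?_, ?_⟩
  · apply pow_mem
    rw [hco]
    exact mul_mem (le_sup_left (a := O) ho) (le_sup_right (a := O) (mem_zpowers x))
  · apply orderOf_eq_prime
    · rw [← pow_mul, mul_comm, pow_mul]
      exact hk'
    · intro h1
      apply hcO
      have h2 : orderOf c ∣ 2 ^ k := orderOf_dvd_of_pow_eq_one h1
      have h3 : (orderOf c).Coprime 3 := Nat.Coprime.coprime_dvd_left h2 (by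
        apply Nat.Coprime.pow_left; norm_num)
      obtain ⟨m, hm⟩ := exists_pow_eq_self_of_coprime h3.symm
      rw [← hm]
      exact pow_mem hc3 m
  · rw [← conj_pow, hcinv, inv_pow]

end Nff0

end Cfsg.Agent.OddCyclic.Bc.NF
end

-- part: OddCyclic/Bc/XiNorm
section
prune_inst 0x2000000200120000000012000020101000000000240000512005020806d1600002210048000d001802a0800000000001180040001000000000000000000000802252000374090426000f803003180c00000000000000000000000000041000000000000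
set_option linter.all false
open scoped Cfsg.Agent.FastGrp

/-!
# S0342, leaf [Bc], section 2 of blueprints/S0342-Bc-helper108.md: `⟨ξ⟩` is normal, module half

`H` acts on the elementary abelian 2-group `V`, `ξ` of order 3, `⟨ξ⟩ ⊴ H`, `V₁ = [V, ξ] = (cm ρ ξ).range`, `V₂ = C_V(ξ)`.

* `disj`, `sup`, `inv_V₁`, `inv_V₂` : `V = V₁ × V₂`, both `H`-invariant; `pr` : the projection onto `V₁`;
* `act` : `|V₁| = 4` ⇒ every `g ∈ H` acts on `V₁` as an element of `T⟨ξ⟩`;
* `actA` : the same in case `OutA`;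
* `six` : `V₂ = 1`, `|V₁| = 4` ⇒ `|V| = 4`, `|H| = 6`;
* `d4` : `V₂ = 1`, `OutA` ⇒ `|V| = 16`, `|H| = 6`, `S = ⟨e⟩`, `|C_V(S)| = 4`, `C_V(S) ∩ C_V(S)^ξ = 1`.
-/

set_option autoImplicit false
set_option linter.unusedSectionVars false

namespace Cfsg.Agent.OddCyclic.Bc.XiNorm

open Subgroup Cfsg Cfsg.Agent.OddCyclic.T1Defs Cfsg.Agent.OddCyclic.T1Module Cfsg.Agent.OddCyclic.FFBasic
  Cfsg.Agent.OddCyclic.FFRed Cfsg.Agent.OddCyclic.CompBasic Cfsg.Agent.OddCyclic.Bc.Defs Cfsg.Agent.OddCyclic.Bc.NF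

variable {H V : Type*} [Group H] [CommGroup V] {ρ : H →* MulAut V} {ξ : H}

/-! ### the decomposition `V = [V, ξ] × C_V(ξ)` -/

theorem odd3 (h3 : orderOf ξ = 3) : Odd (orderOf ξ) := by rw [h3]; decide

theorem conj_cases (h3 : orderOf ξ = 3) (hn : (zpowers ξ).Normal) (g : H) :
    g * ξ * g⁻¹ = ξ ∨ g * ξ * g⁻¹ = ξ⁻¹ := by
  obtain ⟨k, hk⟩ := hn.conj_mem ξ (mem_zpowers ξ) g
  have hk' : ξ ^ k = g * ξ * g⁻¹ := hk
  have h1 : ξ ^ (k % 3) = ξ ^ k := by
    have := zpow_mod_orderOf ξ k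
    rwa [h3] at this
  have h2 : k % 3 = 0 ∨ k % 3 = 1 ∨ k % 3 = 2 := by omega
  rw [← hk', ← h1]
  rcases h2 with h2 | h2 | h2
  · exfalso
    rw [h2, zpow_zero, hk'] at h1
    have h4 : ξ = 1 := by
      have : g⁻¹ * (g * ξ * g⁻¹) * g = ξ := by group
      rw [← this, ← h1]; group
    rw [h4, orderOf_one] at h3
    omega
  · left; rw [h2, zpow_one]
  · right
    rw [h2, eq_inv_iff_mul_eq_one]
    have : (ξ : H) ^ 3 = 1 := by rw [← h3, pow_orderOf_eq_one]
    rw [← zpow_add_one]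
    exact_mod_cast this

theorem comm_of_conj {g : H} (h : g * ξ * g⁻¹ = ξ) : g * ξ = ξ * g := by
  rw [mul_inv_eq_iff_eq_mul] at h; exact h

theorem xi3 (h3 : orderOf ξ = 3) : ξ * (ξ * ξ) = 1 := by
  have : (ξ : H) ^ 3 = 1 := by rw [← h3, pow_orderOf_eq_one]
  rw [← this, pow_succ, pow_two, mul_assoc]

theorem xi_inv (h3 : orderOf ξ = 3) : ξ⁻¹ = ξ * ξ := inv_eq_of_mul_eq_one_right (xi3 h3)

theorem rho3 (h3 : orderOf ξ = 3) (v : V) : ρ ξ (ρ ξ (ρ ξ v)) = v := by
  rw [← act_mul, ← act_mul, mul_assoc, xi3 h3, map_one]; rfl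

/-- the projection onto `V₁`, with kernel `V₂` -/
def pr (ρ : H →* MulAut V) (ξ : H) : V →* V where
  toFun v := ρ ξ v * ρ ξ (ρ ξ v)
  map_one' := by simp
  map_mul' v w := by
    simp only [map_mul]
    exact mul_mul_mul_comm _ _ _ _

theorem pr_apply (v : V) : pr ρ ξ v = ρ ξ v * ρ ξ (ρ ξ v) := rfl

theorem pr_mem (hV : ∀ v : V, v * v = 1) (v : V) : pr ρ ξ v ∈ (cm ρ ξ).range := by
  refine ⟨ρ ξ v, ?_⟩
  rw [cm_apply, pr_apply, inv_eq_self hV, mul_comm]

theorem mul_pr_mem (h3 : orderOf ξ = 3) (v : V) : v * pr ρ ξ v ∈ fx ρ ξ := by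
  rw [mem_fx, pr_apply, map_mul, map_mul, rho3 h3]
  rw [mul_comm (ρ ξ (ρ ξ v)) v, ← mul_assoc, mul_comm (ρ ξ v) v, mul_assoc]

theorem eq_one (hV : ∀ v : V, v * v = 1) (h3 : orderOf ξ = 3) {v : V} (h1 : v ∈ (cm ρ ξ).range) (h2 : v ∈ fx ρ ξ) :
    v = 1 := eq_one_of_fix hV (odd3 h3) h1 h2

theorem sup (hV : ∀ v : V, v * v = 1) (h3 : orderOf ξ = 3) : (cm ρ ξ).range ⊔ fx ρ ξ = ⊤ := by
  rw [eq_top_iff]
  intro v _
  have h1 : v = pr ρ ξ v * (v * pr ρ ξ v) := by
    rw [mul_comm v, ← mul_assoc, hV, one_mul]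
  rw [h1]
  exact mul_mem_sup (pr_mem hV v) (mul_pr_mem h3 v)

theorem pr_eq (hV : ∀ v : V, v * v = 1) (h3 : orderOf ξ = 3) {v : V} (hv : v ∈ (cm ρ ξ).range) : pr ρ ξ v = v := by
  have h1 := eq_one hV h3 (mul_mem hv (pr_mem hV v)) (mul_pr_mem h3 v)
  exact (eq_of_mul_eq_one hV h1).symm

theorem inv_V₁ (h3 : orderOf ξ = 3) (hn : (zpowers ξ).Normal) (g : H) {v : V} (hv : v ∈ (cm ρ ξ).range) :
    ρ g v ∈ (cm ρ ξ).range := by
  rcases conj_cases h3 hn g with h | h
  · exact apply_mem_range ρ (comm_of_conj h) hv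
  · exact apply_mem_range_of_inv ρ h hv

theorem pr_comm (h3 : orderOf ξ = 3) (hn : (zpowers ξ).Normal) (g : H) (v : V) :
    pr ρ ξ (ρ g v) = ρ g (pr ρ ξ v) := by
  rw [pr_apply, pr_apply, map_mul]
  rcases conj_cases h3 hn g with h | h
  · have h1 : ∀ w : V, ρ ξ (ρ g w) = ρ g (ρ ξ w) := fun w => act_comm (comm_of_conj h).symm w
    rw [h1, h1]
  · have h1 : ξ * g = g * (ξ * ξ) := by
      rw [← xi_inv h3]
      rw [mul_inv_eq_iff_eq_mul] at h
      rw [eq_mul_inv_iff_mul_eq, mul_assoc, h]; group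
    have h2 : ∀ w : V, ρ ξ (ρ g w) = ρ g (ρ ξ (ρ ξ w)) := fun w => by
      rw [← act_mul, h1, act_mul, act_mul]
    rw [h2, h2, rho3 h3, mul_comm]

/-- a normal subgroup acting on `V₁` by elements of `S` is trivial on `V₁` -/
theorem triv_of (hV : ∀ v : V, v * v = 1) (h3 : orderOf ξ = 3) (hn : (zpowers ξ).Normal) {S N : Subgroup H}
    (hN : N.Normal) (gen : ∀ W : Subgroup V, CS ρ S ≤ W → (∀ h : H, ∀ w ∈ W, ρ h w ∈ W) → W = ⊤)
    (hS : ∀ n ∈ N, ∃ s ∈ S, ∀ v ∈ (cm ρ ξ).range, ρ n v = ρ s v) :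
    ∀ n ∈ N, ∀ v ∈ (cm ρ ξ).range, ρ n v = v := by
  have h1 := gen ((CS ρ N).comap (pr ρ ξ)) ?_ ?_
  · intro n hnN v hv
    have h2 : v ∈ (CS ρ N).comap (pr ρ ξ) := by rw [h1]; trivial
    rw [Subgroup.mem_comap, pr_eq hV h3 hv] at h2
    exact h2 n hnN
  · intro v hv
    rw [Subgroup.mem_comap]
    intro n hnN
    obtain ⟨s, hs, h2⟩ := hS n hnN
    rw [h2 _ (pr_mem hV v), ← pr_comm h3 hn, hv s hs]
  · intro g w hw
    rw [Subgroup.mem_comap] at hw ⊢
    rw [pr_comm h3 hn]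
    exact CS_stable (by rw [(normalizer_eq_top_iff (H := N)).2 hN]; trivial) hw

/-! ### `|V₁| = 4` -/

theorem four [Finite V] (hV : ∀ v : V, v * v = 1) (h3 : orderOf ξ = 3) (h4 : Nat.card (cm ρ ξ).range = 4) {v w : V}
    (hv : v ∈ (cm ρ ξ).range) (hv1 : v ≠ 1) (hw : w ∈ (cm ρ ξ).range) :
    w = 1 ∨ w = v ∨ w = ρ ξ v ∨ w = ρ ξ (ρ ξ v) := by
  have hs : ∀ {u : V}, u ∈ (cm ρ ξ).range → ρ ξ u ∈ (cm ρ ξ).range := fun hu => apply_mem_range ρ rfl hu
  have i1 : ρ ξ v ≠ 1 := fun h => hv1 ((ρ ξ).injective (by rw [h, map_one]))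
  have i2 : ρ ξ (ρ ξ v) ≠ 1 := fun h => i1 ((ρ ξ).injective (by rw [h, map_one]))
  have i3 : v ≠ ρ ξ v := fun h => hv1 (eq_one hV h3 hv h.symm)
  have i4 : ρ ξ v ≠ ρ ξ (ρ ξ v) := fun h => i3 ((ρ ξ).injective h)
  have i5 : v ≠ ρ ξ (ρ ξ v) := by
    intro h
    have h5 := congrArg (ρ ξ) h
    rw [rho3 h3] at h5
    exact i3 h5.symm
  have h5 : ({1, v, ρ ξ v, ρ ξ (ρ ξ v)} : Set V) = ((cm ρ ξ).range : Set V) := by
    refine Set.eq_of_subset_of_ncard_le ?_ ?_ (Set.toFinite _)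
    · rintro u (rfl | rfl | rfl | rfl)
      · exact one_mem _
      · exact hv
      · exact hs hv
      · exact hs (hs hv)
    · have h6 : ((cm ρ ξ).range : Set V).ncard = 4 := h4
      rw [h6, Set.ncard_insert_of_notMem, Set.ncard_insert_of_notMem, Set.ncard_pair i4]
      · rintro (h | h)
        · exact i3 h
        · exact i5 h
      · rintro (h | h | h)
        · exact hv1 h.symm
        · exact i1 h.symm
        · exact i2 h.symm
  have h6 : w ∈ ({1, v, ρ ξ v, ρ ξ (ρ ξ v)} : Set V) := by rw [h5]; exact hw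
  exact h6

theorem act_comm_four [Finite V] (hV : ∀ v : V, v * v = 1) (h3 : orderOf ξ = 3)
    (h4 : Nat.card (cm ρ ξ).range = 4) {g : H} (hg : g * ξ = ξ * g) :
    ∃ k ∈ zpowers ξ, ∀ v ∈ (cm ρ ξ).range, ρ g v = ρ k v := by
  obtain ⟨v₀, hv₀, hv1⟩ : ∃ v₀ ∈ (cm ρ ξ).range, v₀ ≠ 1 := by
    have : Nontrivial (cm ρ ξ).range := by
      rw [← Finite.one_lt_card_iff_nontrivial, h4]; norm_num
    obtain ⟨⟨v, hv⟩, hv1⟩ := exists_ne (1 : (cm ρ ξ).range)
    exact ⟨v, hv, fun h => hv1 (Subtype.ext h)⟩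
  have key : ∀ k : H, k * ξ = ξ * k → ρ g v₀ = ρ k v₀ → ∀ v ∈ (cm ρ ξ).range, ρ g v = ρ k v := by
    intro k hk h5 v hv
    rcases four hV h3 h4 hv₀ hv1 hv with rfl | rfl | rfl | rfl
    · rw [map_one, map_one]
    · exact h5
    · rw [act_comm hg, act_comm hk, h5]
    · rw [act_comm hg, act_comm hk, act_comm hg, act_comm hk, h5]
  rcases four hV h3 h4 hv₀ hv1 (apply_mem_range ρ hg hv₀) with h5 | h5 | h5 | h5
  · exact absurd ((ρ g).injective (by rw [h5, map_one])) hv1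
  · exact ⟨1, one_mem _, key 1 (by group) (by rw [h5, map_one]; rfl)⟩
  · exact ⟨ξ, mem_zpowers ξ, key ξ rfl h5⟩
  · exact ⟨ξ * ξ, mul_mem (mem_zpowers ξ) (mem_zpowers ξ), key _ (by group) (by rw [h5, act_mul])⟩

/-- the product of two elements inverting `ξ` centralises `ξ` -/
theorem mul_comm_of_inv {g t : H} (hg : g * ξ * g⁻¹ = ξ⁻¹) (ht : t * ξ * t⁻¹ = ξ⁻¹) : g * t * ξ = ξ * (g * t) := by
  have h1 : t * ξ = ξ⁻¹ * t := by rwa [mul_inv_eq_iff_eq_mul] at ht
  have h2 : g * ξ = ξ⁻¹ * g := by rwa [mul_inv_eq_iff_eq_mul] at hg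
  have h3 : g * ξ⁻¹ = ξ * g := by
    rw [mul_inv_eq_iff_eq_mul, mul_assoc, h2]; group
  rw [mul_assoc, h1, ← mul_assoc, h3, mul_assoc]

theorem act_four [Finite V] (hV : ∀ v : V, v * v = 1) (h3 : orderOf ξ = 3) (hn : (zpowers ξ).Normal)
    (h4 : Nat.card (cm ρ ξ).range = 4) {t : H} (ht : t * ξ * t⁻¹ = ξ⁻¹) (g : H) :
    ∃ k ∈ zpowers ξ, (∀ v ∈ (cm ρ ξ).range, ρ g v = ρ k v) ∨ ∀ v ∈ (cm ρ ξ).range, ρ g v = ρ (k * t⁻¹) v := by
  rcases conj_cases h3 hn g with h | h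
  · obtain ⟨k, hk, h5⟩ := act_comm_four hV h3 h4 (comm_of_conj h)
    exact ⟨k, hk, Or.inl h5⟩
  · obtain ⟨k, hk, h5⟩ := act_comm_four (ρ := ρ) hV h3 h4 (mul_comm_of_inv h ht)
    refine ⟨k, hk, Or.inr fun v hv => ?_⟩
    rw [act_mul, ← h5 _ (inv_V₁ h3 hn _ hv), ← act_mul]
    congr 2; group

/-- the part of the frame `MF` which is used here (no `ck`, nothing about `H₁`) -/
structure Xf (ρ : H →* MulAut V) (S T O E : Subgroup H) (ξ : H) : Prop where
  cyc : OddCyc H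
  inj : Function.Injective ρ
  sq : ∀ v : V, v * v = 1
  two : IsPGroup 2 S
  index : ¬ 2 ∣ S.index
  T_le : T ≤ S
  O_le : O ≤ T
  ξ3 : orderOf ξ = 3
  inv : ∀ t ∈ T, t ∉ O → t * ξ * t⁻¹ * ξ ∈ O
  E_le : E ≤ T
  E_not : ¬ E ≤ O
  gen : ∀ W : Subgroup V, CS ρ S ≤ W → (∀ h : H, ∀ w ∈ W, ρ h w ∈ W) → W = ⊤

section Xf

variable {S T O E : Subgroup H} {H₁ : Subgroup V}

theorem Xf.of_mf (h : MF ρ S T O E ξ H₁) : Xf ρ S T O E ξ :=
  ⟨h.cyc, h.inj, h.sq, h.two, h.index, h.T_le, h.O_le, h.ξ3, h.inv, h.E_le, h.E_not, h.gen⟩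

theorem Xf.exists_e (h : Xf ρ S T O E ξ) : ∃ e ∈ E, e ∉ O := by
  by_contra hcon
  push Not at hcon
  exact h.E_not hcon

theorem Xf.exists_t [Finite H] (h : Xf ρ S T O E ξ) (hn : (zpowers ξ).Normal) :
    ∃ t ∈ T, t ∉ O ∧ t * ξ * t⁻¹ = ξ⁻¹ := by
  obtain ⟨e, he, heO⟩ := h.exists_e
  refine ⟨e, h.E_le he, heO, ?_⟩
  rcases conj_cases h.ξ3 hn e with h1 | h1
  · exfalso
    have h2 := h.inv e (h.E_le he) heO
    rw [h1, ← xi_inv h.ξ3] at h2
    have h3 : ξ ∈ O := by rw [← inv_mem_iff]; exact h2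
    obtain ⟨k, hk⟩ := ((h.two.to_le h.T_le).to_le h.O_le) ⟨ξ, h3⟩
    have h4 : ξ ^ 2 ^ k = 1 := congrArg Subtype.val hk
    have h5 : orderOf ξ ∣ 2 ^ k := orderOf_dvd_of_pow_eq_one h4
    rw [h.ξ3] at h5
    have h6 : (3 : ℕ) ∣ 2 := Nat.prime_three.dvd_of_dvd_pow h5
    omega
  · exact h1

/-- **(b)** -/
theorem Xf.act [Finite H] [Finite V] (h : Xf ρ S T O E ξ) (hn : (zpowers ξ).Normal) (h4 : (fx ρ ξ).index = 4) (g : H) :
    ∃ k ∈ T ⊔ zpowers ξ, ∀ v ∈ (cm ρ ξ).range, ρ g v = ρ k v := by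
  obtain ⟨t, htT, -, ht⟩ := h.exists_t hn
  obtain ⟨k, hk, h5 | h5⟩ := act_four (ρ := ρ) h.sq h.ξ3 hn (by rw [card_range_cm, h4]) ht g
  · exact ⟨k, mem_sup_right hk, h5⟩
  · exact ⟨_, mul_mem (mem_sup_right hk) (mem_sup_left (inv_mem htT)), h5⟩

end Xf

/-! ### case `OutA`, `|V₁| = 16` -/

/-- `ξ` is in `⟨y⟩` if `3` divides the order of `y`, `y ∈ C(ξ)` -/
theorem mem_of_dvd [Finite H] (cyc : OddCyc H) (h3 : orderOf ξ = 3) {y : H} (hy : 3 ∣ orderOf y) (hc : y * ξ = ξ * y) :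
    ξ ∈ zpowers y := by
  have : Fact (Nat.Prime 3) := ⟨Nat.prime_three⟩
  obtain ⟨⟨z, hz⟩, hz3⟩ := exists_prime_orderOf_dvd_card' (G := zpowers y) 3 (by rwa [Nat.card_zpowers])
  rw [Subgroup.orderOf_mk] at hz3
  have hcz : Commute z ξ := by
    obtain ⟨k, rfl⟩ := hz
    exact (show Commute y ξ from hc).zpow_left k
  have h1 := zpowers_eq_of_commute cyc Nat.prime_three (by norm_num) hz3 h3 hcz
  have h2 : ξ ∈ zpowers z := by rw [h1]; exact mem_zpowers ξ
  exact (zpowers_le.2 hz) h2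

/-- a cyclic 3-group containing `ξ` and normalising `V₁`, `|V₁| = 16`, is `⟨ξ⟩` -/
theorem R_eq [Finite H] [Finite V] (cyc : OddCyc H) (hV : ∀ v : V, v * v = 1) (h3 : orderOf ξ = 3)
    (h16 : Nat.card (cm ρ ξ).range = 16) {R : Subgroup H} (hR : IsPGroup 3 R) (hc : IsCyclic R) (hξ : ξ ∈ R) :
    R = zpowers ξ := by
  have hcomm : ∀ y ∈ R, y * ξ = ξ * y := by
    intro y hy
    have := hc.commGroup
    have h1 : (⟨y, hy⟩ : R) * ⟨ξ, hξ⟩ = ⟨ξ, hξ⟩ * ⟨y, hy⟩ := by
      have : IsMulCommutative R := inferInstance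
      exact this.is_comm.comm _ _
    exact congrArg Subtype.val h1
  have h1 := card_dvd_sub_one (K := V) (D := R) (ρ.comp R.subtype) (cm ρ ξ).range ?_ ?_
  · rw [h16] at h1
    have : Fact (Nat.Prime 3) := ⟨Nat.prime_three⟩
    obtain ⟨n, hn⟩ := (IsPGroup.iff_card (p := 3)).1 hR
    rw [hn] at h1
    have h2 : n ≤ 1 := by
      by_contra hcon
      push Not at hcon
      have h3 : 3 ^ 2 ∣ 3 ^ n := pow_dvd_pow 3 hcon
      have h4 := h3.trans h1
      norm_num at h4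
    symm
    apply Subgroup.eq_of_le_of_card_ge (zpowers_le.2 hξ)
    rw [Nat.card_zpowers, h3, hn]
    calc 3 ^ n ≤ 3 ^ 1 := Nat.pow_le_pow_right (by norm_num) h2
      _ = 3 := by norm_num
  · rintro ⟨d, hd⟩ c hcc
    exact apply_mem_range ρ (hcomm d hd) hcc
  · rintro ⟨d, hd⟩ c hcc hc1 hfix
    by_contra hne
    have h2 : 3 ∣ orderOf d := by
      have : Fact (Nat.Prime 3) := ⟨Nat.prime_three⟩
      obtain ⟨k, hk⟩ := (IsPGroup.iff_orderOf (p := 3)).1 hR ⟨d, hd⟩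
      rw [Subgroup.orderOf_mk] at hk
      rcases Nat.eq_zero_or_pos k with h | h
      · exfalso
        rw [h, pow_zero, orderOf_eq_one_iff] at hk
        exact hne (Subtype.ext hk)
      · rw [hk]; exact dvd_pow_self 3 h.ne'
    obtain ⟨n, hn⟩ := mem_of_dvd cyc h3 h2 (hcomm d hd)
    apply hc1
    apply eq_one hV h3 hcc
    have h5 : c ∈ fx ρ d := hfix
    have h6 : c ∈ fx ρ (d ^ n) := by
      obtain ⟨m, rfl | rfl⟩ := n.eq_nat_or_neg
      · rw [zpow_natCast]; exact fx_pow ρ h5 m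
      · rw [zpow_neg, zpow_natCast]; exact fx_inv ρ (fx_pow ρ h5 m)
    have h7 : d ^ n = ξ := hn
    rwa [h7] at h6

section W₀

variable {e : H}

/-- `C_{V₁}(e) ∩ C_{V₁}(e)^ξ = 1` -/
theorem disjW (hV : ∀ v : V, v * v = 1) (h3 : orderOf ξ = 3) (he : e * ξ * e⁻¹ = ξ⁻¹) {w : V}
    (hw : w ∈ (cm ρ ξ).range) (h1 : ρ e w = w) (h2 : ρ e (ρ ξ w) = ρ ξ w) : w = 1 := by
  apply eq_one hV h3 hw
  apply fx_of_sq ρ (odd3 h3)
  have h4 : e * ξ = (ξ * ξ) * e := by
    rw [← xi_inv h3]; rwa [mul_inv_eq_iff_eq_mul] at he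
  rw [mem_fx]
  have h5 : ρ e (ρ ξ w) = ρ (ξ * ξ) w := by
    rw [← act_mul, h4, act_mul, h1]
  have h6 : ρ ξ (ρ ξ w) = ρ ξ w := by rw [← act_mul, ← h5, h2]
  rw [act_mul, h6]
  exact (ρ ξ).injective h6

/-- `C_{V₁}(e)` -/
def W₀ (ρ : H →* MulAut V) (ξ e : H) : Subgroup V := (cm ρ ξ).range ⊓ fx ρ e

theorem mem_W₀ {w : V} : w ∈ W₀ ρ ξ e ↔ w ∈ (cm ρ ξ).range ∧ ρ e w = w := Iff.rfl

theorem W₀_inj (hV : ∀ v : V, v * v = 1) (h3 : orderOf ξ = 3) (he : e * ξ * e⁻¹ = ξ⁻¹) :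
    Function.Injective (fun p : W₀ ρ ξ e × W₀ ρ ξ e => (p.1 : V) * ρ ξ (p.2 : V)) := by
  rintro ⟨⟨a, ha⟩, ⟨b, hb⟩⟩ ⟨⟨c, hc⟩, ⟨d, hd⟩⟩ h
  have h1 : a * ρ ξ b = c * ρ ξ d := h
  have h2 : ρ ξ (b * d⁻¹) = a⁻¹ * c := by
    rw [map_mul, map_inv, mul_inv_eq_iff_eq_mul, mul_assoc, ← h1, inv_mul_cancel_left]
  have hbd : b * d⁻¹ ∈ W₀ ρ ξ e := mul_mem hb (inv_mem hd)
  have hac : a⁻¹ * c ∈ W₀ ρ ξ e := mul_mem (inv_mem ha) hc
  have h3' := disjW hV h3 he hbd.1 hbd.2 (by rw [h2]; exact hac.2)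
  have h4 : b = d := by rwa [mul_inv_eq_one] at h3'
  subst h4
  have h5 : a = c := mul_right_cancel h1
  subst h5
  rfl

theorem card_W₀ [Finite V] (hV : ∀ v : V, v * v = 1) (h3 : orderOf ξ = 3) (he : e * ξ * e⁻¹ = ξ⁻¹)
    (hind : (fx ρ e).index = 4) (h16 : Nat.card (cm ρ ξ).range = 16) : Nat.card (W₀ ρ ξ e) = 4 := by
  have h1 : Nat.card (W₀ ρ ξ e) * Nat.card (W₀ ρ ξ e) ≤ 16 := by
    rw [← Nat.card_prod, ← h16]
    refine Nat.card_le_card_of_injective
      (fun p : W₀ ρ ξ e × W₀ ρ ξ e => (⟨(p.1 : V) * ρ ξ (p.2 : V), ?_⟩ : (cm ρ ξ).range)) ?_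
    · exact mul_mem p.1.2.1 (apply_mem_range ρ rfl p.2.2.1)
    · intro p q h
      exact W₀_inj hV h3 he (congrArg Subtype.val h)
  have h2 : Nat.card (W₀ ρ ξ e) * (fx ρ e).relIndex (cm ρ ξ).range = 16 := by
    rw [← h16, W₀, inf_comm]
    have h5 := card_mul_relIndex (A := fx ρ e ⊓ (cm ρ ξ).range) (B := (cm ρ ξ).range) inf_le_right
    rwa [Subgroup.inf_relIndex_right] at h5
  have h4 : (fx ρ e).relIndex (cm ρ ξ).range ∣ 4 := by
    rw [← hind]
    exact Subgroup.relIndex_dvd_index_of_normal _ _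
  have h5 := Nat.le_of_dvd (by norm_num) h4
  have h6 : Nat.card (W₀ ρ ξ e) ≤ 4 := by nlinarith only [h1]
  have h7 : 4 ≤ Nat.card (W₀ ρ ξ e) := by nlinarith only [h2, h5]
  omega

/-- `V₁ = C_{V₁}(e) C_{V₁}(e)^ξ` -/
theorem W₀_surj [Finite V] (hV : ∀ v : V, v * v = 1) (h3 : orderOf ξ = 3) (he : e * ξ * e⁻¹ = ξ⁻¹)
    (hind : (fx ρ e).index = 4) (h16 : Nat.card (cm ρ ξ).range = 16) {v : V} (hv : v ∈ (cm ρ ξ).range) :
    ∃ a ∈ W₀ ρ ξ e, ∃ b ∈ W₀ ρ ξ e, v = a * ρ ξ b := by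
  have h4 := card_W₀ hV h3 he hind h16
  let f : W₀ ρ ξ e × W₀ ρ ξ e → (cm ρ ξ).range := fun p =>
    ⟨(p.1 : V) * ρ ξ (p.2 : V), mul_mem p.1.2.1 (apply_mem_range ρ rfl p.2.2.1)⟩
  have hf : Function.Injective f := fun p q h => W₀_inj hV h3 he (congrArg Subtype.val h)
  have hfs : Function.Bijective f := by
    rw [Nat.bijective_iff_injective_and_card]
    refine ⟨hf, ?_⟩
    rw [Nat.card_prod, h4, h16]
  obtain ⟨⟨a, b⟩, hab⟩ := hfs.2 ⟨v, hv⟩
  exact ⟨a, a.2, b, b.2, (congrArg Subtype.val hab).symm⟩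

/-- elements commuting with `ξ` and trivial on `C_{V₁}(e)` are trivial on `V₁` -/
theorem triv_V₁ [Finite V] (hV : ∀ v : V, v * v = 1) (h3 : orderOf ξ = 3) (he : e * ξ * e⁻¹ = ξ⁻¹)
    (hind : (fx ρ e).index = 4) (h16 : Nat.card (cm ρ ξ).range = 16) {d : H} (hd : d * ξ = ξ * d)
    (h : ∀ w ∈ W₀ ρ ξ e, ρ d w = w) {v : V} (hv : v ∈ (cm ρ ξ).range) : ρ d v = v := by
  obtain ⟨a, ha, b, hb, rfl⟩ := W₀_surj hV h3 he hind h16 hv
  rw [map_mul, act_comm hd, h a ha, h b hb]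

/-- `C_H(⟨ξ, e⟩)` -/
def D₀ (ξ e : H) : Subgroup H := centralizer ({ξ, e} : Set H)

theorem mem_D₀ {d : H} : d ∈ D₀ ξ e ↔ d * ξ = ξ * d ∧ d * e = e * d := by
  rw [D₀, Subgroup.mem_centralizer_iff]
  constructor
  · intro h
    exact ⟨(h ξ (Or.inl rfl)).symm, (h e (Or.inr rfl)).symm⟩
  · rintro ⟨h1, h2⟩ k (rfl | hk)
    · exact h1.symm
    · rw [Set.mem_singleton_iff.1 hk]; exact h2.symm

theorem D₀_three [Finite H] (cyc : OddCyc H) (h3 : orderOf ξ = 3) (he : e * ξ * e⁻¹ = ξ⁻¹) {d : H}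
    (hd : d ∈ D₀ ξ e) : ¬ 3 ∣ orderOf d := by
  intro h
  rw [mem_D₀] at hd
  have h1 := mem_of_dvd cyc h3 h hd.1
  obtain ⟨n, hn⟩ := h1
  have h2 : e * ξ = ξ * e := by
    have h4 : Commute d e := hd.2
    have h5 := h4.zpow_left n
    have h6 : d ^ n = ξ := hn
    rw [h6] at h5
    exact h5.symm
  have h4 : ξ = ξ * ξ := by
    rw [h2, mul_inv_cancel_right, xi_inv h3] at he
    exact he
  have h5 : ξ = 1 := by
    have := mul_left_cancel (a := ξ) (b := 1) (c := ξ) (by rw [mul_one]; exact h4)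
    exact this.symm
  rw [h5, orderOf_one] at h3
  omega

theorem D₀_card [Finite H] (cyc : OddCyc H) (h3 : orderOf ξ = 3) (he : e * ξ * e⁻¹ = ξ⁻¹) :
    ¬ 3 ∣ Nat.card (D₀ ξ e) := by
  intro h
  have : Fact (Nat.Prime 3) := ⟨Nat.prime_three⟩
  obtain ⟨⟨z, hz⟩, hz3⟩ := exists_prime_orderOf_dvd_card' (G := D₀ ξ e) 3 h
  rw [Subgroup.orderOf_mk] at hz3
  exact D₀_three cyc h3 he hz (by rw [hz3])

/-- `H = ⟨ξ⟩ C_H(e)` : `C_H(⟨ξ, e⟩)` is normal -/
theorem D₀_normal (h3 : orderOf ξ = 3) (hn : (zpowers ξ).Normal)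
    (hdec : ∀ g : H, ∃ o ∈ zpowers ξ, ∃ c : H, c * e = e * c ∧ g = o * c) : (D₀ ξ e).Normal := by
  constructor
  intro d hd g
  rw [mem_D₀] at hd
  obtain ⟨o, ho, c, hc, rfl⟩ := hdec g
  have h1 : c * d * c⁻¹ ∈ D₀ ξ e := by
    rw [mem_D₀]
    constructor
    · have h4 : c⁻¹ * ξ * c = ξ ∨ c⁻¹ * ξ * c = ξ⁻¹ := by
        have := conj_cases h3 hn c⁻¹
        rwa [inv_inv] at this
      have h5 : Commute d (c⁻¹ * ξ * c) := by
        rcases h4 with h4 | h4
        · rw [h4]; exact hd.1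
        · rw [h4]; exact (show Commute d ξ from hd.1).inv_right
      calc c * d * c⁻¹ * ξ = c * (d * (c⁻¹ * ξ * c)) * c⁻¹ := by group
        _ = c * ((c⁻¹ * ξ * c) * d) * c⁻¹ := by rw [h5.eq]
        _ = ξ * (c * d * c⁻¹) := by group
    · have h5 : Commute c e := hc
      have h6 : Commute d e := hd.2
      exact ((h5.mul_left h6).mul_left h5.inv_left).eq
  have h2 : ∀ x ∈ D₀ ξ e, o * x * o⁻¹ = x := by
    intro x hx
    rw [mem_D₀] at hx
    obtain ⟨n, rfl⟩ := ho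
    have h5 : Commute x (ξ ^ n) := (show Commute x ξ from hx.1).zpow_right n
    show ξ ^ n * x * (ξ ^ n)⁻¹ = x
    rw [← h5.eq, mul_inv_cancel_right]
  have h4 : o * c * d * (o * c)⁻¹ = o * (c * d * c⁻¹) * o⁻¹ := by group
  rw [h4, h2 _ h1]
  exact h1

end W₀

/-! ### `C_H(⟨ξ, e⟩)` is trivial on `V₁` -/

section Act

variable {e : H}

/-- the nonidentity elements of `C_{V₁}(e)` -/
abbrev X₀ (ρ : H →* MulAut V) (ξ e : H) : Type _ := {w : V // w ∈ W₀ ρ ξ e ∧ w ≠ 1}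

theorem W₀_stable {d : H} (hd : d ∈ D₀ ξ e) {w : V} (hw : w ∈ W₀ ρ ξ e) : ρ d w ∈ W₀ ρ ξ e := by
  rw [mem_D₀] at hd
  refine ⟨apply_mem_range ρ hd.1 hw.1, ?_⟩
  show ρ e (ρ d w) = ρ d w
  rw [act_comm hd.2.symm, (mem_W₀.1 hw).2]

/-- the action of `C_H(⟨ξ, e⟩)` on the nonidentity elements of `C_{V₁}(e)` -/
@[reducible] def actX₀ (ρ : H →* MulAut V) (ξ e : H) : MulAction (D₀ ξ e) (X₀ ρ ξ e) where
  smul d w := ⟨ρ d w.1, W₀_stable d.2 w.2.1, fun h => w.2.2 ((ρ (d : H)).injective (by rw [h, map_one]))⟩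
  one_smul w := by
    apply Subtype.ext
    show ρ ((1 : D₀ ξ e) : H) w.1 = w.1
    rw [OneMemClass.coe_one, map_one]; rfl
  mul_smul d e w := by
    apply Subtype.ext
    exact act_mul ρ _ _ _

theorem card_X₀ [Finite V] (h4 : Nat.card (W₀ ρ ξ e) = 4) : Nat.card (X₀ ρ ξ e) = 3 := by
  have h1 : ((W₀ ρ ξ e : Set V) \ {1}).ncard = 3 := by
    rw [Set.ncard_sdiff_singleton_of_mem (one_mem (W₀ ρ ξ e))]
    have : (W₀ ρ ξ e : Set V).ncard = 4 := h4
    rw [this]
  exact h1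

theorem exists_f [Finite V] (h4 : Nat.card (W₀ ρ ξ e) = 4) :
    ∃ f : D₀ ξ e →* Equiv.Perm (X₀ ρ ξ e), Nat.card (Equiv.Perm (X₀ ρ ξ e)) = 6 ∧
      ∀ d, f d = 1 ↔ ∀ w ∈ W₀ ρ ξ e, ρ (d : H) w = w := by
  let _ := actX₀ ρ ξ e
  refine ⟨MulAction.toPermHom _ _, ?_, ?_⟩
  · rw [Nat.card_perm, card_X₀ h4]; rfl
  · intro d
    constructor
    · intro h w hw
      by_cases hw1 : w = 1
      · rw [hw1, map_one]
      · have h5 := congrArg (fun σ : Equiv.Perm (X₀ ρ ξ e) => (σ ⟨w, hw, hw1⟩ : V)) h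
        exact h5
    · intro h
      ext w
      exact h w.1 w.2.1

theorem eq_of_card_dvd_two {G : Type*} [Group G] [Finite G] {F : Subgroup G} (hF : Nat.card F ∣ 2) {a b : G} (ha : a ∈ F) (hb : b ∈ F)
    (ha1 : a ≠ 1) (hb1 : b ≠ 1) : a = b := by
  have h1 : Nat.card F ≤ 2 := Nat.le_of_dvd (by norm_num) hF
  by_contra hne
  have h2 : ({1, a, b} : Set G) ⊆ F := by
    rintro u (rfl | rfl | rfl)
    · exact one_mem _
    · exact ha
    · exact hb
  have h3 := Set.ncard_le_ncard h2 (Set.toFinite _)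
  rw [Set.ncard_insert_of_notMem, Set.ncard_pair hne] at h3
  · have h4 : (F : Set G).ncard = Nat.card F := rfl
    omega
  · rintro (h | h)
    · exact ha1 h.symm
    · exact hb1 h.symm

/-- a 2-element is conjugate to an element of `S` -/
theorem exists_conj_mem [Finite H] {S : Subgroup H} (hS : IsPGroup 2 S) (hSi : ¬ 2 ∣ S.index) {u : H} {k : ℕ}
    (hu : u ^ 2 ^ k = 1) : ∃ g : H, g * u * g⁻¹ ∈ S := by
  have : Fact (Nat.Prime 2) := ⟨Nat.prime_two⟩
  have h1 : IsPGroup 2 (zpowers u) := by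
    rintro ⟨y, n, rfl⟩
    refine ⟨k, Subtype.ext ?_⟩
    show (u ^ n) ^ 2 ^ k = 1
    rw [← zpow_natCast, ← zpow_mul, mul_comm, zpow_mul, zpow_natCast, hu, one_zpow]
  obtain ⟨P, hP⟩ := h1.exists_le_sylow
  obtain ⟨g, hg⟩ := MulAction.exists_smul_eq H P (hS.toSylow hSi)
  refine ⟨g, ?_⟩
  have h2 : g * u * g⁻¹ ∈ ((g • P : Sylow 2 H) : Subgroup H) := ⟨u, hP (mem_zpowers u), rfl⟩
  rw [hg] at h2
  exact h2

/-- `C_H(⟨ξ, e⟩)` is trivial on `V₁` -/
theorem D₀_triv [Finite H] [Finite V] (cyc : OddCyc H) (hV : ∀ v : V, v * v = 1) (h3 : orderOf ξ = 3)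
    (hn : (zpowers ξ).Normal) {S : Subgroup H} (hS : IsPGroup 2 S) (hSi : ¬ 2 ∣ S.index)
    (gen : ∀ W : Subgroup V, CS ρ S ≤ W → (∀ h : H, ∀ w ∈ W, ρ h w ∈ W) → W = ⊤)
    (he : e * ξ * e⁻¹ = ξ⁻¹) (hind : (fx ρ e).index = 4) (h16 : Nat.card (cm ρ ξ).range = 16)
    (hdec : ∀ g : H, ∃ o ∈ zpowers ξ, ∃ c : H, c * e = e * c ∧ g = o * c) :
    ∀ d ∈ D₀ ξ e, ∀ v ∈ (cm ρ ξ).range, ρ d v = v := by
  have h4 := card_W₀ hV h3 he hind h16
  have hN := D₀_normal h3 hn hdec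
  obtain ⟨f, hP, hf⟩ := exists_f (ρ := ρ) (ξ := ξ) (e := e) h4
  have hker : ∀ d : D₀ ξ e, f d = 1 ↔ ∀ v ∈ (cm ρ ξ).range, ρ (d : H) v = v := by
    intro d
    rw [hf]
    constructor
    · intro h v hv
      exact triv_V₁ hV h3 he hind h16 (mem_D₀.1 d.2).1 h hv
    · intro h w hw
      exact h w hw.1
  have hfin : Finite (Equiv.Perm (X₀ ρ ξ e)) := inferInstance
  have h6 : Nat.card f.range ∣ 2 := by
    have h7 : Nat.card f.range ∣ 3 * 2 := by
      have := Subgroup.card_subgroup_dvd_card f.range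
      rwa [hP] at this
    have h8 : Nat.card f.range ∣ Nat.card (D₀ ξ e) := Subgroup.card_range_dvd f
    refine Nat.Coprime.dvd_of_dvd_mul_left ?_ h7
    rw [Nat.coprime_comm, Nat.Prime.coprime_iff_not_dvd Nat.prime_three]
    exact fun h9 => D₀_card cyc h3 he (h9.trans h8)
  have hsq : ∀ d : D₀ ξ e, f d * f d = 1 := by
    intro d
    have h7 : (⟨f d, ⟨d, rfl⟩⟩ : f.range) ^ 2 = 1 := by
      obtain ⟨m, hm⟩ := h6
      rw [hm, pow_mul, pow_card_eq_one', one_pow]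
    have h8 := congrArg Subtype.val h7
    have h9 : f d ^ 2 = 1 := h8
    rwa [pow_two] at h9
  refine triv_of hV h3 hn hN gen ?_
  by_cases hall : ∀ d : D₀ ξ e, f d = 1
  · intro d hd
    refine ⟨1, one_mem _, fun v hv => ?_⟩
    rw [(hker ⟨d, hd⟩).1 (hall _) v hv, map_one]; rfl
  · push Not at hall
    obtain ⟨d, hd1⟩ := hall
    -- a 2-element
    obtain ⟨k, m, hm, hkm⟩ := Nat.exists_eq_two_pow_mul_odd (n := orderOf (d : H)) (orderOf_pos _).ne'
    have hfm : f (d ^ m) = f d := by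
      obtain ⟨j, rfl⟩ := hm
      rw [map_pow, pow_succ, pow_mul, pow_two, hsq, one_pow, one_mul]
    have hu : ((d : H) ^ m) ^ 2 ^ k = 1 := by
      rw [← pow_mul, mul_comm, ← hkm, pow_orderOf_eq_one]
    obtain ⟨g, hg⟩ := exists_conj_mem hS hSi hu
    have hmem : g * (d : H) ^ m * g⁻¹ ∈ D₀ ξ e := hN.conj_mem _ (pow_mem d.2 m) g
    have hs1 : f ⟨_, hmem⟩ ≠ 1 := by
      intro h
      have h7 := (hker _).1 h
      apply hd1
      rw [← hfm, hker]
      intro v hv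
      have h8 := h7 (ρ g v) (inv_V₁ h3 hn g hv)
      apply (ρ g).injective
      have h9 : ρ (g * (d : H) ^ m * g⁻¹) (ρ g v) = ρ g (ρ ((d : H) ^ m) v) := by
        rw [← act_mul, ← act_mul]
        congr 2; group
      exact h9.symm.trans h8
    intro n hnD
    by_cases hn1 : f ⟨n, hnD⟩ = 1
    · refine ⟨1, one_mem _, fun v hv => ?_⟩
      rw [(hker ⟨n, hnD⟩).1 hn1 v hv, map_one]; rfl
    · refine ⟨_, hg, fun v hv => ?_⟩
      have h7 : f ⟨n, hnD⟩ = f ⟨_, hmem⟩ := eq_of_card_dvd_two h6 ⟨_, rfl⟩ ⟨_, rfl⟩ hn1 hs1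
      have h8 : f (⟨_, hmem⟩⁻¹ * ⟨n, hnD⟩) = 1 := by
        rw [map_mul, map_inv, h7, inv_mul_cancel]
      have h9 := (hker _).1 h8 v hv
      have h10 : ρ ((g * (d : H) ^ m * g⁻¹)⁻¹ * n) v = v := h9
      rw [act_mul] at h10
      have h11 := congrArg (ρ (g * (d : H) ^ m * g⁻¹)) h10
      rw [← act_mul, mul_inv_cancel, map_one] at h11
      exact h11

end Act

section OutA

variable {S T O E : Subgroup H} {H₁ : Subgroup V} {e : H}

theorem Xf.e_mem (h : Xf ρ S T O E ξ) (hA : OutA ρ E ξ e) : e ∈ T := h.E_le ((hA.E_eq e).2 (Or.inr rfl))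

/-- `O₃(F(H)) = ⟨ξ⟩` if `|V₁| = 16` -/
theorem Xf.dec16 [Finite H] [Finite V] (h : Xf ρ S T O E ξ) (hA : OutA ρ E ξ e)
    (h16 : Nat.card (cm ρ ξ).range = 16) (g : H) : ∃ o ∈ zpowers ξ, ∃ c : H, c * e = e * c ∧ g = o * c := by
  obtain ⟨R, -, hR, hc, hξ, -, hd⟩ := hA.dec
  rw [← R_eq h.cyc h.sq h.ξ3 h16 hR hc hξ]
  exact hd g

theorem Xf.triv16 [Finite H] [Finite V] (h : Xf ρ S T O E ξ) (hA : OutA ρ E ξ e)
    (h16 : Nat.card (cm ρ ξ).range = 16) : ∀ d ∈ D₀ ξ e, ∀ v ∈ (cm ρ ξ).range, ρ d v = v :=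
  D₀_triv h.cyc h.sq h.ξ3 hA.norm h.two h.index h.gen hA.inv hA.ind h16 (h.dec16 hA h16)

/-- every element of `H` is `o d` or `o d e`, `o ∈ ⟨ξ⟩`, `d ∈ C_H(⟨ξ, e⟩)`, if `|V₁| = 16` -/
theorem Xf.dec16' [Finite H] [Finite V] (h : Xf ρ S T O E ξ) (hA : OutA ρ E ξ e)
    (h16 : Nat.card (cm ρ ξ).range = 16) (g : H) :
    ∃ o ∈ zpowers ξ, ∃ d ∈ D₀ ξ e, g = o * d ∨ g = o * d * e := by
  obtain ⟨o, ho, c, hc, rfl⟩ := h.dec16 hA h16 g
  rcases conj_cases h.ξ3 hA.norm c with h1 | h1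
  · exact ⟨o, ho, c, mem_D₀.2 ⟨comm_of_conj h1, hc⟩, Or.inl rfl⟩
  · refine ⟨o, ho, c * e, mem_D₀.2 ⟨mul_comm_of_inv h1 hA.inv, ?_⟩, Or.inr ?_⟩
    · rw [hc]
      rw [mul_assoc, hc]
    · rw [mul_assoc, mul_assoc, hA.sq, mul_one]

/-- **(c)** -/
theorem Xf.actA [Finite H] [Finite V] (h : Xf ρ S T O E ξ) (hA : OutA ρ E ξ e) (g : H) :
    ∃ k ∈ T ⊔ zpowers ξ, ∀ v ∈ (cm ρ ξ).range, ρ g v = ρ k v := by
  rcases hA.idx with h4 | h16
  · exact h.act hA.norm h4 g
  · rw [← card_range_cm] at h16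
    have ht := h.triv16 hA h16
    obtain ⟨o, ho, d, hd, rfl | rfl⟩ := h.dec16' hA h16 g
    · refine ⟨o, mem_sup_right ho, fun v hv => ?_⟩
      rw [act_mul, ht d hd v hv]
    · refine ⟨o * e, mul_mem (mem_sup_right ho) (mem_sup_left (h.e_mem hA)), fun v hv => ?_⟩
      rw [act_mul, act_mul, act_mul, ht d hd _ (inv_V₁ h.ξ3 hA.norm e hv)]

end OutA

/-! ### `V₂ = 1` -/

theorem range_top (hV : ∀ v : V, v * v = 1) (h3 : orderOf ξ = 3) (hb : fx ρ ξ = ⊥) : (cm ρ ξ).range = ⊤ := by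
  have := sup (ρ := ρ) hV h3
  rwa [hb, sup_bot_eq] at this

theorem card_V (hb : fx ρ ξ = ⊥) : Nat.card V = (fx ρ ξ).index := by
  rw [hb, Subgroup.index_bot]

theorem eq_of_act (inj : Function.Injective ρ) (hr : (cm ρ ξ).range = ⊤) {g k : H}
    (h : ∀ v ∈ (cm ρ ξ).range, ρ g v = ρ k v) : g = k := by
  apply inj
  ext v
  exact h v (by rw [hr]; trivial)

theorem card_six (h3 : orderOf ξ = 3) {t : H} (ht : t * ξ * t⁻¹ = ξ⁻¹)
    (h : ∀ g : H, g ∈ zpowers ξ ∨ g * t ∈ zpowers ξ) : Nat.card H = 6 := by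
  have htn : t ∉ zpowers ξ := by
    rintro ⟨n, rfl⟩
    have h1 : (fun x : ℤ => ξ ^ x) n * ξ * ((fun x : ℤ => ξ ^ x) n)⁻¹ = ξ := by
      have : Commute (ξ ^ n) ξ := Commute.zpow_self ξ n
      show ξ ^ n * ξ * (ξ ^ n)⁻¹ = ξ
      rw [this.eq, mul_inv_cancel_right]
    rw [h1, xi_inv h3] at ht
    have h5 : ξ = 1 := by
      have := mul_left_cancel (a := ξ) (b := 1) (c := ξ) (by rw [mul_one]; exact ht)
      exact this.symm
    rw [h5, orderOf_one] at h3
    omega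
  have hi : (zpowers ξ).index = 2 := by
    rw [Subgroup.index_eq_two_iff]
    refine ⟨t, fun b => ?_⟩
    rcases h b with h1 | h1
    · exact Or.inr ⟨h1, fun h2 => htn (by
        have := mul_mem (inv_mem h1) h2
        rwa [inv_mul_cancel_left] at this)⟩
    · exact Or.inl ⟨h1, fun h2 => htn (by
        have := mul_mem (inv_mem h2) h1
        rwa [inv_mul_cancel_left] at this)⟩
  have := (zpowers ξ).card_mul_index
  rw [Nat.card_zpowers, h3, hi] at this
  exact this.symm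

section MF

variable {S T O E : Subgroup H} {H₁ : Subgroup V}

/-- **(d), `|V₁| = 4`** -/
theorem Xf.six [Finite H] [Finite V] (h : Xf ρ S T O E ξ) (hn : (zpowers ξ).Normal) (h4 : (fx ρ ξ).index = 4)
    (hb : fx ρ ξ = ⊥) : Nat.card V = 4 ∧ Nat.card H = 6 := by
  refine ⟨by rw [card_V hb, h4], ?_⟩
  obtain ⟨t, htT, -, ht⟩ := h.exists_t hn
  have hr := range_top (ρ := ρ) h.sq h.ξ3 hb
  refine card_six h.ξ3 ht fun g => ?_
  obtain ⟨k, hk, h5 | h5⟩ := act_four (ρ := ρ) h.sq h.ξ3 hn (by rw [card_range_cm, h4]) ht g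
  · left; rw [eq_of_act h.inj hr h5]; exact hk
  · right; rw [eq_of_act h.inj hr h5, inv_mul_cancel_right]; exact hk

end MF

section OutA

variable {S T O E : Subgroup H} {H₁ : Subgroup V} {e : H}

theorem Xf.index16 [Finite H] [Finite V] (h : Xf ρ S T O E ξ) (hA : OutA ρ E ξ e) (hb : fx ρ ξ = ⊥) :
    (fx ρ ξ).index = 16 := by
  rcases hA.idx with h4 | h16
  · exfalso
    have h1 : Nat.card V = 4 := by rw [card_V hb, h4]
    have h2 := (fx ρ e).card_mul_index
    rw [hA.ind, h1] at h2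
    have h3 : fx ρ e = ⊥ := Subgroup.card_eq_one.1 (by omega)
    have : Nontrivial V := by
      rw [← Finite.one_lt_card_iff_nontrivial, h1]; norm_num
    obtain ⟨v, hv⟩ := exists_ne (1 : V)
    have hee : ρ e (ρ e v) = v := by rw [← act_mul, hA.sq, map_one]; rfl
    have h5 : v * ρ e v ∈ fx ρ e := by
      rw [mem_fx, map_mul, hee, mul_comm]
    rw [h3, Subgroup.mem_bot] at h5
    have h6 : v ∈ fx ρ e := by
      rw [mem_fx]
      exact (eq_of_mul_eq_one h.sq h5).symm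
    rw [h3, Subgroup.mem_bot] at h6
    exact hv h6
  · exact h16

/-- **(d), `OutA`** : (D4) -/
theorem Xf.d4 [Finite H] [Finite V] (h : Xf ρ S T O E ξ) (hA : OutA ρ E ξ e) (hb : fx ρ ξ = ⊥) :
    Nat.card V = 16 ∧ Nat.card H = 6 ∧ S = zpowers e ∧ Nat.card (CS ρ S) = 4 ∧
      (CS ρ S ⊓ (CS ρ S).map (ρ ξ : V ≃* V).toMonoidHom = ⊥) := by
  have hi := h.index16 hA hb
  have h16 : Nat.card (cm ρ ξ).range = 16 := by rw [card_range_cm, hi]
  have hr := range_top (ρ := ρ) h.sq h.ξ3 hb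
  have hV : Nat.card V = 16 := by rw [card_V hb, hi]
  have ht := h.triv16 hA h16
  have hD : ∀ d ∈ D₀ ξ e, d = 1 := by
    intro d hd
    refine eq_of_act h.inj hr fun v hv => ?_
    rw [ht d hd v hv, map_one]; rfl
  have hH : Nat.card H = 6 := by
    refine card_six h.ξ3 hA.inv fun g => ?_
    obtain ⟨o, ho, d, hd, rfl | rfl⟩ := h.dec16' hA h16 g
    · left; rw [hD d hd, mul_one]; exact ho
    · right; rw [hD d hd, mul_one, mul_assoc, hA.sq, mul_one]; exact ho
  have heS : e ∈ S := h.T_le (h.e_mem hA)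
  have hoe : orderOf e = 2 := orderOf_eq_prime (by rw [pow_two]; exact hA.sq) hA.ne
  have hS : S = zpowers e := by
    symm
    apply Subgroup.eq_of_le_of_card_ge (zpowers_le.2 heS)
    rw [Nat.card_zpowers, hoe]
    have : Fact (Nat.Prime 2) := ⟨Nat.prime_two⟩
    obtain ⟨n, hn⟩ := (IsPGroup.iff_card (p := 2)).1 h.two
    have h1 : Nat.card S ∣ 6 := by rw [← hH]; exact Subgroup.card_subgroup_dvd_card S
    rw [hn] at h1 ⊢
    have h2 : n ≤ 1 := by
      by_contra hcon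
      push Not at hcon
      have h3 : 2 ^ 2 ∣ 2 ^ n := pow_dvd_pow 2 hcon
      have h4 := h3.trans h1
      norm_num at h4
    calc 2 ^ n ≤ 2 ^ 1 := Nat.pow_le_pow_right (by norm_num) h2
      _ = 2 := by norm_num
  have hC : CS ρ S = fx ρ e := by
    ext v
    constructor
    · intro hv
      exact hv e heS
    · intro hv b hb'
      rw [hS] at hb'
      obtain ⟨n, rfl⟩ := hb'
      obtain ⟨m, rfl | rfl⟩ := n.eq_nat_or_neg
      · have := fx_pow ρ hv m
        show ρ (e ^ (m : ℤ)) v = v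
        rw [zpow_natCast]; exact this
      · have := fx_inv ρ (fx_pow ρ hv m)
        show ρ (e ^ (-(m : ℤ))) v = v
        rw [zpow_neg, zpow_natCast]; exact this
  refine ⟨hV, hH, hS, ?_, ?_⟩
  · have h1 := (fx ρ e).card_mul_index
    rw [hA.ind, hV] at h1
    rw [hC]; omega
  · rw [hC, Subgroup.eq_bot_iff_forall]
    rintro v ⟨hv, w, hw, hwv⟩
    have hwv' : ρ ξ w = v := hwv
    have h1 : ρ e (ρ ξ w) = ρ ξ w := by rw [hwv']; exact hv
    have h2 := disjW h.sq h.ξ3 hA.inv (by rw [hr]; trivial) hw h1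
    rw [← hwv', h2, map_one]

end OutA

/-! ### the same for `MF` -/

section MF

variable {S T O E : Subgroup H} {H₁ : Subgroup V} {e : H}

/-- **(b)** -/
theorem act [Finite H] [Finite V] (h : MF ρ S T O E ξ H₁) (hn : (zpowers ξ).Normal) (h4 : (fx ρ ξ).index = 4) (g : H) :
    ∃ k ∈ T ⊔ zpowers ξ, ∀ v ∈ (cm ρ ξ).range, ρ g v = ρ k v :=
  (Xf.of_mf h).act hn h4 g

/-- **(d), `OutA`** : (D4) -/
theorem d4 [Finite H] [Finite V] (h : MF ρ S T O E ξ H₁) (hA : OutA ρ E ξ e) (hb : fx ρ ξ = ⊥) :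
    Nat.card V = 16 ∧ Nat.card H = 6 ∧ S = zpowers e ∧ Nat.card (CS ρ S) = 4 ∧
      (CS ρ S ⊓ (CS ρ S).map (ρ ξ : V ≃* V).toMonoidHom = ⊥) :=
  (Xf.of_mf h).d4 hA hb

end MF

end Cfsg.Agent.OddCyclic.Bc.XiNorm

private theorem dce_333793bc0b0b : _root_.True := by
  try have : _root_.True := by simp only [_root_.Cfsg.Agent.OddCyclic.Bc.XiNorm.W₀.eq_1]
  try have : _root_.True := by simp only [_root_.Cfsg.Agent.OddCyclic.Bc.XiNorm.D₀.eq_1]
  exact _root_.True.intro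
end

-- part: OddCyclic/GamNSec
section
set_option linter.all false
open scoped Cfsg.Agent.FastGrp

/-!
# The section `N / Z` as a module for a group `C`

`SecZ N C Z`: `Z ≤ N ≤ C`, `C` normalizes `N` and `Z` and the squares of elements of `N` are in `Z`. Then `N / Z` is an
additive group of exponent two (`MZ s`) with an action of `C`.  (Compare `MinSimple/Sec.lean`.)
-/

set_option autoImplicit false
set_option linter.dupNamespace false
set_option linter.unusedTactic false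

namespace Cfsg.Agent.OddCyclic.GamNSec

open Subgroup

universe u

variable {G : Type u} [Group G]

/-- The section `N / Z` with the action of `C`. -/
structure SecZ (N C Z : Subgroup G) : Prop where
  ZN : Z ≤ N
  NC : N ≤ C
  CZ : ∀ c ∈ C, ∀ n ∈ Z, c * n * c⁻¹ ∈ Z
  CN : ∀ c ∈ C, ∀ n ∈ N, c * n * c⁻¹ ∈ N
  sq : ∀ n ∈ N, n * n ∈ Z

variable {N C Z : Subgroup G}

namespace SecZ

theorem comm_mem (s : SecZ N C Z) {a b : G} (ha : a ∈ N) (hb : b ∈ N) : a * b * a⁻¹ * b⁻¹ ∈ Z := by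
  have h1 := s.sq _ (mul_mem ha hb)
  have h2 := s.sq _ ha
  have h3 := s.sq _ hb
  have e : a * b * a⁻¹ * b⁻¹ = (a * b * (a * b)) * (b⁻¹ * (a * a)⁻¹ * b⁻¹⁻¹) * (b * b)⁻¹ := by group
  rw [e]
  exact mul_mem (mul_mem h1 (s.CZ _ (inv_mem (s.NC hb)) _ (inv_mem h2))) (inv_mem h3)

theorem normal (s : SecZ N C Z) : (Z.subgroupOf N).Normal := by
  constructor
  intro n hn g
  rw [mem_subgroupOf] at hn ⊢
  exact s.CZ _ (s.NC g.2) _ hn

end SecZ

/-- `N / Z` -/
def MZ (_ : SecZ N C Z) : Type u := Additive (↥N ⧸ Z.subgroupOf N)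

namespace MZ

variable (s : SecZ N C Z)

instance : AddCommGroup (MZ s) := by
  letI : (Z.subgroupOf N).Normal := s.normal
  letI : CommGroup (↥N ⧸ Z.subgroupOf N) :=
    { (inferInstance : Group (↥N ⧸ Z.subgroupOf N)) with
      mul_comm := by
        intro x y
        obtain ⟨a, rfl⟩ := QuotientGroup.mk_surjective x
        obtain ⟨b, rfl⟩ := QuotientGroup.mk_surjective y
        rw [← QuotientGroup.mk_mul, ← QuotientGroup.mk_mul, QuotientGroup.eq, mem_subgroupOf]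
        have h1 := s.comm_mem (inv_mem b.2) (inv_mem a.2)
        have h2 : (((a * b)⁻¹ * (b * a) : N) : G) = (b : G)⁻¹ * (a : G)⁻¹ * (b : G)⁻¹⁻¹ * (a : G)⁻¹⁻¹ := by
          simp [mul_assoc]
        rw [h2]; exact h1 }
  exact inferInstanceAs (AddCommGroup (Additive (↥N ⧸ Z.subgroupOf N)))

instance [Finite G] : Finite (MZ s) := inferInstanceAs (Finite (↥N ⧸ Z.subgroupOf N))

variable {s}

/-- the class of an element of `N` -/
def mk (s : SecZ N C Z) (n : G) (hn : n ∈ N) : MZ s :=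
  Additive.ofMul (QuotientGroup.mk (⟨n, hn⟩ : N) : ↥N ⧸ Z.subgroupOf N)

theorem mk_surj (x : MZ s) : ∃ n, ∃ hn : n ∈ N, mk s n hn = x := by
  obtain ⟨⟨n, hn⟩, h⟩ := QuotientGroup.mk_surjective (s := Z.subgroupOf N) (Additive.toMul x)
  exact ⟨n, hn, h⟩

theorem mk_mul {a b : G} (ha : a ∈ N) (hb : b ∈ N) :
    mk s (a * b) (mul_mem ha hb) = mk s a ha + mk s b hb := rfl

theorem mk_one : mk s 1 (one_mem N) = 0 := rfl

theorem mk_eq {a b : G} (ha : a ∈ N) (hb : b ∈ N) : mk s a ha = mk s b hb ↔ a⁻¹ * b ∈ Z := by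
  have h1 : mk s a ha = mk s b hb ↔ (QuotientGroup.mk (⟨a, ha⟩ : N) : ↥N ⧸ Z.subgroupOf N) =
    QuotientGroup.mk (⟨b, hb⟩ : N) := Iff.rfl
  rw [h1, QuotientGroup.eq, mem_subgroupOf]
  rfl

theorem mk_eq_zero {a : G} (ha : a ∈ N) : mk s a ha = 0 ↔ a ∈ Z := by
  rw [← mk_one, eq_comm, mk_eq, inv_one, one_mul]

theorem add_self (x : MZ s) : x + x = 0 := by
  obtain ⟨a, ha, rfl⟩ := mk_surj x
  rw [← mk_mul, mk_eq_zero]
  exact s.sq _ ha

theorem neg_eq (x : MZ s) : -x = x := neg_eq_of_add_eq_zero_left (add_self x)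

theorem mk_inv {a : G} (ha : a ∈ N) : mk s a⁻¹ (inv_mem ha) = mk s a ha := by
  have h1 : mk s (a⁻¹ * a) (mul_mem (inv_mem ha) ha) = 0 := by
    rw [mk_eq_zero, inv_mul_cancel]; exact one_mem _
  rw [mk_mul] at h1
  have := eq_neg_of_add_eq_zero_left h1
  rwa [neg_eq] at this

/-- the action of `C` -/
instance : DistribMulAction C (MZ s) where
  smul c x := Quotient.liftOn' (Additive.toMul x)
    (fun n : N => (mk s ((c : G) * n * (c : G)⁻¹) (s.CN c c.2 n n.2)))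
    (by
      intro a b hab
      rw [QuotientGroup.leftRel_apply, mem_subgroupOf] at hab
      change mk s _ _ = mk s _ _
      rw [mk_eq]
      have hab' : (a : G)⁻¹ * b ∈ Z := hab
      have e : ((c : G) * a * (c : G)⁻¹)⁻¹ * (c * b * (c : G)⁻¹) = c * ((a : G)⁻¹ * b) * (c : G)⁻¹ := by group
      rw [e]
      exact s.CZ c c.2 _ hab')
  one_smul := by
    intro x
    obtain ⟨a, ha, rfl⟩ := mk_surj x
    change mk s _ _ = mk s _ _
    rw [mk_eq]
    have e : (((1 : C) : G) * a * ((1 : C) : G)⁻¹)⁻¹ * a = 1 := by simp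
    change (((1 : C) : G) * a * ((1 : C) : G)⁻¹)⁻¹ * a ∈ _
    rw [e]; exact one_mem _
  mul_smul := by
    intro c d x
    obtain ⟨a, ha, rfl⟩ := mk_surj x
    change mk s _ _ = mk s _ _
    rw [mk_eq]
    change (((c * d : C) : G) * a * ((c * d : C) : G)⁻¹)⁻¹ * (c * (d * a * (d : G)⁻¹) * (c : G)⁻¹) ∈ _
    have e : (((c * d : C) : G) * a * ((c * d : C) : G)⁻¹)⁻¹ * (c * (d * a * (d : G)⁻¹) * (c : G)⁻¹) = 1 := by
      have : ((c * d : C) : G) = c * d := rfl
      rw [this]; group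
    rw [e]; exact one_mem _
  smul_zero := by
    intro c
    change mk s _ _ = 0
    rw [mk_eq_zero]
    change (c : G) * 1 * (c : G)⁻¹ ∈ _
    rw [mul_one, mul_inv_cancel]; exact one_mem _
  smul_add := by
    intro c x y
    obtain ⟨a, ha, rfl⟩ := mk_surj x
    obtain ⟨b, hb, rfl⟩ := mk_surj y
    change mk s _ _ = mk s _ _ + mk s _ _
    rw [← mk_mul, mk_eq]
    change (c * (a * b) * (c : G)⁻¹)⁻¹ * (c * a * (c : G)⁻¹ * (c * b * (c : G)⁻¹)) ∈ _
    have e : (c * (a * b) * (c : G)⁻¹)⁻¹ * (c * a * (c : G)⁻¹ * (c * b * (c : G)⁻¹)) = 1 := by group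
    rw [e]; exact one_mem _

theorem smul_mk (c : C) {a : G} (ha : a ∈ N) : c • mk s a ha = mk s ((c : G) * a * (c : G)⁻¹) (s.CN c c.2 a ha) := rfl

/-- the cardinality of the section -/
theorem card_mul (s : SecZ N C Z) : Nat.card (MZ s) * Nat.card Z = Nat.card N := by
  have h1 := Subgroup.card_eq_card_quotient_mul_card_subgroup (Z.subgroupOf N)
  rw [h1]
  congr 1
  exact (Nat.card_congr (subgroupOfEquivOfLe s.ZN).toEquiv).symm

end MZ

end Cfsg.Agent.OddCyclic.GamNSec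
end

-- part: OddCyclic/GamNLoc
section
set_option linter.all false
open scoped Cfsg.Agent.FastGrp

/-!
# A nonabelian group `W` of order 64 with `W' = Φ(W) = ⟨x⟩`, `|Z(W)| = 4` and `ΓL₂(4)` on `W/Z(W)`

`NLoc W x ρ`; all consequences of `GamMod` are transferred to statements on elements of `G`.
-/

set_option autoImplicit false
set_option linter.dupNamespace false
set_option linter.unusedSectionVars false

namespace Cfsg.Agent.OddCyclic.GamNLoc

open Subgroup GamPerm GamMod GamLoc GamNSec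

universe u

variable {G : Type u} [Group G]

/-- the centre of `W` -/
def zz (W : Subgroup G) : Subgroup G := W ⊓ centralizer (W : Set G)

theorem mem_zz {W : Subgroup G} {a : G} : a ∈ zz W ↔ a ∈ W ∧ ∀ w ∈ W, w * a = a * w := by
  unfold zz
  rw [mem_inf, mem_centralizer_iff]
  rfl

theorem zz_comm {W : Subgroup G} {a w : G} (ha : a ∈ zz W) (hw : w ∈ W) : a * w = w * a :=
  ((mem_zz.mp ha).2 w hw).symm

structure NLoc (W : Subgroup G) (x : G) (ρ : centralizer ({x} : Set G) →* S5) : Prop where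
  x_ne : x ≠ 1
  xx : x * x = 1
  x_mem : x ∈ W
  le : W ≤ centralizer ({x} : Set G)
  norm : ∀ c ∈ centralizer ({x} : Set G), ∀ w ∈ W, c * w * c⁻¹ ∈ W
  sq : ∀ a ∈ W, a * a = 1 ∨ a * a = x
  card : Nat.card W = 64
  cardZ : Nat.card (zz W) = 4
  even : ∀ g : S5, Equiv.Perm.sign g = 1 → ∃ c, ρ c = g
  ker : ∀ c, ρ c = 1 ↔ ∀ w ∈ W, Cg x ((c : G) * w * (c : G)⁻¹) w
  fpf : ∀ c, O3 (ρ c) → ∀ w ∈ W, (c : G) * w * (c : G)⁻¹ * w⁻¹ ∈ zz W → w ∈ zz W
  inv : ∃ v ∈ W, v ∉ zz W ∧ v * v = 1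

namespace NLoc

variable {W : Subgroup G} {x : G} {ρ : centralizer ({x} : Set G) →* S5}

theorem x_comm (h : NLoc W x ρ) {w : G} (hw : w ∈ W) : w * x = x * w :=
  mem_centralizer_singleton_iff.mp (h.le hw)

theorem x_inv (h : NLoc W x ρ) : x⁻¹ = x := inv_eq_of_mul_eq_one_left h.xx

theorem conj_x (_ : NLoc W x ρ) (c : centralizer ({x} : Set G)) : (c : G) * x * (c : G)⁻¹ = x := by
  rw [mem_centralizer_singleton_iff.mp c.2, mul_inv_cancel_right]

theorem x_zz (h : NLoc W x ρ) : x ∈ zz W := mem_zz.mpr ⟨h.x_mem, fun _ hw => h.x_comm hw⟩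

theorem sq_zz (h : NLoc W x ρ) {a : G} (ha : a ∈ W) : a * a ∈ zz W := by
  rcases h.sq a ha with e | e
  · rw [e]; exact one_mem _
  · rw [e]; exact h.x_zz

theorem conj_zz (h : NLoc W x ρ) {c : G} (hc : c ∈ centralizer ({x} : Set G)) {a : G} (ha : a ∈ zz W) :
    c * a * c⁻¹ ∈ zz W := by
  rw [mem_zz] at ha ⊢
  refine ⟨h.norm c hc a ha.1, fun w hw => ?_⟩
  have h1 := h.norm c⁻¹ (inv_mem hc) w hw
  rw [inv_inv] at h1
  have h2 := ha.2 _ h1
  calc w * (c * a * c⁻¹) = c * (c⁻¹ * w * c * a) * c⁻¹ := by group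
    _ = c * (a * (c⁻¹ * w * c)) * c⁻¹ := by rw [h2]
    _ = c * a * c⁻¹ * w := by group

theorem sec (h : NLoc W x ρ) : SecZ W (centralizer ({x} : Set G)) (zz W) where
  ZN := inf_le_left
  NC := h.le
  CZ := fun _ hc _ ha => h.conj_zz hc ha
  CN := h.norm
  sq := fun _ ha => h.sq_zz ha

/-- commutators are in `⟨x⟩` -/
theorem comm_cases (h : NLoc W x ρ) {a b : G} (ha : a ∈ W) (hb : b ∈ W) :
    a * b * a⁻¹ = b ∨ a * b * a⁻¹ = b * x := by
  have hx : ∀ {t : G}, (t = 1 ∨ t = x) → t⁻¹ = 1 ∨ t⁻¹ = x := by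
    rintro t (rfl | rfl)
    · left; simp
    · right; exact h.x_inv
  have hm : ∀ {s t : G}, (s = 1 ∨ s = x) → (t = 1 ∨ t = x) → s * t = 1 ∨ s * t = x := by
    rintro s t (rfl | rfl) (rfl | rfl) <;> simp [h.xx]
  have hcj : ∀ {t : G}, (t = 1 ∨ t = x) → b⁻¹ * t * b = 1 ∨ b⁻¹ * t * b = x := by
    rintro t (rfl | rfl)
    · left; simp
    · right
      have : t * b = b * t := (h.x_comm hb).symm
      rw [mul_assoc, this, inv_mul_cancel_left]
  have h1 := h.sq _ (mul_mem ha hb)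
  have h2 := h.sq _ ha
  have h3 := h.sq _ hb
  have e : a * b * a⁻¹ * b⁻¹ = (a * b * (a * b)) * (b⁻¹ * (a * a)⁻¹ * b) * (b * b)⁻¹ := by group
  have h4 : a * b * a⁻¹ * b⁻¹ = 1 ∨ a * b * a⁻¹ * b⁻¹ = x := by
    rw [e]; exact hm (hm h1 (hcj (hx h2))) (hx h3)
  rcases h4 with e1 | e1
  · left
    calc a * b * a⁻¹ = (a * b * a⁻¹ * b⁻¹) * b := by group
      _ = b := by rw [e1, one_mul]
  · right
    calc a * b * a⁻¹ = (a * b * a⁻¹ * b⁻¹) * b := by group
      _ = b * x := by rw [e1, h.x_comm hb]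

theorem finite_Z (h : NLoc W x ρ) : Finite (zz W) := Nat.finite_of_card_ne_zero (by rw [h.cardZ]; norm_num)

theorem mk_eq_iff (h : NLoc W x ρ) {a b : G} (ha : a ∈ W) (hb : b ∈ W) :
    MZ.mk h.sec a ha = MZ.mk h.sec b hb ↔ a⁻¹ * b ∈ zz W := MZ.mk_eq ha hb

theorem mk_eq_iff' (h : NLoc W x ρ) {a b : G} (ha : a ∈ W) (hb : b ∈ W) :
    MZ.mk h.sec a ha = MZ.mk h.sec b hb ↔ ∃ ζ ∈ zz W, a = b * ζ := by
  rw [h.mk_eq_iff ha hb]
  constructor
  · intro h1
    exact ⟨(a⁻¹ * b)⁻¹, inv_mem h1, by group⟩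
  · rintro ⟨ζ, hζ, rfl⟩
    have e : (b * ζ)⁻¹ * b = ζ⁻¹ := by
      calc (b * ζ)⁻¹ * b = ζ⁻¹ * (b⁻¹ * b) := by group
        _ = ζ⁻¹ := by rw [inv_mul_cancel, mul_one]
    rw [e]; exact inv_mem hζ

theorem mk_eq_zero_iff (h : NLoc W x ρ) {a : G} (ha : a ∈ W) :
    MZ.mk h.sec a ha = 0 ↔ a ∈ zz W := MZ.mk_eq_zero ha

theorem card_mod (h : NLoc W x ρ) : Nat.card (MZ h.sec) = 16 := by
  have h1 := MZ.card_mul h.sec
  rw [h.card, h.cardZ] at h1
  omega

theorem nat5 (h : NLoc W x ρ) : Nat5 ρ (MZ h.sec) where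
  even := h.even
  ker := by
    intro c hc m
    obtain ⟨n, hn, rfl⟩ := MZ.mk_surj m
    rw [MZ.smul_mk, h.mk_eq_iff']
    rcases (h.ker c).mp hc n hn with e | e
    · exact ⟨1, one_mem _, by rw [e, mul_one]⟩
    · exact ⟨x, h.x_zz, e⟩
  card := h.card_mod
  add_self := MZ.add_self
  fpf := by
    intro c hc m hm
    obtain ⟨n, hn, rfl⟩ := MZ.mk_surj m
    rw [MZ.smul_mk, h.mk_eq_iff'] at hm
    rw [h.mk_eq_zero_iff]
    obtain ⟨ζ, hζ, e⟩ := hm
    refine h.fpf c hc n hn ?_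
    rw [e]
    have : n * ζ * n⁻¹ = ζ := by rw [← zz_comm hζ hn, mul_inv_cancel_right]
    rw [this]; exact hζ

/-! ### consequences -/

theorem trans (h : NLoc W x ρ) {p q : G} (hp : p ∈ W) (hq : q ∈ W) (hp1 : p ∉ zz W) (hq1 : q ∉ zz W) :
    ∃ c : centralizer ({x} : Set G), ∃ ζ ∈ zz W, (c : G) * p * (c : G)⁻¹ = q * ζ := by
  obtain ⟨c, _, h1⟩ := h.nat5.trans (m := MZ.mk h.sec p hp) (n := MZ.mk h.sec q hq)
    (by rwa [Ne, h.mk_eq_zero_iff]) (by rwa [Ne, h.mk_eq_zero_iff])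
  rw [MZ.smul_mk, h.mk_eq_iff'] at h1
  exact ⟨c, h1⟩

theorem exists_cyc (h : NLoc W x ρ) {p q : G} (hp : p ∈ W) (hq : q ∈ W) (hp1 : p ∉ zz W) (hq1 : q ∉ zz W)
    (hpq : p * q ∉ zz W) :
    ∃ c, O3 (ρ c) ∧ (∃ ζ ∈ zz W, (c : G) * p * (c : G)⁻¹ = q * ζ) ∧
      ∃ ζ ∈ zz W, (c : G) * q * (c : G)⁻¹ = p * q * ζ := by
  have hne : MZ.mk h.sec p hp ≠ MZ.mk h.sec q hq := by
    intro e
    apply hpq
    rw [← h.mk_eq_zero_iff (mul_mem hp hq), MZ.mk_mul hp hq, e, MZ.add_self]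
  obtain ⟨c, hc, h1, h2⟩ := h.nat5.exists_cyc (by rwa [Ne, h.mk_eq_zero_iff]) (by rwa [Ne, h.mk_eq_zero_iff]) hne
  rw [MZ.smul_mk, h.mk_eq_iff'] at h1
  rw [MZ.smul_mk, ← MZ.mk_mul, h.mk_eq_iff'] at h2
  exact ⟨c, hc, h1, h2⟩

/-- `m · m^c · m^(cc) ∈ Z(W)` -/
theorem three_sum (h : NLoc W x ρ) {c : centralizer ({x} : Set G)} (hc : O3 (ρ c)) {w : G} (hw : w ∈ W) :
    w * ((c : G) * w * (c : G)⁻¹) * ((c : G) * ((c : G) * w * (c : G)⁻¹) * (c : G)⁻¹) ∈ zz W := by
  have h1 := h.nat5.three_sum hc (MZ.mk h.sec w hw)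
  have hcw := h.norm c c.2 w hw
  have hccw := h.norm c c.2 _ hcw
  rw [MZ.smul_mk, MZ.smul_mk, ← MZ.mk_mul, ← MZ.mk_mul, h.mk_eq_zero_iff] at h1
  exact h1

/-- involutions: `C_{W/Z}(c) = [W/Z, c]` -/
theorem exists_comm (h : NLoc W x ρ) {c : centralizer ({x} : Set G)} (hc : ρ c * ρ c = 1) (hc1 : ρ c ≠ 1)
    {w : G} (hw : w ∈ W) (hcw : (c : G) * w * (c : G)⁻¹ * w⁻¹ ∈ zz W) :
    ∃ n ∈ W, w⁻¹ * ((c : G) * n * (c : G)⁻¹ * n⁻¹) ∈ zz W := by
  have h0 : c • MZ.mk h.sec w hw = MZ.mk h.sec w hw := by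
    rw [MZ.smul_mk, h.mk_eq_iff']
    refine ⟨(c : G) * w * (c : G)⁻¹ * w⁻¹, hcw, ?_⟩
    rw [← zz_comm hcw hw]; group
  obtain ⟨m, hm⟩ := (h.nat5.mem_fx_iff hc hc1).mp h0
  obtain ⟨n, hn, rfl⟩ := MZ.mk_surj m
  have h2 := MZ.mk_inv (s := h.sec) hn
  rw [MZ.smul_mk, ← h2, ← MZ.mk_mul, h.mk_eq_iff] at hm
  exact ⟨n, hn, hm⟩

theorem congr (h : NLoc W x ρ) {c d : centralizer ({x} : Set G)} (hcd : ρ c = ρ d) {w : G} (hw : w ∈ W) :
    ∃ ζ ∈ zz W, (c : G) * w * (c : G)⁻¹ = (d : G) * w * (d : G)⁻¹ * ζ := by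
  have h1 := h.nat5.congr hcd (MZ.mk h.sec w hw)
  rwa [MZ.smul_mk, MZ.smul_mk, h.mk_eq_iff'] at h1

/-- some element of `Z(W)` has square `x` -/
theorem exists_four (h : NLoc W x ρ) : ∃ ζ ∈ zz W, ζ * ζ = x := by
  by_contra hcon
  push Not at hcon
  have hZ : ∀ ζ ∈ zz W, ζ * ζ = 1 := by
    intro ζ hζ
    rcases h.sq ζ hζ.1 with e | e
    · exact e
    · exact absurd e (hcon ζ hζ)
  obtain ⟨v, hv, hvZ, hv2⟩ := h.inv
  have hall : ∀ w ∈ W, w * w = 1 := by
    intro w hw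
    by_cases hwZ : w ∈ zz W
    · exact hZ w hwZ
    · obtain ⟨c, ζ, hζ, e⟩ := h.trans hv hw hvZ hwZ
      have e1 : w = (c : G) * v * (c : G)⁻¹ * ζ⁻¹ := by rw [e]; group
      have hζ' : ζ⁻¹ ∈ zz W := inv_mem hζ
      have hcv := h.norm c c.2 v hv
      calc w * w = ((c : G) * v * (c : G)⁻¹) * (ζ⁻¹ * ((c : G) * v * (c : G)⁻¹)) * ζ⁻¹ := by rw [e1]; group
        _ = ((c : G) * v * (c : G)⁻¹) * (((c : G) * v * (c : G)⁻¹) * ζ⁻¹) * ζ⁻¹ := by rw [zz_comm hζ' hcv]
        _ = (c : G) * (v * v) * (c : G)⁻¹ * (ζ⁻¹ * ζ⁻¹) := by group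
        _ = 1 := by rw [hv2, hZ _ hζ']; group
  apply hvZ
  rw [mem_zz]
  refine ⟨hv, fun w hw => ?_⟩
  have h1 := hall w hw
  have h2 := hall v hv
  have h3 := hall _ (mul_mem hw hv)
  calc w * v = (w * v)⁻¹ := (inv_eq_of_mul_eq_one_left h3).symm
    _ = v⁻¹ * w⁻¹ := by group
    _ = v * w := by rw [inv_eq_of_mul_eq_one_left h1, inv_eq_of_mul_eq_one_left h2]

end NLoc

end Cfsg.Agent.OddCyclic.GamNLoc
end

-- part: OddCyclic/EmpC/Main
section
set_option linter.all false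
open scoped Cfsg.Agent.FastGrp

/-!
# CLAIM C: the outcome

* `Beta` : the outcome (β');
* `main` : `K = SL₂(q)`, `E` faithful on `K`, or `Beta`.
-/

set_option autoImplicit false
set_option linter.unusedSectionVars false

namespace Cfsg.Agent.OddCyclic.EmpC

open Subgroup Cfsg.Agent.OddCyclic.T1Module Cfsg.Agent.OddCyclic.FFBasic Cfsg.Agent.OddCyclic.FFRed
open Cfsg.Agent.OddCyclic.T1Defs
open Cfsg.Agent.OddCyclic.PumpMain (KZero)
open Cfsg.Agent.OddCyclic.ClaimC.WDefs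

theorem rsz_of {J : Type*} [Group J] [Finite J] (h : Cfsg.Lie.IsoSuzuki J) : ∃ q, RSz J q := by
  obtain ⟨f, hf, -, -, h1, h2⟩ := ClaimC.Sz.sz h
  refine ⟨2 ^ f, ?_, h1, ?_⟩
  · calc 2 = 2 ^ 1 := by norm_num
      _ ≤ 2 ^ f := Nat.pow_le_pow_right (by norm_num) (by omega)
  · intro k hk hk1
    obtain ⟨r, y, hr, hr2, hy, hky, hd⟩ := h2 k hk hk1
    refine ⟨y, r, hr, hr2, hy, hky, fun d hd0 hdr => ?_⟩
    rw [← pow_mul]
    exact Nat.pow_le_pow_right (by norm_num) (by have := hd d hd0 hdr; omega)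

/-- **(β')** -/
structure Beta {H : Type*} [Group H] {V : Type*} [CommGroup V] (ρ : H →* MulAut V) (E : Subgroup H)
    (R D : Subgroup V) : Prop where
  card_E : Nat.card E = 4
  index : D.index = 2
  eq : CS ρ E = R
  ex : ∃ K : Subgroup H, K.Normal ∧ IsSimpleGroup K ∧ Nat.card K = 168 ∧ E ≤ K ∧
    ∃ x ∈ K, orderOf x = 3 ∧ x ∈ normalizer (E : Set H) ∧ ∃ r ∈ R, ρ x r ≠ r

variable {H : Type*} [Group H] {V : Type*} [CommGroup V] [Finite H] [Finite V] {ρ : H →* MulAut V} {T : Sylow 2 H}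
  {E : Subgroup H} {R D : Subgroup V} {c d : ℕ}

/-- CLAIM C up to the case `K = SL₂(q)` -/
theorem main_cases (h : Cfg ρ E R D c d) (hB : Bad ρ T) (hN : NFF ρ) (hV : ∀ v : V, v * v = 1)
    (hρ : Function.Injective ρ) (hc : OddCyc H)
    (hk : ∀ J : Subgroup H, IsSimpleGroup J → (∃ x y : J, x * y ≠ y * x) → KZero J) (h2 : pCore 2 H = ⊥) :
    (∃ L : Subgroup H, L.Normal ∧ IsSimpleGroup L ∧ Fw ρ L E ∧ ∃ (F : Type) (_ : Field F) (_ : Fintype F) (_ : CharP F 2),
      4 ≤ Fintype.card F ∧ Nonempty (Matrix.SpecialLinearGroup (Fin 2) F ≃* L)) ∨ Beta ρ E R D := by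
  rcases cases_ h hB hN hV hρ hc hk h2 (fun K hK => rsz_of hK) with h1 | h1
  · exact Or.inl h1
  · obtain ⟨L, hL, hs, hf, hEL, h4, F, i1, i2, hF, ⟨Rp⟩⟩ := h1
    right
    exact ⟨h4, index_eq_two h hN hV h4, CSE_eq h hN hV h4, L, hL, hs, (FFThree.l32_of Rp hF).card, hEL,
      beta h hN hV hc hL hs Rp hF hEL h4⟩

end Cfsg.Agent.OddCyclic.EmpC
end

-- part: OddCyclic/BTwoLin/Socle
section
set_option linter.all false
open scoped Cfsg.Agent.FastGrp

/-!
# S0342, (E1), case `b = 2`: the socle of `X` (section 2 of blueprints/S0342-Ba-helper208.md)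

`main'`: in the situation `Lin`, if `X` has no normal subgroup of prime order and no component `Sz(q)`, then there is a
normal subgroup `K` with `C_X(K) = 1` and `K ≃ SL₂(q)`, `q ≥ 4` even, or `K ≃ PSL₂(7)`, `c = 2`.
-/

set_option autoImplicit false
set_option linter.unusedSectionVars false

namespace Cfsg.Agent.OddCyclic.BTwoLin.Socle

open Subgroup Cfsg Cfsg.Agent.LieExceptional.CITDefs Cfsg.Agent.OddCyclic.T1Defs Cfsg.Agent.OddCyclic.FFBasic
  Cfsg.Agent.OddCyclic.FFRed Cfsg.Agent.OddCyclic.FFSl2 Cfsg.Agent.OddCyclic.CompBasic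
  Cfsg.Agent.OddCyclic.FFStruct
open Cfsg.Agent.OddCyclic.PumpMain (KZero)
open Cfsg.Agent.SignalizersComponents.Components

section struct

variable {X : Type*} [Group X] [Finite X]

/-- no normal 2-subgroup, no normal subgroup of prime order: the Fitting subgroup is trivial -/
theorem fitting_eq_bot (hc : OddCyc X) (h2 : pCore 2 X = ⊥)
    (hfit : ∀ y : X, (orderOf y).Prime → ¬ (zpowers y).Normal) : fittingSubgroup X = ⊥ := by
  by_contra hne
  have hn : (fittingSubgroup X).Normal := Cfsg.Agent.Lib.Cores.fittingSubgroup_normal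
  have hcyc := isCyclic_fitting hc h2
  have hcard : Nat.card (fittingSubgroup X) ≠ 1 := by
    rwa [Ne, Subgroup.card_eq_one]
  obtain ⟨p, hp, hpd⟩ := Nat.exists_prime_and_dvd hcard
  have : Fact p.Prime := ⟨hp⟩
  obtain ⟨y, hy⟩ := exists_prime_orderOf_dvd_card' (G := fittingSubgroup X) p hpd
  have hy' : orderOf (y : X) = p := by rw [Subgroup.orderOf_coe]; exact hy
  refine hfit (y : X) (by rw [hy']; exact hp) ⟨fun n hn' g => ?_⟩
  have h1 : g * (y : X) * g⁻¹ ∈ fittingSubgroup X := hn.conj_mem y y.2 g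
  have h3 : orderOf (⟨g * y * g⁻¹, h1⟩ : fittingSubgroup X) = orderOf y := by
    rw [Subgroup.orderOf_mk, ← Subgroup.orderOf_coe y]
    exact (MulAut.conj g).orderOf_eq (y : X)
  have h4 := zpowers_eq_of_cyclic h3
  have h5 : g * (y : X) * g⁻¹ ∈ zpowers (y : X) := by
    have h6 : (⟨g * y * g⁻¹, h1⟩ : fittingSubgroup X) ∈ zpowers y := by
      rw [← h4]; exact mem_zpowers _
    obtain ⟨k, hk⟩ := h6
    exact ⟨k, congrArg Subtype.val hk⟩
  obtain ⟨k, rfl⟩ := hn'
  show g * (y : X) ^ k * g⁻¹ ∈ zpowers (y : X)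
  rw [← conj_zpow]
  exact zpow_mem h5 k

/-- an element centralising all the components is trivial -/
theorem eq_one_of_cent (hF : fittingSubgroup X = ⊥) {x : X}
    (h3 : ∀ K : Subgroup X, IsComponent K → x ∈ centralizer (K : Set X)) : x = 1 := by
  set C := centralizer (generalizedFittingSubgroup X : Set X) with hC
  have hFn : (generalizedFittingSubgroup X).Normal := Cfsg.Agent.Lib.GenFitting.genFitting_normal
  have hCn : C.Normal := by rw [hC]; infer_instance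
  have hle : C ≤ generalizedFittingSubgroup X := Cfsg.Agent.Lib.GenFitting.centralizer_genFitting_le
  have hxC : x ∈ C := by
    rw [hC, mem_centralizer_iff]
    have h4 : generalizedFittingSubgroup X ≤ centralizer ({x} : Set X) := by
      rw [Cfsg.Agent.Lib.GenFitting.genFitting_def, hF, sup_bot_eq, layer_le_iff]
      intro K hK k hk
      rw [mem_centralizer_singleton_iff]
      exact (mem_centralizer_iff.mp (h3 K hK)) k hk
    intro y hy
    exact mem_centralizer_singleton_iff.mp (h4 hy)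
  have hab : ∀ u ∈ C, ∀ v ∈ C, u * v = v * u := by
    intro u hu v hv
    exact ((mem_centralizer_iff.mp hv) u (hle hu))
  have hnil : Group.IsNilpotent C := by
    let _ : CommGroup C := { (inferInstance : Group C) with mul_comm := fun u v => Subtype.ext (hab u u.2 v v.2) }
    infer_instance
  have hxF : x ∈ fittingSubgroup X := Cfsg.Agent.Lib.Cores.le_fittingSubgroup hCn hnil hxC
  rwa [hF, Subgroup.mem_bot] at hxF

end struct

/-- `A` is elementary abelian and acts faithfully on `L` -/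
structure Fa {H : Type*} [Group H] (L A : Subgroup H) : Prop where
  sq : ∀ a ∈ A, a * a = 1
  faith : ∀ a ∈ A, (∀ l ∈ L, a * l = l * a) → a = 1

section psl

open Cfsg.Agent.OddCyclic.PGLTorus Cfsg.Agent.OddCyclic.FFPslMat

variable {H : Type*} [Group H] [Finite H] {L A : Subgroup H} [L.Normal] {F : Type*} [Field F] [Finite F]
  (R : Cfsg.Agent.GH.L2Aut.Rep F L)

local notation "ψ" => (MulAut.conjNormal (H := L))

theorem psi_ne (h : Fa L A) {a : H} (ha : a ∈ A) (ha1 : a ≠ 1) : ψ a ≠ 1 := by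
  intro h1
  apply ha1
  apply h.faith a ha
  intro l hl
  have h2 := congrArg (fun α : MulAut L => ((α ⟨l, hl⟩ : L) : H)) h1
  simp only [MulAut.conjNormal_apply, MulAut.one_apply] at h2
  exact mul_inv_eq_iff_eq_mul.1 h2

theorem psi_sq (h : Fa L A) {a : H} (ha : a ∈ A) : ψ a * ψ a = 1 := by
  rw [← map_mul, h.sq a ha, map_one]

/-- the matrix of `a ∈ A` -/
theorem exists_mat (h : Fa L A) (hF : (Nat.card F).Prime) {a : H} (ha : a ∈ A) (ha1 : a ≠ 1) :
    ∃ γ : GL (Fin 2) F, γ.1.trace = 0 ∧ R.gl γ = ψ a := by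
  obtain ⟨γ, hγ⟩ := R.mem_PGL.1 (mem_PGL_of_prime R hF (ψ a))
  refine ⟨γ, ?_, hγ.symm⟩
  apply trace_of_sq R
  · rw [← hγ]; exact psi_ne h ha ha1
  · rw [← hγ]; exact psi_sq h ha

/-- the matrices of two different elements are orthogonal -/
theorem orth (h : Fa L A) {a b : H} (ha : a ∈ A) (hb : b ∈ A) (hab : a * b ≠ 1) {γ δ : GL (Fin 2) F}
    (hγ : R.gl γ = ψ a) (hδ : R.gl δ = ψ b) : (γ.1 * δ.1).trace = 0 := by
  have h1 : R.gl (γ * δ) = ψ (a * b) := by rw [map_mul, map_mul, hγ, hδ]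
  have h2 := trace_of_sq R (g := γ * δ) (by rw [h1]; exact psi_ne h (mul_mem ha hb) hab)
    (by rw [h1]; exact psi_sq h (mul_mem ha hb))
  exact h2

include R in
theorem card_le_four (h : Fa L A) (hF : (Nat.card F).Prime) : Nat.card A ≤ 4 := by
  by_contra hcon
  push Not at hcon
  obtain ⟨a, ha, ha1, -, -, -⟩ := JInner.exists_notin A hcon 1 1 1 1
  obtain ⟨b, hb, hb1, hba, -, -⟩ := JInner.exists_notin A hcon 1 a 1 1
  obtain ⟨c, hc, hc1, hca, hcb, hcab⟩ := JInner.exists_notin A hcon 1 a b (a * b)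
  have hinv : ∀ x ∈ A, x⁻¹ = x := fun x hx => inv_eq_of_mul_eq_one_left (h.sq x hx)
  have hne : ∀ x ∈ A, ∀ y ∈ A, x ≠ y → x * y ≠ 1 := by
    intro x hx y hy hxy h1
    apply hxy
    rw [← hinv x hx]
    exact (eq_inv_of_mul_eq_one_right h1).symm ▸ rfl
  obtain ⟨γ, hγ0, hγ⟩ := exists_mat R h hF ha ha1
  obtain ⟨δ, hδ0, hδ⟩ := exists_mat R h hF hb hb1
  obtain ⟨ε, hε0, hε⟩ := exists_mat R h hF hc hc1
  have h1 := orth R h ha hb (hne a ha b hb hba.symm) hγ hδ
  have h2 := orth R h ha hc (hne a ha c hc hca.symm) hγ hε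
  have h3 := orth R h hb hc (hne b hb c hc hcb.symm) hδ hε
  have h4 := orth R h (mul_mem ha hb) hc (hne (a * b) (mul_mem ha hb) c hc hcab.symm)
    (γ := γ * δ) (δ := ε) (by rw [map_mul, map_mul, hγ, hδ]) hε
  exact no_three hγ0 hδ0 hε0 h1 h2 h3 h4 R.two

end psl

section j1

open Cfsg.Agent.SporRec.J1.Defs (Local)

variable {H : Type*} [Group H] [Finite H] {L : Subgroup H} [L.Normal]

/-- `J₁` is the whole group -/
theorem mem_of_local (hJ : Local L) {k : L} (hk : orderOf k = 2)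
    (hC : centralizer (L : Set H) = ⊥) (a : H) : a ∈ L := by
  obtain ⟨g, hg⟩ := JInner.inner hJ k hk (MulAut.conjNormal a : MulAut L)
  have hc : (g : H)⁻¹ * a ∈ centralizer (L : Set H) := by
    rw [mem_centralizer_iff]
    intro l hl
    have h1 := congrArg Subtype.val (hg ⟨l, hl⟩)
    rw [MulAut.conjNormal_apply] at h1
    have h2 : a * l * a⁻¹ = g * l * (g : H)⁻¹ := h1
    have h3 : a * l = g * l * (g : H)⁻¹ * a := by rw [← h2]; group
    calc l * ((g : H)⁻¹ * a) = (g : H)⁻¹ * (g * l * (g : H)⁻¹ * a) := by group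
      _ = (g : H)⁻¹ * (a * l) := by rw [h3]
      _ = _ := by group
  rw [hC, Subgroup.mem_bot, inv_mul_eq_one] at hc
  rw [← hc]; exact g.2

theorem card_le_eight (hJ : Local L) {A : Subgroup H} (hA : ∀ a ∈ A, a * a = 1) (hAL : A ≤ L) : Nat.card A ≤ 8 := by
  have h2 : IsPGroup 2 A := fun a => ⟨1, by
    rw [pow_one, pow_two]; exact Subtype.ext (hA a a.2)⟩
  have : Fact (Nat.Prime 2) := ⟨Nat.prime_two⟩
  obtain ⟨n, hn⟩ := IsPGroup.iff_card.1 h2
  have h3 : Nat.card A ∣ Nat.card L := Subgroup.card_dvd_of_le hAL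
  have h4 : n ≤ 3 := by
    by_contra hlt
    apply hJ.two
    refine Dvd.dvd.trans ?_ h3
    rw [hn]
    exact pow_dvd_pow 2 (show 4 ≤ n by omega)
  rw [hn]
  exact Nat.pow_le_pow_right (by norm_num) h4

end j1

section unip

variable {X : Type*} [Group X] {M : Type*} [CommGroup M] {ρ : X →* MulAut M}

theorem cm_mul_self (hM : ∀ v : M, v * v = 1) (y : X) (v : M) : cm ρ y (cm ρ y v) = cm ρ (y * y) v := by
  have hinv : ∀ w : M, w⁻¹ = w := fun w => inv_eq_of_mul_eq_one_left (hM w)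
  simp only [cm_apply, map_mul, hinv, MulAut.mul_apply]
  rw [mul_assoc, ← mul_assoc (ρ y v) (ρ y v) v, hM, one_mul]

/-- the series `M ≥ [M,g] ≥ [M,g,g] ≥ …` -/
def NN (ρ : X →* MulAut M) (g : X) : ℕ → Subgroup M
  | 0 => ⊤
  | k + 1 => (NN ρ g k).map (cm ρ g)

theorem NN_le (g : X) (k : ℕ) : NN ρ g (k + 1) ≤ NN ρ g k := by
  induction k with
  | zero => exact le_top
  | succ k ih => exact Subgroup.map_mono ih

theorem mem_NN (g : X) (k : ℕ) (v : M) : (cm ρ g)^[k] v ∈ NN ρ g k := by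
  induction k with
  | zero => trivial
  | succ k ih => rw [Function.iterate_succ_apply']; exact ⟨_, ih, rfl⟩

theorem exists_NN (g : X) (k : ℕ) {w : M} (hw : w ∈ NN ρ g k) : ∃ v, (cm ρ g)^[k] v = w := by
  induction k generalizing w with
  | zero => exact ⟨w, rfl⟩
  | succ k ih =>
    obtain ⟨u, hu, rfl⟩ := hw
    obtain ⟨v, hv⟩ := ih hu
    exact ⟨v, by rw [Function.iterate_succ_apply', hv]⟩

theorem NN_stable (g : X) {k : ℕ} (h : NN ρ g (k + 1) = NN ρ g k) (j : ℕ) : NN ρ g (k + j) = NN ρ g k := by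
  induction j with
  | zero => rfl
  | succ j ih =>
    have h1 : NN ρ g (k + (j + 1)) = (NN ρ g (k + j)).map (cm ρ g) := rfl
    rw [h1, ih]
    exact h

theorem card_NN [Finite M] (g : X) (n : ℕ) (hn : NN ρ g n = ⊥) (k : ℕ) (hk : NN ρ g k ≠ ⊥) :
    2 ^ k * Nat.card (NN ρ g k) ≤ Nat.card M := by
  induction k with
  | zero =>
    rw [pow_zero, one_mul]
    exact Nat.le_of_dvd Nat.card_pos (Subgroup.card_subgroup_dvd_card _)
  | succ k ih =>
    have hk' : NN ρ g k ≠ ⊥ := fun h => hk (le_bot_iff.1 ((NN_le g k).trans h.le))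
    have h1 := ih hk'
    have hne : NN ρ g (k + 1) ≠ NN ρ g k := by
      intro h
      apply hk'
      have h2 := NN_stable g h n
      rw [← h2, eq_bot_iff, ← hn]
      clear h1 ih hk hk' h h2
      induction k with
      | zero => rw [zero_add]
      | succ k ihk =>
        have h3 : k + 1 + n = (k + n) + 1 := by omega
        rw [h3]
        exact (NN_le g _).trans ihk
    have h2 : 2 * Nat.card (NN ρ g (k + 1)) ≤ Nat.card (NN ρ g k) := by
      have h3 := Subgroup.card_dvd_of_le (NN_le (ρ := ρ) g k)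
      obtain ⟨d, hd⟩ := h3
      have hd0 : d ≠ 0 := by
        rintro rfl
        rw [mul_zero] at hd
        exact Nat.card_pos.ne' hd
      have hd1 : d ≠ 1 := by
        rintro rfl
        rw [mul_one] at hd
        exact hne (Subgroup.eq_of_le_of_card_ge (NN_le g k) hd.le)
      rw [hd, mul_comm]
      exact Nat.mul_le_mul_left _ (by omega)
    calc 2 ^ (k + 1) * Nat.card (NN ρ g (k + 1)) = 2 ^ k * (2 * Nat.card (NN ρ g (k + 1))) := by ring
      _ ≤ 2 ^ k * Nat.card (NN ρ g k) := Nat.mul_le_mul_left _ h2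
      _ ≤ _ := h1

/-- an element of order 16 needs dimension at least 9 -/
theorem pow_eight [Finite M] (hM : ∀ v : M, v * v = 1) {g : X} (hg : g ^ 16 = 1) (hcard : Nat.card M ≤ 2 ^ 8)
    (v : M) : ρ (g ^ 8) v = v := by
  have e2 : ∀ v, (cm ρ g)^[2] v = cm ρ (g ^ 2) v := fun v => by
    rw [pow_two, ← cm_mul_self hM]; rfl
  have e4 : ∀ v, (cm ρ g)^[4] v = cm ρ (g ^ 4) v := fun v => by
    rw [show (4 : ℕ) = 2 + 2 from rfl, Function.iterate_add_apply, e2, e2, cm_mul_self hM, ← pow_add]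
  have e8 : ∀ v, (cm ρ g)^[8] v = cm ρ (g ^ 8) v := fun v => by
    rw [show (8 : ℕ) = 4 + 4 from rfl, Function.iterate_add_apply, e4, e4, cm_mul_self hM, ← pow_add]
  have e16 : ∀ v, (cm ρ g)^[16] v = 1 := fun v => by
    rw [show (16 : ℕ) = 8 + 8 from rfl, Function.iterate_add_apply, e8, e8, cm_mul_self hM, ← pow_add, hg, cm_apply,
      map_one, MulAut.one_apply, mul_inv_cancel]
  have h16 : NN ρ g 16 = ⊥ := by
    rw [eq_bot_iff]
    intro w hw
    obtain ⟨v, rfl⟩ := exists_NN g 16 hw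
    rw [e16]; exact one_mem _
  have h8 : NN ρ g 8 = ⊥ := by
    by_contra hcon
    have h1 := card_NN g 16 h16 8 hcon
    have h2 : 2 ≤ Nat.card (NN ρ g 8) := by
      have h3 : Nat.card (NN ρ g 8) ≠ 1 := fun h => hcon (Subgroup.card_eq_one.1 h)
      have h4 : 0 < Nat.card (NN ρ g 8) := Nat.card_pos
      omega
    omega
  have h1 := mem_NN (ρ := ρ) g 8 v
  rw [h8, Subgroup.mem_bot, e8, cm_apply, mul_inv_eq_one] at h1
  exact h1

end unip

section thirtyone

open Cfsg.Agent.Lib.SL2Mat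

/-- an element of order 32 of `SL₂(31)` -/
def x0 : Matrix.SpecialLinearGroup (Fin 2) (ZMod 31) := ⟨!![0, -1; 1, 10], by decide⟩

theorem x0_pow : x0 ^ 16 = -1 := by decide +kernel

theorem x0_ne : x0 ^ 8 ≠ 1 ∧ x0 ^ 8 ≠ -1 := by decide +kernel

theorem exists_sixteen {F : Type*} [Field F] [Finite F] (hF : Nat.card F = 31) {L : Type*} [Group L]
    (R : Cfsg.Agent.GH.L2Aut.Rep F L) : ∃ g : L, g ^ 16 = 1 ∧ g ^ 8 ≠ 1 := by
  have hch : CharP F 31 := by
    have := FFPsl.charP (F := F) (by rw [hF]; norm_num)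
    rwa [hF] at this
  have hf : Fact (Nat.Prime 31) := ⟨by norm_num⟩
  let φ : ZMod 31 →+* F := ZMod.castHom (dvd_refl 31) F
  have hinj : Function.Injective (Matrix.SpecialLinearGroup.map (n := Fin 2) φ) := by
    intro a b hab
    apply Subtype.ext
    ext i j
    have := congrArg (fun w : Matrix.SpecialLinearGroup (Fin 2) F => w.1 i j) hab
    exact φ.injective this
  have hneg : Matrix.SpecialLinearGroup.map (n := Fin 2) φ (-1) = -1 := by
    apply Subtype.ext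
    ext i j
    fin_cases i <;> fin_cases j <;> simp
  refine ⟨R.π (Matrix.SpecialLinearGroup.map φ x0), ?_, ?_⟩
  · rw [← map_pow, ← map_pow, x0_pow, hneg, R.ker]
    exact Or.inr rfl
  · rw [← map_pow, ← map_pow, Ne, R.ker, not_or]
    refine ⟨fun h => x0_ne.1 (hinj (h.trans (map_one _).symm)), fun h => x0_ne.2 (hinj (h.trans hneg.symm))⟩

end thirtyone

theorem arith {p d : ℕ} (hp : p.Prime) (h7 : 7 ≤ p) (hd : 0 < d) (hd6 : d ≤ 6) (h : p ∣ 2 ^ d - 1) :
    p = 7 ∨ p = 31 := by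
  have hp63 : p ≤ 63 := by
    have h1 : 0 < 2 ^ d - 1 := by
      have : 2 ^ 1 ≤ 2 ^ d := Nat.pow_le_pow_right (by norm_num) hd
      omega
    have h2 := Nat.le_of_dvd h1 h
    have : 2 ^ d ≤ 2 ^ 6 := Nat.pow_le_pow_right (by norm_num) hd6
    omega
  interval_cases d
  · norm_num at h; omega
  · have h1 := (Nat.prime_dvd_prime_iff_eq hp Nat.prime_three).1 h; omega
  · left; exact (Nat.prime_dvd_prime_iff_eq hp (by norm_num)).1 h
  · have h1 : p ∣ 3 * 5 := h
    rcases hp.dvd_mul.1 h1 with h2 | h2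
    · have := (Nat.prime_dvd_prime_iff_eq hp Nat.prime_three).1 h2; omega
    · have := (Nat.prime_dvd_prime_iff_eq hp Nat.prime_five).1 h2; omega
  · right; exact (Nat.prime_dvd_prime_iff_eq hp (by norm_num)).1 h
  · have h1 : p ∣ 3 * (3 * 7) := h
    rcases hp.dvd_mul.1 h1 with h2 | h2
    · have := (Nat.prime_dvd_prime_iff_eq hp Nat.prime_three).1 h2; omega
    · rcases hp.dvd_mul.1 h2 with h2 | h2
      · have := (Nat.prime_dvd_prime_iff_eq hp Nat.prime_three).1 h2; omega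
      · left; exact (Nat.prime_dvd_prime_iff_eq hp (by norm_num)).1 h2

section main

variable {X M : Type*} [Group X] [CommGroup M] {ρ : X →* MulAut M} {f : M → M → ZMod 2} {q : M → ZMod 2}
  {A S : Subgroup X} {D : Subgroup M} {l : M} {c m : ℕ}

/-- the statement without Suzuki components -/
theorem main' [Finite X] [Finite M] (h : Lin ρ f q A S D l c m)
    (hfit : ∀ y : X, (orderOf y).Prime → ¬ (zpowers y).Normal)
    (hsz : ∀ J : Subgroup X, IsComponent J → ¬ Cfsg.Lie.IsoSuzuki J) :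
    ∃ K : Subgroup X, K.Normal ∧ centralizer (K : Set X) = ⊥ ∧
      ((∃ (F : Type) (_ : Field F) (_ : Fintype F) (_ : CharP F 2), 4 ≤ Fintype.card F ∧
        Nonempty (K ≃* Matrix.SpecialLinearGroup (Fin 2) F)) ∨
      (c = 2 ∧ ∃ (F : Type) (_ : Field F) (_ : Fintype F), Fintype.card F = 7 ∧
        Nonempty (K ≃* Matrix.ProjectiveSpecialLinearGroup (Fin 2) F))) := by
  have hV := h.form.sq
  have hcy := h.cyc
  have h2 : pCore 2 X = ⊥ := by
    rw [Cfsg.Agent.Lib.Cores.pCore_def, eq_bot_iff]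
    exact sSup_le fun N hN => (h.o2 N hN.1 hN.2).le
  have hFit := fitting_eq_bot hcy h2 hfit
  have hkz : ∀ K : Subgroup X, IsComponent K → KZero K := by
    intro K hK
    have h1 := center_component hcy h2 hK
    let e : K ⧸ center K ≃* K := (QuotientGroup.quotientMulEquivOfEq h1).trans QuotientGroup.quotientBot
    exact KZeroCongr.kZero_congr e (h.comps K hK.2)
  have h3 : ∀ K : Subgroup X, IsComponent K → 3 ∣ Nat.card K := fun K hK =>
    three_dvd_of_kZero (hkz K hK) (hsz K hK)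
  have hc2 := h.two_le
  have hA4 : 4 ≤ Nat.card A := by
    rw [h.card_A]
    calc 4 = 2 ^ 2 := by norm_num
      _ ≤ 2 ^ c := Nat.pow_le_pow_right (by norm_num) hc2
  -- the component
  obtain ⟨L, hL⟩ : ∃ L : Subgroup X, IsComponent L := by
    by_contra hcon
    push Not at hcon
    have h4 : A = ⊥ := by
      rw [eq_bot_iff]
      intro a _
      rw [Subgroup.mem_bot]
      exact eq_one_of_cent hFit fun K hK => absurd hK (hcon K)
    rw [h4, Subgroup.card_bot] at hA4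
    omega
  have hLn : L.Normal := component_normal hcy hL
  have hLs := simple_component hcy h2 hL
  have hC : centralizer (L : Set X) = ⊥ := by
    rw [eq_bot_iff]
    intro x hx
    rw [Subgroup.mem_bot]
    refine eq_one_of_cent hFit fun K hK => ?_
    rw [component_eq hcy h2 hK hL Nat.prime_three (by norm_num) (h3 K hK) (h3 L hL)]
    exact hx
  have hfa : Fa L A := by
    refine ⟨h.A_sq, fun a _ hal => ?_⟩
    have : a ∈ centralizer (L : Set X) := by
      rw [mem_centralizer_iff]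
      intro l hl
      exact (hal l hl).symm
    rwa [hC, Subgroup.mem_bot] at this
  have hne : ∀ y : X, y ≠ 1 → ∃ v, ρ y v ≠ v := by
    intro y hy
    by_contra hcon
    push Not at hcon
    exact hy (h.faith y hcon)
  -- the order of `M`
  have hMle : Nat.card M ≤ 2 ^ (2 * c + 2) := by
    rw [h.card_M]
    exact Nat.pow_le_pow_right (by norm_num) (by have := h.m_le; omega)
  have hidx : ∀ y : X, (fx ρ y).index ≤ 2 ^ (2 * c + 2) := fun y =>
    (Nat.le_of_dvd Nat.card_pos (Subgroup.index_dvd_card _)).trans hMle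
  refine ⟨L, hLn, hC, ?_⟩
  rcases hkz L hL with ⟨F, _, _, hp, h5, ⟨e⟩⟩ | ⟨F, _, _, f, hf, hF, ⟨e⟩⟩ | hK | ⟨hJ, k, hk⟩
  · have hodd : Odd (Fintype.card F) := hp.odd_of_ne_two (by omega)
    by_cases h5' : Fintype.card F = 5
    · obtain ⟨K, i1, i2, i3, hK4, ⟨e'⟩⟩ := T1Socle.exists_four h5'
      exact Or.inl ⟨K, i1, i2, i3, hK4.ge, ⟨e.trans e'⟩⟩
    · have h7 : 7 ≤ Fintype.card F := by
        have h6 : Fintype.card F ≠ 6 := by
          intro h6
          rw [h6] at hp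
          revert hp
          norm_num
        omega
      have R := Cfsg.Agent.GH.L2Aut.Rep.ofEquiv (Cfsg.Agent.GH.L2Aut.two_ne_zero_of_odd hodd) e
      have hFp : (Nat.card F).Prime := by rw [Nat.card_eq_fintype_card]; exact hp
      have hF7 : 7 ≤ Nat.card F := by rw [Nat.card_eq_fintype_card]; exact h7
      have hA4' := card_le_four R hfa hFp
      have hc2' : c = 2 := by
        rw [h.card_A] at hA4'
        have h6 : 2 ^ c ≤ 2 ^ 2 := hA4'
        have := (Nat.pow_le_pow_iff_right (by norm_num)).1 h6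
        omega
      have hou := FFPsl.orderOf_u (H := X) R hFp
      have hune : ((R.π (Cfsg.Agent.Lib.SL2Mat.up 1) : L) : X) ≠ 1 := by
        intro h1
        rw [h1, orderOf_one] at hou
        omega
      obtain ⟨d, hd, hd1, hd2⟩ := prim (ρ := ρ) hV hFp (by omega) hou (hne _ hune)
      have hd6 : d ≤ 6 := by
        have h6 := hidx ((R.π (Cfsg.Agent.Lib.SL2Mat.up 1) : L) : X)
        rw [hd1, hc2'] at h6
        exact (Nat.pow_le_pow_iff_right (by norm_num)).1 h6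
      rcases arith hFp hF7 hd hd6 hd2 with h8 | h8
      · exact Or.inr ⟨hc2', F, _, _, by rw [← Nat.card_eq_fintype_card, h8], ⟨e⟩⟩
      · exfalso
        obtain ⟨g, hg, hg'⟩ := exists_sixteen h8 R
        have h9 : ((g : X) ^ 8) = 1 := by
          apply h.faith
          intro v
          refine pow_eight hV ?_ ?_ v
          · exact congrArg Subtype.val hg
          · refine hMle.trans ?_
            rw [hc2']; norm_num
        exact hg' (Subtype.ext h9)
  · have h4 : 4 ≤ Fintype.card F := by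
      rw [hF]
      calc 4 = 2 ^ 2 := by norm_num
        _ ≤ 2 ^ f := Nat.pow_le_pow_right (by norm_num) hf
    have hch : CharP F 2 := by
      have hch := ringChar.charP F
      have h1 : ringChar F ∣ 2 ^ f := by
        rw [← hF, ← CharP.cast_eq_zero_iff F (ringChar F), Nat.cast_card_eq_zero]
      have h2 : (ringChar F).Prime := CharP.char_is_prime F (ringChar F)
      have h3 : ringChar F = 2 := (Nat.prime_dvd_prime_iff_eq h2 Nat.prime_two).1 (h2.dvd_of_dvd_pow h1)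
      rwa [h3] at hch
    obtain ⟨g⟩ := WeakTI.PslTwo.nonempty_equiv (F := F)
    exact Or.inl ⟨F, _, _, hch, h4, ⟨e.trans g.symm⟩⟩
  · exact absurd hK (hsz L hL)
  · exfalso
    have hA8 := card_le_eight hJ h.A_sq fun a _ => mem_of_local hJ hk hC a
    have hc3 : c ≤ 3 := by
      rw [h.card_A] at hA8
      have h6 : 2 ^ c ≤ 2 ^ 3 := hA8
      exact (Nat.pow_le_pow_iff_right (by norm_num)).1 h6
    obtain ⟨w, y, hy, -, -, -⟩ := FFJ1.exists_real hJ hk
    have hyX : orderOf (y : X) = 11 := by rw [Subgroup.orderOf_coe, hy]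
    have hy1 : (y : X) ≠ 1 := by
      intro h1
      rw [h1, orderOf_one] at hyX
      omega
    obtain ⟨d, hd, hd1, hd2⟩ := prim (ρ := ρ) hV (l := 11) (by norm_num) (by norm_num) hyX (hne _ hy1)
    have h6 := FFJ1.ten_le d hd hd2
    have h7 := hidx (y : X)
    rw [hd1] at h7
    have h8 := (Nat.pow_le_pow_iff_right (by norm_num)).1 h7
    omega

end main

end Cfsg.Agent.OddCyclic.BTwoLin.Socle
end
end
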